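/-
The split octonions as the Cayley-Dickson double of `M₂(F)`: the Zorn vector-matrix algebra is isomorphic to
`M₂(F) × M₂(F)` with `(x, Y) (u, V) = (x u - adj V Y, V x + Y adj u)`; the automorphisms
`(x, Y) ↦ (A x A⁻¹, B Y A⁻¹)`, `det A = det B`.
-/
import Mathlib
import Cfsg.Statements.S4632

set_option autoImplicit false
set_option linter.all false

namespace Cfsg.Agent.Lib.G2Oct.Oct

open Cfsg.Lie Matrix
open scoped MatrixGroups

variable (F : Type*) [Field F]

/-- Two by two matrices. -/
abbrev M2 := Matrix (Fin 2) (Fin 2) F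

/-- The underlying space of the double. -/
abbrev Oct := M2 F × M2 F

variable {F}

/-- The Cayley-Dickson product. -/
def cdMul (p q : Oct F) : Oct F :=
  (p.1 * q.1 - adjugate q.2 * p.2, q.2 * p.1 + p.2 * adjugate q.1)

@[simp] lemma cdMul_fst (p q : Oct F) : (cdMul p q).1 = p.1 * q.1 - adjugate q.2 * p.2 := rfl
@[simp] lemma cdMul_snd (p q : Oct F) : (cdMul p q).2 = q.2 * p.1 + p.2 * adjugate q.1 := rfl

lemma adj00 (A : M2 F) : adjugate A 0 0 = A 1 1 := by simp [adjugate_fin_two]
lemma adj01 (A : M2 F) : adjugate A 0 1 = - A 0 1 := by simp [adjugate_fin_two]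
lemma adj10 (A : M2 F) : adjugate A 1 0 = - A 1 0 := by simp [adjugate_fin_two]
lemma adj11 (A : M2 F) : adjugate A 1 1 = A 0 0 := by simp [adjugate_fin_two]

variable (F)

/-- The identification with Zorn coordinates. -/
def iota : Oct F ≃ₗ[F] (Fin 8 → F) where
  toFun p := ![p.1 0 0, p.1 0 1, p.2 0 0, p.2 1 0, p.1 1 0, - p.2 1 1, p.2 0 1, p.1 1 1]
  map_add' p q := by
    ext i
    fin_cases i <;> simp [add_comm]
  map_smul' c p := by
    ext i
    fin_cases i <;> simp
  invFun v := (!![v 0, v 1; v 4, v 7], !![v 2, v 6; v 3, - v 5])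
  left_inv p := by
    ext i j <;> fin_cases i <;> fin_cases j <;> simp
  right_inv v := by
    ext i
    fin_cases i <;> simp

variable {F}

theorem zorn_iota (p q : Oct F) : zornMul (iota F p) (iota F q) = iota F (cdMul p q) := by
  ext i
  fin_cases i <;>
    simp [zornMul, iota, dot3, cross3, zA, zB, cdMul, adj00, adj01, adj10, adj11, Matrix.mul_apply, Fin.sum_univ_two] <;>
    ring

variable (F)

/-- The automorphism group of the double. -/
def AutO : Subgroup (Oct F ≃ₗ[F] Oct F) where
  carrier := {s | ∀ p q, s (cdMul p q) = cdMul (s p) (s q)}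
  mul_mem' {a b} ha hb p q := by
    simp only [LinearEquiv.mul_apply]
    rw [hb, ha]
  one_mem' p q := rfl
  inv_mem' {a} ha p q := by
    apply a.injective
    rw [ha]
    change a (a.symm (cdMul p q)) = cdMul (a (a.symm p)) (a (a.symm q))
    simp

/-- From `GL₈` to the linear automorphisms of the double. -/
noncomputable def toO : GL (Fin 8) F ≃* (Oct F ≃ₗ[F] Oct F) where
  toFun g := ((iota F).trans (Matrix.GeneralLinearGroup.toLin g).toLinearEquiv).trans (iota F).symm
  invFun s := Matrix.GeneralLinearGroup.toLin.symm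
    (LinearMap.GeneralLinearGroup.ofLinearEquiv (((iota F).symm.trans s).trans (iota F)))
  left_inv g := by
    apply Matrix.GeneralLinearGroup.toLin.injective
    simp only [MulEquiv.apply_symm_apply]
    ext x
    simp
  right_inv s := by
    apply LinearEquiv.ext
    intro x
    simp only [MulEquiv.apply_symm_apply]
    simp
  map_mul' a b := by
    apply LinearEquiv.ext
    intro x
    simp [Matrix.mulVec_mulVec]

variable {F}

lemma toO_apply (g : GL (Fin 8) F) (p : Oct F) :
    toO F g p = (iota F).symm ((g : Matrix (Fin 8) (Fin 8) F) *ᵥ iota F p) := by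
  simp [toO]

lemma mem_AutO_iff (g : GL (Fin 8) F) : toO F g ∈ AutO F ↔ g ∈ G2 F := by
  constructor
  · intro h x y
    have h1 := h ((iota F).symm x) ((iota F).symm y)
    rw [toO_apply, toO_apply, toO_apply] at h1
    simp only [Units.coeHom_apply]
    apply (iota F).symm.injective
    rw [← zorn_iota] at h1
    simp only [LinearEquiv.apply_symm_apply] at h1
    rw [h1]
    apply (iota F).injective
    rw [← zorn_iota]
    simp
  · intro h p q
    have h1 := h (iota F p) (iota F q)
    rw [toO_apply, toO_apply, toO_apply]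
    simp only [Units.coeHom_apply, ← zorn_iota] at h1 ⊢
    rw [h1]
    apply (iota F).injective
    rw [← zorn_iota]
    simp

/-- The automorphism groups agree. -/
noncomputable def g2Equiv : G2 F ≃* AutO F :=
  ((toO F).subgroupMap (G2 F)).trans (MulEquiv.subgroupCongr (by
    ext s
    constructor
    · rintro ⟨g, hg, rfl⟩
      exact (mem_AutO_iff g).2 hg
    · intro hs
      refine ⟨(toO F).symm s, ?_, by simp⟩
      have : (toO F).symm s ∈ G2 F := by
        rw [← mem_AutO_iff]
        simpa using hs
      exact this))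

end Cfsg.Agent.Lib.G2Oct.Oct
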