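/-
The automorphism group of Zorn's algebra on `F⁸` as linear equivalences; the identity, trace and norm.
-/
import Cfsg.Agent.Lib.G2Oct.Oct

set_option autoImplicit false
set_option linter.all false

namespace Cfsg.Agent.Lib.G2Oct.Aut8

open Cfsg.Lie Matrix
open Cfsg.Agent.Lib.G2Oct.Oct

/-- Column vectors. -/
abbrev V (F : Type*) := Fin 8 → F

variable (F : Type*) [Field F]

/-- The automorphism group of Zorn's algebra. -/
def Aut8 : Subgroup (V F ≃ₗ[F] V F) where
  carrier := {s | ∀ x y, s (zornMul x y) = zornMul (s x) (s y)}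
  mul_mem' {a b} ha hb p q := by
    simp only [LinearEquiv.mul_apply]
    rw [hb, ha]
  one_mem' p q := rfl
  inv_mem' {a} ha p q := by
    apply a.injective
    rw [ha]
    change a (a.symm (zornMul p q)) = zornMul (a (a.symm p)) (a (a.symm q))
    simp

variable {F}

lemma mem_Aut8 {s : V F ≃ₗ[F] V F} : s ∈ Aut8 F ↔ ∀ x y, s (zornMul x y) = zornMul (s x) (s y) := Iff.rfl

lemma Aut8_mul (s : Aut8 F) (x y : V F) :
    (s : V F ≃ₗ[F] V F) (zornMul x y) = zornMul ((s : V F ≃ₗ[F] V F) x) ((s : V F ≃ₗ[F] V F) y) := s.2 x y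

/-- Transport of a linear equivalence to the double. -/
noncomputable def toDouble : (V F ≃ₗ[F] V F) ≃* (Oct F ≃ₗ[F] Oct F) where
  toFun s := ((iota F).trans s).trans (iota F).symm
  invFun s := ((iota F).symm.trans s).trans (iota F)
  left_inv s := by ext x; simp
  right_inv s := by ext x <;> simp
  map_mul' a b := by
    apply LinearEquiv.ext
    intro x
    simp

lemma toDouble_apply (s : V F ≃ₗ[F] V F) (p : Oct F) : toDouble s p = (iota F).symm (s (iota F p)) := rfl

lemma toDouble_mem {s : V F ≃ₗ[F] V F} : toDouble s ∈ AutO F ↔ s ∈ Aut8 F := by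
  constructor
  · intro h x y
    have h1 := h ((iota F).symm x) ((iota F).symm y)
    simp only [toDouble_apply, LinearEquiv.apply_symm_apply] at h1
    have h2 := congrArg (iota F) h1
    rw [← zorn_iota] at h2
    simp only [LinearEquiv.apply_symm_apply] at h2
    rw [h2]
    have := zorn_iota ((iota F).symm (s x)) ((iota F).symm (s y))
    simp only [LinearEquiv.apply_symm_apply] at this
    rw [this]
  · intro h p q
    simp only [toDouble_apply]
    apply (iota F).injective
    simp only [LinearEquiv.apply_symm_apply]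
    rw [← zorn_iota, h, ← zorn_iota]
    simp

/-- The two automorphism groups. -/
noncomputable def autDouble : Aut8 F ≃* AutO F :=
  (toDouble (F := F)).subgroupMap (Aut8 F) |>.trans (MulEquiv.subgroupCongr (by
    ext s
    constructor
    · rintro ⟨g, hg, rfl⟩
      exact toDouble_mem.2 hg
    · intro hs
      refine ⟨toDouble.symm s, ?_, by simp⟩
      have : toDouble.symm s ∈ Aut8 F := by
        rw [← toDouble_mem]
        simpa using hs
      exact this))

lemma autDouble_apply (s : Aut8 F) (p : Oct F) :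
    (autDouble s : Oct F ≃ₗ[F] Oct F) p = (iota F).symm ((s : V F ≃ₗ[F] V F) (iota F p)) := rfl

/-! ### Identity, trace, norm -/

/-- The identity. -/
def one8 : V F := ![1, 0, 0, 0, 0, 0, 0, 1]

lemma one8_mul (x : V F) : zornMul one8 x = x := by
  ext i
  fin_cases i <;> simp [zornMul, one8, dot3, cross3, zA, zB]

lemma mul_one8 (x : V F) : zornMul x one8 = x := by
  ext i
  fin_cases i <;> simp [zornMul, one8, dot3, cross3, zA, zB]

lemma aut_one (s : Aut8 F) : (s : V F ≃ₗ[F] V F) one8 = one8 := by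
  have h := Aut8_mul s one8 ((s : V F ≃ₗ[F] V F).symm one8)
  rw [one8_mul] at h
  simp only [LinearEquiv.apply_symm_apply, mul_one8] at h
  exact h.symm

/-- The trace. -/
def tr8 (x : V F) : F := x 0 + x 7

/-- The norm. -/
def nm8 (x : V F) : F := x 0 * x 7 - (x 1 * x 4 + x 2 * x 5 + x 3 * x 6)

/-- The polarised norm. -/
def bf8 (x y : V F) : F := x 0 * y 7 + x 7 * y 0 - (x 1 * y 4 + x 4 * y 1 + x 2 * y 5 + x 5 * y 2 + x 3 * y 6 + x 6 * y 3)

lemma sq_eq (x : V F) : zornMul x x = tr8 x • x - nm8 x • one8 := by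
  ext i
  fin_cases i <;> simp [zornMul, one8, dot3, cross3, zA, zB, tr8, nm8] <;> ring

lemma one8_ne : (one8 : V F) ≠ 0 := by
  intro h
  have := congrFun h 0
  simp [one8] at this

lemma aut_tr_nm (s : Aut8 F) (x : V F) :
    tr8 ((s : V F ≃ₗ[F] V F) x) = tr8 x ∧ nm8 ((s : V F ≃ₗ[F] V F) x) = nm8 x := by
  set y := (s : V F ≃ₗ[F] V F) x with hy
  have h1 : zornMul y y = tr8 x • y - nm8 x • one8 := by
    rw [hy, ← Aut8_mul, sq_eq, map_sub, map_smul, map_smul, aut_one]
  have h2 := sq_eq y
  rw [h1] at h2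
  have h3 : (tr8 x - tr8 y) • y = (nm8 x - nm8 y) • one8 := by
    have : (tr8 x - tr8 y) • y - (nm8 x - nm8 y) • one8 =
      (tr8 x • y - nm8 x • one8) - (tr8 y • y - nm8 y • one8) := by
      simp only [sub_smul]
      abel
    rw [← sub_eq_zero, this, h2, sub_self]
  by_cases htr : tr8 x - tr8 y = 0
  · rw [htr, zero_smul] at h3
    have h4 : nm8 x - nm8 y = 0 := by
      by_contra hne
      exact one8_ne ((smul_eq_zero.1 h3.symm).resolve_left hne)
    exact ⟨(sub_eq_zero.1 htr).symm, (sub_eq_zero.1 h4).symm⟩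
  · exfalso
    -- `y` is a scalar, hence so is `x`, hence `x = y`
    have hy2 : y = ((tr8 x - tr8 y)⁻¹ * (nm8 x - nm8 y)) • one8 := by
      rw [mul_smul, ← h3, smul_smul, inv_mul_cancel₀ htr, one_smul]
    have hx2 : x = ((tr8 x - tr8 y)⁻¹ * (nm8 x - nm8 y)) • one8 := by
      apply (s : V F ≃ₗ[F] V F).injective
      rw [map_smul, aut_one, ← hy, ← hy2]
    have : x = y := hx2.trans hy2.symm
    apply htr
    rw [← this, sub_self]

end Cfsg.Agent.Lib.G2Oct.Aut8
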