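/-
The root elements `y_r(t)` of the automorphism group of Zorn's algebra and the derivations `Θ_c`:
`y_r(t) Θ_c y_r(-t)` is the combination of the `Θ_l` given by the column `c` of the matrix `x_r(t)`
(in the coding `e_r ↦ r`, `h_i ↦ 12 + i` of the Chevalley basis).
The identity is checked on integer tables of sparse polynomial operators.
-/
import Mathlib
import Cfsg.Agent.Lib.Lie.Core
import Cfsg.Prelude.Def_ChevG2
import Cfsg.Prelude.Def_G2
import Cfsg.Agent.Lib.G2Oct.Aut8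

set_option autoImplicit false
set_option linter.all false

namespace Cfsg.Agent.Lib.G2Oct.Roots

open Cfsg.Lie Cfsg.Agent.Lib.G2Oct.Aut8

variable {F : Type*} [Field F]

/-- The derivations: `c < 12` the root vectors, `c = 12, 13` the fundamental coroots. -/
def thv (c : Fin 14) (v : Fin 8 → F) : Fin 8 → F :=
  (![
    ![0, 0, 0, -v 1, v 6, 0, 0, 0],
    ![0, 0, 0, -v 2, 0, v 6, 0, 0],
    ![v 6, 0, 0, -v 0 + v 7, v 2, -v 1, 0, -v 6],
    ![v 1, 0, v 6, -v 5, -v 0 + v 7, 0, 0, -v 1],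
    ![v 2, -v 6, 0, v 4, 0, -v 0 + v 7, 0, -v 2],
    ![0, 0, v 1, 0, -v 5, 0, 0, 0],
    ![0, v 2, 0, 0, 0, -v 4, 0, 0],
    ![-v 5, 0, v 0 - v 7, 0, v 3, 0, -v 1, v 5],
    ![-v 4, v 0 - v 7, 0, 0, 0, -v 3, v 2, v 4],
    ![-v 3, -v 5, v 4, 0, 0, 0, v 0 - v 7, v 3],
    ![0, 0, -v 3, 0, 0, 0, v 5, 0],
    ![0, -v 3, 0, 0, 0, 0, v 4, 0],
    ![0, -v 1, 2 * v 2, -v 3, v 4, -2 * v 5, v 6, 0],
    ![0, v 1, -v 2, 0, -v 4, v 5, 0, 0]
  ] : Fin 14 → Fin 8 → F) c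

/-- The root elements. -/
def yv (r : Fin 12) (t : F) (v : Fin 8 → F) : Fin 8 → F :=
  (![
    ![v 0, v 1, v 2, v 3 - t * v 1, v 4 + t * v 6, v 5, v 6, v 7],
    ![v 0, v 1, v 2, v 3 - t * v 2, v 4, v 5 + t * v 6, v 6, v 7],
    ![v 0 + t * v 6, v 1, v 2, v 3 - t * v 0 - t ^ 2 * v 6 + t * v 7, v 4 + t * v 2, v 5 - t * v 1, v 6, v 7 - t * v 6],
    ![v 0 + t * v 1, v 1, v 2 + t * v 6, v 3 - t * v 5, v 4 - t * v 0 - t ^ 2 * v 1 + t * v 7, v 5, v 6, v 7 - t * v 1],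
    ![v 0 + t * v 2, v 1 - t * v 6, v 2, v 3 + t * v 4, v 4, v 5 - t * v 0 - t ^ 2 * v 2 + t * v 7, v 6, v 7 - t * v 2],
    ![v 0, v 1, v 2 + t * v 1, v 3, v 4 - t * v 5, v 5, v 6, v 7],
    ![v 0, v 1 + t * v 2, v 2, v 3, v 4, v 5 - t * v 4, v 6, v 7],
    ![v 0 - t * v 5, v 1, v 2 + t * v 0 - t ^ 2 * v 5 - t * v 7, v 3, v 4 + t * v 3, v 5, v 6 - t * v 1, v 7 + t * v 5],
    ![v 0 - t * v 4, v 1 + t * v 0 - t ^ 2 * v 4 - t * v 7, v 2, v 3, v 4, v 5 - t * v 3, v 6 + t * v 2, v 7 + t * v 4],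
    ![v 0 - t * v 3, v 1 - t * v 5, v 2 + t * v 4, v 3, v 4, v 5, v 6 + t * v 0 - t ^ 2 * v 3 - t * v 7, v 7 + t * v 3],
    ![v 0, v 1, v 2 - t * v 3, v 3, v 4, v 5, v 6 + t * v 5, v 7],
    ![v 0, v 1 - t * v 3, v 2, v 3, v 4, v 5, v 6 + t * v 4, v 7]
  ] : Fin 12 → Fin 8 → F) r

/-! ### Sparse polynomial operators -/

/-- Entries `(row, col, deg, coef)`. -/
abbrev Sp := List (Fin 8 × Fin 8 × ℕ × ℤ)

/-- Evaluation of a sparse operator. -/
def evS (t : F) (P : Sp) (v : Fin 8 → F) (i : Fin 8) : F :=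
  (P.map fun e => if e.1 = i then ((e.2.2.2 : ℤ) : F) * t ^ e.2.2.1 * v e.2.1 else 0).sum

@[simp] lemma evS_nil (t : F) (v : Fin 8 → F) (i : Fin 8) : evS t [] v i = 0 := rfl

lemma evS_cons (t : F) (e : Fin 8 × Fin 8 × ℕ × ℤ) (P : Sp) (v : Fin 8 → F) (i : Fin 8) :
    evS t (e :: P) v i = (if e.1 = i then ((e.2.2.2 : ℤ) : F) * t ^ e.2.2.1 * v e.2.1 else 0) + evS t P v i := by
  simp [evS]

lemma evS_append (t : F) (P Q : Sp) (v : Fin 8 → F) (i : Fin 8) :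
    evS t (P ++ Q) v i = evS t P v i + evS t Q v i := by
  simp [evS]

/-- Composition of sparse operators. -/
def cmp (P Q : Sp) : Sp :=
  P.flatMap fun e => (Q.filter fun f => f.1 = e.2.1).map fun f =>
    (e.1, f.2.1, e.2.2.1 + f.2.2.1, e.2.2.2 * f.2.2.2)

lemma evS_cmp_aux (t : F) (e : Fin 8 × Fin 8 × ℕ × ℤ) (Q : Sp) (v : Fin 8 → F) (i : Fin 8) :
    evS t ((Q.filter fun f => f.1 = e.2.1).map fun f =>
      (e.1, f.2.1, e.2.2.1 + f.2.2.1, e.2.2.2 * f.2.2.2)) v i =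
    if e.1 = i then ((e.2.2.2 : ℤ) : F) * t ^ e.2.2.1 * evS t Q v e.2.1 else 0 := by
  induction Q with
  | nil =>
    simp
  | cons f Q ih =>
    by_cases hf : f.1 = e.2.1
    · simp only [List.filter_cons, hf, decide_true, if_true, List.map_cons, evS_cons, ih]
      by_cases he : e.1 = i
      · simp only [he, if_true]
        push_cast
        rw [pow_add]
        ring
      · simp [he]
    · have hf' : ¬ (f.1 = e.2.1) := hf
      simp only [List.filter_cons, hf', decide_false, Bool.false_eq_true, if_false, evS_cons, ih, zero_add]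

theorem evS_cmp (t : F) (P Q : Sp) (v : Fin 8 → F) (i : Fin 8) :
    evS t (cmp P Q) v i = evS t P (evS t Q v) i := by
  induction P with
  | nil => simp [cmp]
  | cons e P ih =>
    simp only [cmp, List.flatMap_cons, evS_append, evS_cmp_aux, evS_cons] at ih ⊢
    rw [ih]

/-- Scaling by `z t^d`. -/
def scl (d : ℕ) (z : ℤ) (P : Sp) : Sp :=
  P.map fun e => (e.1, e.2.1, e.2.2.1 + d, e.2.2.2 * z)

lemma evS_scl (t : F) (d : ℕ) (z : ℤ) (P : Sp) (v : Fin 8 → F) (i : Fin 8) :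
    evS t (scl d z P) v i = (z : F) * t ^ d * evS t P v i := by
  induction P with
  | nil => simp [scl]
  | cons e P ih =>
    simp only [scl, List.map_cons, evS_cons] at ih ⊢
    rw [ih]
    by_cases he : e.1 = i
    · simp only [he, if_true]
      push_cast
      rw [pow_add]
      ring
    · simp [he]

/-- Insertion into a canonical list, merging like terms. -/
def ins (e : Fin 8 × Fin 8 × ℕ × ℤ) : Sp → Sp
  | [] => if e.2.2.2 = 0 then [] else [e]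
  | f :: L =>
    if e.1 = f.1 ∧ e.2.1 = f.2.1 ∧ e.2.2.1 = f.2.2.1 then
      (if e.2.2.2 + f.2.2.2 = 0 then L else (f.1, f.2.1, f.2.2.1, e.2.2.2 + f.2.2.2) :: L)
    else if e.1.val * 100 + e.2.1.val * 10 + e.2.2.1 < f.1.val * 100 + f.2.1.val * 10 + f.2.2.1 then
      (if e.2.2.2 = 0 then f :: L else e :: f :: L)
    else f :: ins e L

lemma evS_ins (t : F) (e : Fin 8 × Fin 8 × ℕ × ℤ) (L : Sp) (v : Fin 8 → F) (i : Fin 8) :
    evS t (ins e L) v i = evS t [e] v i + evS t L v i := by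
  induction L with
  | nil =>
    by_cases h : e.2.2.2 = 0 <;> simp [ins, h, evS_cons]
  | cons f L ih =>
    simp only [ins]
    by_cases h1 : e.1 = f.1 ∧ e.2.1 = f.2.1 ∧ e.2.2.1 = f.2.2.1
    · rw [if_pos h1]
      obtain ⟨h11, h12, h13⟩ := h1
      by_cases h2 : e.2.2.2 + f.2.2.2 = 0
      · rw [if_pos h2]
        have h5 : ((e.2.2.2 : ℤ) : F) + (f.2.2.2 : ℤ) = 0 := by exact_mod_cast congrArg (Int.cast (R := F)) h2
        simp only [evS_cons, evS_nil, add_zero, h11, h12, h13]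
        split_ifs with h6
        · have : ((e.2.2.2 : ℤ) : F) * t ^ f.2.2.1 * v f.2.1 + (f.2.2.2 : ℤ) * t ^ f.2.2.1 * v f.2.1 = 0 := by
            rw [← add_mul, ← add_mul, h5]; simp
          rw [← add_assoc, this, zero_add]
        · simp
      · rw [if_neg h2]
        simp only [evS_cons, evS_nil, add_zero, h11, h12, h13]
        push_cast
        split_ifs with h6 <;> ring
    · rw [if_neg h1]
      split_ifs with h3 h4
      · simp [evS_cons, h4]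
      · simp [evS_cons]
      · simp only [evS_cons, ih]
        ring

/-- Canonical form. -/
def canon (P : Sp) : Sp := P.foldr ins []

theorem evS_canon (t : F) (P : Sp) (v : Fin 8 → F) (i : Fin 8) :
    evS t (canon P) v i = evS t P v i := by
  induction P with
  | nil => rfl
  | cons e P ih =>
    simp only [canon, List.foldr_cons] at ih ⊢
    rw [evS_ins, ih]
    simp [evS_cons]

/-! ### The tables -/

/-- The table of the derivations, by code (the empty operator out of range). -/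
def TH (c : ℕ) : Sp :=
  match c with
  | 0 => [(3, 1, 0, -1), (4, 6, 0, 1)]
  | 1 => [(3, 2, 0, -1), (5, 6, 0, 1)]
  | 2 => [(0, 6, 0, 1), (3, 0, 0, -1), (3, 7, 0, 1), (4, 2, 0, 1), (5, 1, 0, -1), (7, 6, 0, -1)]
  | 3 => [(0, 1, 0, 1), (2, 6, 0, 1), (3, 5, 0, -1), (4, 0, 0, -1), (4, 7, 0, 1), (7, 1, 0, -1)]
  | 4 => [(0, 2, 0, 1), (1, 6, 0, -1), (3, 4, 0, 1), (5, 0, 0, -1), (5, 7, 0, 1), (7, 2, 0, -1)]
  | 5 => [(2, 1, 0, 1), (4, 5, 0, -1)]
  | 6 => [(1, 2, 0, 1), (5, 4, 0, -1)]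
  | 7 => [(0, 5, 0, -1), (2, 0, 0, 1), (2, 7, 0, -1), (4, 3, 0, 1), (6, 1, 0, -1), (7, 5, 0, 1)]
  | 8 => [(0, 4, 0, -1), (1, 0, 0, 1), (1, 7, 0, -1), (5, 3, 0, -1), (6, 2, 0, 1), (7, 4, 0, 1)]
  | 9 => [(0, 3, 0, -1), (1, 5, 0, -1), (2, 4, 0, 1), (6, 0, 0, 1), (6, 7, 0, -1), (7, 3, 0, 1)]
  | 10 => [(2, 3, 0, -1), (6, 5, 0, 1)]
  | 11 => [(1, 3, 0, -1), (6, 4, 0, 1)]
  | 12 => [(1, 1, 0, -1), (2, 2, 0, 2), (3, 3, 0, -1), (4, 4, 0, 1), (5, 5, 0, -2), (6, 6, 0, 1)]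
  | 13 => [(1, 1, 0, 1), (2, 2, 0, -1), (4, 4, 0, -1), (5, 5, 0, 1)]
  | _ => []

/-- The table of the root elements. -/
def YP (r : ℕ) : Sp :=
  match r with
  | 0 => [(0, 0, 0, 1), (1, 1, 0, 1), (2, 2, 0, 1), (3, 3, 0, 1), (4, 4, 0, 1), (5, 5, 0, 1), (6, 6, 0, 1), (7, 7, 0, 1), (3, 1, 1, -1), (4, 6, 1, 1)]
  | 1 => [(0, 0, 0, 1), (1, 1, 0, 1), (2, 2, 0, 1), (3, 3, 0, 1), (4, 4, 0, 1), (5, 5, 0, 1), (6, 6, 0, 1), (7, 7, 0, 1), (3, 2, 1, -1), (5, 6, 1, 1)]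
  | 2 => [(0, 0, 0, 1), (1, 1, 0, 1), (2, 2, 0, 1), (3, 3, 0, 1), (4, 4, 0, 1), (5, 5, 0, 1), (6, 6, 0, 1), (7, 7, 0, 1), (0, 6, 1, 1), (3, 0, 1, -1), (3, 7, 1, 1), (4, 2, 1, 1), (5, 1, 1, -1), (7, 6, 1, -1), (3, 6, 2, -1)]
  | 3 => [(0, 0, 0, 1), (1, 1, 0, 1), (2, 2, 0, 1), (3, 3, 0, 1), (4, 4, 0, 1), (5, 5, 0, 1), (6, 6, 0, 1), (7, 7, 0, 1), (0, 1, 1, 1), (2, 6, 1, 1), (3, 5, 1, -1), (4, 0, 1, -1), (4, 7, 1, 1), (7, 1, 1, -1), (4, 1, 2, -1)]
  | 4 => [(0, 0, 0, 1), (1, 1, 0, 1), (2, 2, 0, 1), (3, 3, 0, 1), (4, 4, 0, 1), (5, 5, 0, 1), (6, 6, 0, 1), (7, 7, 0, 1), (0, 2, 1, 1), (1, 6, 1, -1), (3, 4, 1, 1), (5, 0, 1, -1), (5, 7, 1, 1), (7, 2, 1, -1), (5, 2, 2, -1)]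
  | 5 => [(0, 0, 0, 1), (1, 1, 0, 1), (2, 2, 0, 1), (3, 3, 0, 1), (4, 4, 0, 1), (5, 5, 0, 1), (6, 6, 0, 1), (7, 7, 0, 1), (2, 1, 1, 1), (4, 5, 1, -1)]
  | 6 => [(0, 0, 0, 1), (1, 1, 0, 1), (2, 2, 0, 1), (3, 3, 0, 1), (4, 4, 0, 1), (5, 5, 0, 1), (6, 6, 0, 1), (7, 7, 0, 1), (1, 2, 1, 1), (5, 4, 1, -1)]
  | 7 => [(0, 0, 0, 1), (1, 1, 0, 1), (2, 2, 0, 1), (3, 3, 0, 1), (4, 4, 0, 1), (5, 5, 0, 1), (6, 6, 0, 1), (7, 7, 0, 1), (0, 5, 1, -1), (2, 0, 1, 1), (2, 7, 1, -1), (4, 3, 1, 1), (6, 1, 1, -1), (7, 5, 1, 1), (2, 5, 2, -1)]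
  | 8 => [(0, 0, 0, 1), (1, 1, 0, 1), (2, 2, 0, 1), (3, 3, 0, 1), (4, 4, 0, 1), (5, 5, 0, 1), (6, 6, 0, 1), (7, 7, 0, 1), (0, 4, 1, -1), (1, 0, 1, 1), (1, 7, 1, -1), (5, 3, 1, -1), (6, 2, 1, 1), (7, 4, 1, 1), (1, 4, 2, -1)]
  | 9 => [(0, 0, 0, 1), (1, 1, 0, 1), (2, 2, 0, 1), (3, 3, 0, 1), (4, 4, 0, 1), (5, 5, 0, 1), (6, 6, 0, 1), (7, 7, 0, 1), (0, 3, 1, -1), (1, 5, 1, -1), (2, 4, 1, 1), (6, 0, 1, 1), (6, 7, 1, -1), (7, 3, 1, 1), (6, 3, 2, -1)]
  | 10 => [(0, 0, 0, 1), (1, 1, 0, 1), (2, 2, 0, 1), (3, 3, 0, 1), (4, 4, 0, 1), (5, 5, 0, 1), (6, 6, 0, 1), (7, 7, 0, 1), (2, 3, 1, -1), (6, 5, 1, 1)]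
  | 11 => [(0, 0, 0, 1), (1, 1, 0, 1), (2, 2, 0, 1), (3, 3, 0, 1), (4, 4, 0, 1), (5, 5, 0, 1), (6, 6, 0, 1), (7, 7, 0, 1), (1, 3, 1, -1), (6, 4, 1, 1)]
  | _ => []

/-- The right-hand side of the relation, in terms of `colTerms`. -/
def rhsS (r c : ℕ) : Sp :=
  (Cfsg.Agent.Lib.Lie.Core.colTerms chevG2 r c).flatMap fun e => scl e.2.1 e.2.2 (cmp (TH e.1) (YP r))

/-- The certificate of the relation. -/
def relCheck : Bool :=
  (List.range 12).all fun r => (List.range 14).all fun c =>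
    decide (canon (cmp (YP r) (TH c)) = canon (rhsS r c))

theorem relCheck_true : relCheck = true := by decide +kernel

theorem rel_sparse (r c : ℕ) (hr : r < 12) (hc : c < 14) (t : F) (v : Fin 8 → F) (i : Fin 8) :
    evS t (YP r) (evS t (TH c) v) i = evS t (rhsS r c) v i := by
  have h := relCheck_true
  simp only [relCheck, List.all_eq_true, List.mem_range, decide_eq_true_eq] at h
  have h3 := h r hr c hc
  rw [← evS_cmp, ← evS_canon, h3, evS_canon]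

set_option maxHeartbeats 4000000 in
theorem thv_eq (c : Fin 14) (t : F) (v : Fin 8 → F) : thv c v = evS t (TH c.val) v := by
  fin_cases c <;> ext i <;> fin_cases i <;>
    simp [thv, evS, TH] <;> ring

set_option maxHeartbeats 4000000 in
theorem yv_eq (r : Fin 12) (t : F) (v : Fin 8 → F) : yv r t v = evS t (YP r.val) v := by
  fin_cases r <;> ext i <;> fin_cases i <;>
    simp [yv, evS, YP] <;> ring

lemma evS_add (t : F) (P : Sp) (v w : Fin 8 → F) (i : Fin 8) :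
    evS t P (v + w) i = evS t P v i + evS t P w i := by
  induction P with
  | nil => simp
  | cons e P ih =>
    simp only [evS_cons, ih, Pi.add_apply]
    split_ifs <;> ring

lemma evS_smul (t : F) (P : Sp) (c : F) (v : Fin 8 → F) (i : Fin 8) :
    evS t P (c • v) i = c * evS t P v i := by
  induction P with
  | nil => simp
  | cons e P ih =>
    simp only [evS_cons, ih, Pi.smul_apply, smul_eq_mul]
    split_ifs <;> ring

lemma TH_out (u : ℕ) (h : 14 ≤ u) : TH u = [] := by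
  obtain ⟨n, rfl⟩ := Nat.exists_eq_add_of_le' h
  rfl

lemma evS_TH_indep (s t : F) (u : ℕ) (v : Fin 8 → F) : evS s (TH u) v = evS t (TH u) v := by
  by_cases h : u < 14
  · rw [← thv_eq ⟨u, h⟩ s v, thv_eq ⟨u, h⟩ t v]
  · rw [TH_out u (by omega)]
    funext i
    simp

/-- The derivations as linear maps. -/
def thL (u : ℕ) : V F →ₗ[F] V F where
  toFun v := evS 1 (TH u) v
  map_add' v w := by
    funext i
    exact evS_add _ _ _ _ _
  map_smul' c v := by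
    funext i
    exact evS_smul _ _ _ _ _

lemma thL_apply (u : ℕ) (v : V F) : thL u v = evS 1 (TH u) v := rfl

lemma thL_eq (c : Fin 14) (v : V F) : thL c.val v = thv c v := by
  rw [thL_apply, thv_eq c 1 v]

lemma thL_out (u : ℕ) (h : 14 ≤ u) : (thL u : V F →ₗ[F] V F) = 0 := by
  ext x i
  simp [thL_apply, TH_out u h]

/-- The root elements as linear maps. -/
def yL (r : Fin 12) (t : F) : V F →ₗ[F] V F where
  toFun v := yv r t v
  map_add' v w := by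
    rw [yv_eq, yv_eq, yv_eq]
    funext i
    exact evS_add _ _ _ _ _
  map_smul' c v := by
    rw [yv_eq, yv_eq]
    funext i
    exact evS_smul _ _ _ _ _

lemma yL_apply (r : Fin 12) (t : F) (v : V F) : yL r t v = yv r t v := rfl

set_option maxHeartbeats 8000000 in
theorem yv_zorn (r : Fin 12) (t : F) (x y : Fin 8 → F) :
    yv r t (zornMul x y) = zornMul (yv r t x) (yv r t y) := by
  fin_cases r <;> ext i <;> fin_cases i <;>
    simp [yv, zornMul, dot3, cross3, zA, zB] <;> ring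

set_option maxHeartbeats 8000000 in
theorem yv_add (r : Fin 12) (s t : F) (v : Fin 8 → F) :
    yv r s (yv r t v) = yv r (s + t) v := by
  fin_cases r <;> ext i <;> fin_cases i <;>
    simp [yv] <;> ring

set_option maxHeartbeats 8000000 in
theorem yv_zero (r : Fin 12) (v : Fin 8 → F) : yv r 0 v = v := by
  fin_cases r <;> ext i <;> fin_cases i <;> simp [yv]

/-- The root elements as automorphisms. -/
def yE (r : Fin 12) (t : F) : Aut8 F :=
  ⟨{ yL r t with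
      invFun := yv r (-t)
      left_inv := fun v => by
        change yv r (-t) (yv r t v) = v
        rw [yv_add, neg_add_cancel, yv_zero]
      right_inv := fun v => by
        change yv r t (yv r (-t) v) = v
        rw [yv_add, add_neg_cancel, yv_zero] }, fun x y => yv_zorn r t x y⟩

@[simp] lemma yE_apply (r : Fin 12) (t : F) (v : V F) : (yE r t : V F ≃ₗ[F] V F) v = yv r t v := rfl

/-- Evaluating the right-hand side. -/
lemma evS_flat (t : F) (r : ℕ) (L : List (ℕ × ℕ × ℤ)) (v : Fin 8 → F) (i : Fin 8) :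
    evS t (L.flatMap fun e => scl e.2.1 e.2.2 (cmp (TH e.1) (YP r))) v i =
      ((L.map fun e => ((e.2.2 : F) * t ^ e.2.1) • thL e.1 (evS t (YP r) v)).sum) i := by
  induction L with
  | nil => simp
  | cons e L ih =>
    simp only [List.flatMap_cons, evS_append, ih, List.map_cons, List.sum_cons, Pi.add_apply,
      evS_scl, Pi.smul_apply, smul_eq_mul]
    congr 1
    rw [evS_cmp, thL_apply, evS_TH_indep 1 t]

/-- The relation between the root elements and the derivations. -/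
theorem rel (r : Fin 12) (c : ℕ) (hc : c < 14) (t : F) (v : V F) :
    yv r t (thL c v) = ((Cfsg.Agent.Lib.Lie.Core.colTerms chevG2 r.val c).map fun e =>
      ((e.2.2 : F) * t ^ e.2.1) • thL e.1 (yv r t v)).sum := by
  funext i
  have h := rel_sparse (F := F) r.val c r.isLt hc t v i
  rw [thL_apply, evS_TH_indep 1 t, yv_eq r t, h]
  unfold rhsS
  rw [evS_flat, ← yv_eq r t]

end Cfsg.Agent.Lib.G2Oct.Roots
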