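/-
The Chevalley group of type `G₂` (acting on its Lie algebra) embeds in the automorphism group of Zorn's algebra:
the pairs `(x_r(t), y_r(t))` generate the graph of an injective homomorphism.
-/
import Cfsg.Agent.Lib.G2Oct.Roots

set_option autoImplicit false
set_option linter.all false

namespace Cfsg.Agent.Lib.G2Oct.ChevIso

open Cfsg.Lie Matrix
open Cfsg.Agent.Lib.G2Oct.Aut8 Cfsg.Agent.Lib.G2Oct.Roots Cfsg.Agent.Lib.Lie.Core

variable {F : Type*} [Field F]

/-- The index set. -/
abbrev Ix := chevG2.Idx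

/-- The linear map `Lie algebra → End(F⁸)`. -/
def th (w : Ix → F) : V F →ₗ[F] V F := ∑ l : Ix, w l • thL (code chevG2 l)

lemma th_apply (w : Ix → F) (v : V F) : th w v = ∑ l : Ix, w l • thL (code chevG2 l) v := by
  simp [th, LinearMap.sum_apply]

lemma code_lt14 (l : Ix) : code chevG2 l < 14 := code_lt chevG2 l

lemma sum_vecOf (L : List (ℕ × F)) (x : V F) :
    ∑ l : Ix, vecOf chevG2 L l • thL (code chevG2 l) x = (L.map fun e => e.2 • thL e.1 x).sum := by
  induction L with
  | nil => simp
  | cons e L ih =>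
    simp only [vecOf_cons, add_smul, Finset.sum_add_distrib, ih, List.map_cons, List.sum_cons]
    congr 1
    by_cases he : e.1 < 14
    · have he' : e.1 < chevG2.nroots + chevG2.rank := he
      rw [Finset.sum_eq_single (decode chevG2 e.1 he')]
      · rw [code_decode]
        simp
      · intro b _ hb
        have : e.1 ≠ code chevG2 b := by
          intro h
          apply hb
          apply code_inj chevG2
          rw [code_decode, h]
        simp [this]
      · simp
    · rw [thL_out e.1 (by omega)]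
      simp only [LinearMap.zero_apply, smul_zero]
      apply Finset.sum_eq_zero
      intro b _
      have : e.1 ≠ code chevG2 b := by
        have := code_lt14 b
        omega
      simp [this]

theorem key (r : Fin 12) (t : F) (w : Ix → F) (v : V F) :
    yv r t (th w v) = th (chevG2.xMat F r t *ᵥ w) (yv r t v) := by
  have h1 : yv r t (th w v) = yL r t (th w v) := rfl
  rw [h1, th_apply, map_sum, th_apply]
  simp only [map_smul, yL_apply]
  simp only [Matrix.mulVec, dotProduct, Finset.sum_smul]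
  rw [Finset.sum_comm]
  refine Finset.sum_congr rfl fun c _ => ?_
  rw [rel r (code chevG2 c) (code_lt14 c) t v]
  simp only [mul_smul, mul_comm (chevG2.xMat F r t _ c)]
  rw [← Finset.smul_sum]
  congr 1
  have h5 : ∀ l, chevG2.xMat F r t l c = vecOf chevG2 (evalTerms t (colTerms chevG2 r.val (code chevG2 c))) l :=
    fun l => xMat_apply chevG2 r t l c
  simp only [h5]
  rw [sum_vecOf]
  simp only [evalTerms, List.map_map]
  refine congrArg List.sum (List.map_congr_left fun e _ => ?_)
  simp [mul_smul]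

/-- The graph. -/
def Gam : Subgroup (GL Ix F × Aut8 F) where
  carrier := {p | ∀ w v, (p.2 : V F ≃ₗ[F] V F) (th w v) = th ((p.1 : Matrix Ix Ix F) *ᵥ w) ((p.2 : V F ≃ₗ[F] V F) v)}
  mul_mem' {a b} ha hb w v := by
    simp only [Prod.fst_mul, Prod.snd_mul, Units.val_mul, Subgroup.coe_mul, LinearEquiv.mul_apply]
    rw [hb, ha, Matrix.mulVec_mulVec]
  one_mem' w v := by
    simp
  inv_mem' {a} ha w v := by
    apply (a.2 : V F ≃ₗ[F] V F).injective
    have h1 : (a.2 : V F ≃ₗ[F] V F) ((a⁻¹.2 : V F ≃ₗ[F] V F) (th w v)) = th w v := by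
      rw [← LinearEquiv.mul_apply, Prod.snd_inv, ← Subgroup.coe_mul, mul_inv_cancel]
      rfl
    have h2 : (a.2 : V F ≃ₗ[F] V F) ((a⁻¹.2 : V F ≃ₗ[F] V F) v) = v := by
      rw [← LinearEquiv.mul_apply, Prod.snd_inv, ← Subgroup.coe_mul, mul_inv_cancel]
      rfl
    rw [h1, ha, h2, Matrix.mulVec_mulVec]
    have h3 : (a.1 : Matrix Ix Ix F) * ((a⁻¹.1 : GL Ix F) : Matrix Ix Ix F) = 1 := by
      rw [Prod.fst_inv, ← Units.val_mul, mul_inv_cancel, Units.val_one]
    rw [h3, Matrix.one_mulVec]

lemma mem_Gam {p : GL Ix F × Aut8 F} : p ∈ (Gam : Subgroup (GL Ix F × Aut8 F)) ↔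
    ∀ w v, (p.2 : V F ≃ₗ[F] V F) (th w v) = th ((p.1 : Matrix Ix Ix F) *ᵥ w) ((p.2 : V F ≃ₗ[F] V F) v) := Iff.rfl

/-- The single-coordinate elements of the Lie algebra. -/
lemma th_single (l : Ix) (v : V F) : th (Pi.single l 1) v = thL (code chevG2 l) v := by
  rw [th_apply, Finset.sum_eq_single l]
  · simp
  · intro b _ hb
    simp [Pi.single_eq_of_ne hb]
  · simp

/-- Every derivation is in the image of `th`. -/
lemma th_thv (c : Fin 14) (v : V F) : th (Pi.single (decode chevG2 c.val c.isLt) 1) v = thv c v := by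
  rw [th_single]
  have h : code chevG2 (decode chevG2 c.val c.isLt) = c.val := code_decode chevG2 c.val c.isLt
  rw [h, thL_eq]

/-- An automorphism commuting with the derivations is trivial. -/
theorem ker_triv (h : Aut8 F) (hc : ∀ c v, (h : V F ≃ₗ[F] V F) (thv c v) = thv c ((h : V F ≃ₗ[F] V F) v)) : h = 1 := by
  set H : V F ≃ₗ[F] V F := (h : V F ≃ₗ[F] V F) with hH
  let e : Fin 8 → V F := fun i => Pi.single i 1
  set x : V F := H (e 0) with hx
  have hzero : ∀ c : Fin 14, thv c (e 0) = 0 → thv c x = 0 := by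
    intro c h0
    rw [hx, ← hc, h0, map_zero]
  have h10 := hzero 0 (by ext i; fin_cases i <;> simp [thv, e])
  have h11 := hzero 1 (by ext i; fin_cases i <;> simp [thv, e])
  have h15 := hzero 5 (by ext i; fin_cases i <;> simp [thv, e])
  have h16 := hzero 6 (by ext i; fin_cases i <;> simp [thv, e])
  have h1a := hzero 10 (by ext i; fin_cases i <;> simp [thv, e])
  have h1b := hzero 11 (by ext i; fin_cases i <;> simp [thv, e])
  have x1 : x 1 = 0 := by simpa [thv] using congrFun h10 3
  have x6 : x 6 = 0 := by simpa [thv] using congrFun h10 4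
  have x2 : x 2 = 0 := by simpa [thv] using congrFun h11 3
  have x5 : x 5 = 0 := by simpa [thv] using congrFun h15 4
  have x4 : x 4 = 0 := by simpa [thv] using congrFun h16 5
  have x3 : x 3 = 0 := by simpa [thv] using congrFun h1a 2
  have htn := aut_tr_nm h (e 0)
  have htr : x 0 + x 7 = 1 := by
    have := htn.1
    simpa [tr8, e, hx] using this
  have hnm : x 0 * x 7 = 0 := by
    have := htn.2
    simp only [nm8] at this
    simpa [e, ← hH, ← hx, x1, x2, x3] using this
  have hcase : x 0 = 0 ∧ x 7 = 1 ∨ x 0 = 1 ∧ x 7 = 0 := by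
    rcases mul_eq_zero.1 hnm with h0 | h0
    · left; exact ⟨h0, by rw [h0, zero_add] at htr; exact htr⟩
    · right; exact ⟨by rw [h0, add_zero] at htr; exact htr, h0⟩
  have he1 : thv 8 (e 0) = e 1 := by ext i; fin_cases i <;> simp [thv, e]
  rcases hcase with ⟨h0, h7⟩ | ⟨h0, h7⟩
  · exfalso
    have h1 : H (e 1) = thv 8 x := by rw [← he1, hx, ← hH] at *; exact hc 8 _
    have h2 : zornMul (e 0) (e 1) = e 1 := by
      ext i; fin_cases i <;> simp [zornMul, dot3, cross3, zA, zB, e]
    have h3 := Aut8_mul h (e 0) (e 1)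
    rw [h2, ← hH, ← hx, h1] at h3
    have h4 := congrFun h3 1
    simp [zornMul, dot3, cross3, zA, zB, thv, x1, x2, x3, x4, x5, x6, h0, h7] at h4
  · have hx0 : x = e 0 := by
      ext i; fin_cases i <;> simp [e, h0, h7, x1, x2, x3, x4, x5, x6]
    have hfix : ∀ c : Fin 14, H (thv c (e 0)) = thv c (e 0) := by
      intro c
      rw [hc, ← hx, hx0]
    have hE1 : H (e 1) = e 1 := by
      rw [← he1]; exact hfix 8
    have hE2 : H (e 2) = e 2 := by
      have h : thv 7 (e 0) = e 2 := by ext i; fin_cases i <;> simp [thv, e]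
      rw [← h]; exact hfix 7
    have hE6 : H (e 6) = e 6 := by
      have h : thv 9 (e 0) = e 6 := by ext i; fin_cases i <;> simp [thv, e]
      rw [← h]; exact hfix 9
    have hE3 : H (e 3) = e 3 := by
      have h : thv 2 (e 0) = - e 3 := by ext i; fin_cases i <;> simp [thv, e]
      have := hfix 2
      rw [h, map_neg, neg_inj] at this
      exact this
    have hE4 : H (e 4) = e 4 := by
      have h : thv 3 (e 0) = - e 4 := by ext i; fin_cases i <;> simp [thv, e]
      have := hfix 3
      rw [h, map_neg, neg_inj] at this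
      exact this
    have hE5 : H (e 5) = e 5 := by
      have h : thv 4 (e 0) = - e 5 := by ext i; fin_cases i <;> simp [thv, e]
      have := hfix 4
      rw [h, map_neg, neg_inj] at this
      exact this
    have hE7 : H (e 7) = e 7 := by
      have h1 : (one8 : V F) = e 0 + e 7 := by
        ext i; fin_cases i <;> simp [one8, e]
      have h2 := aut_one h
      rw [← hH, h1, map_add, ← hx, hx0, add_right_inj] at h2
      exact h2
    have hall : ∀ i, H (e i) = e i := by
      intro i
      fin_cases i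
      · exact hx0
      · exact hE1
      · exact hE2
      · exact hE3
      · exact hE4
      · exact hE5
      · exact hE6
      · exact hE7
    apply Subtype.ext
    apply LinearEquiv.toLinearMap_injective
    apply (Pi.basisFun F (Fin 8)).ext
    intro i
    simpa [e, Pi.basisFun_apply] using hall i

/-- The index set is `Fin 14`. -/
def codeE : Ix ≃ Fin 14 where
  toFun l := ⟨code chevG2 l, code_lt14 l⟩
  invFun c := decode chevG2 c.val c.isLt
  left_inv l := code_inj chevG2 (code_decode chevG2 _ _)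
  right_inv c := Fin.ext (code_decode chevG2 c.val c.isLt)

lemma th_eq_sum (w : Ix → F) (v : V F) : th w v = ∑ c : Fin 14, w (codeE.symm c) • thv c v := by
  rw [th_apply, ← Equiv.sum_comp codeE.symm]
  refine Finset.sum_congr rfl fun c _ => ?_
  congr 1
  have h : code chevG2 (codeE.symm c) = c.val := code_decode chevG2 c.val c.isLt
  rw [h, thL_eq]

lemma sum14 {M : Type*} [AddCommMonoid M] (f : Fin 14 → M) :
    ∑ c, f c = f 0 + f 1 + f 2 + f 3 + f 4 + f 5 + f 6 + f 7 + f 8 + f 9 + f 10 + f 11 + f 12 + f 13 := by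
  simp only [Fin.sum_univ_castSucc, Fin.sum_univ_zero, zero_add]
  rfl

/-- The map `th` is injective. -/
theorem th_inj (w : Ix → F) (h : ∀ v, th w v = 0) : w = 0 := by
  set W : Fin 14 → F := fun c => w (codeE.symm c) with hW
  have hs : ∀ v i, ∑ c : Fin 14, W c * thv c v i = 0 := by
    intro v i
    have h1 := congrFun (h v) i
    rw [th_eq_sum, Finset.sum_apply] at h1
    simpa using h1
  let e : Fin 8 → V F := fun i => Pi.single i 1
  have h3 : ∀ j i, W 0 * thv 0 (e j) i + W 1 * thv 1 (e j) i + W 2 * thv 2 (e j) i + W 3 * thv 3 (e j) i + W 4 * thv 4 (e j) i +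
    W 5 * thv 5 (e j) i + W 6 * thv 6 (e j) i + W 7 * thv 7 (e j) i + W 8 * thv 8 (e j) i + W 9 * thv 9 (e j) i +
    W 10 * thv 10 (e j) i + W 11 * thv 11 (e j) i + W 12 * thv 12 (e j) i + W 13 * thv 13 (e j) i = 0 := by
    intro j i
    rw [← hs (e j) i, sum14]
  have w0 : W 0 = 0 := by simpa [thv, e] using h3 1 3
  have w1 : W 1 = 0 := by simpa [thv, e] using h3 2 3
  have w2 : W 2 = 0 := by simpa [thv, e] using h3 6 0
  have w3 : W 3 = 0 := by simpa [thv, e] using h3 1 0
  have w4 : W 4 = 0 := by simpa [thv, e] using h3 2 0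
  have w5 : W 5 = 0 := by simpa [thv, e] using h3 1 2
  have w6 : W 6 = 0 := by simpa [thv, e] using h3 2 1
  have w7 : W 7 = 0 := by simpa [thv, e] using h3 5 0
  have w8 : W 8 = 0 := by simpa [thv, e] using h3 4 0
  have w9 : W 9 = 0 := by simpa [thv, e] using h3 3 0
  have w10 : W 10 = 0 := by simpa [thv, e] using h3 3 2
  have w11 : W 11 = 0 := by simpa [thv, e] using h3 3 1
  have h11 := h3 1 1
  have h22 := h3 2 2
  simp [thv, e, w0, w1, w2, w3, w4, w5, w6, w7, w8, w9, w10, w11] at h11 h22
  have w12 : W 12 = 0 := by linear_combination h11 + h22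
  have w13 : W 13 = 0 := by linear_combination 2 * h11 + h22
  have hall : W = 0 := by
    funext c
    fin_cases c <;> assumption
  funext l
  have := congrFun hall (codeE l)
  simpa [hW] using this

/-- Generators of the Chevalley group are in the graph. -/
lemma gen_mem (g : GL Ix F) (r : Fin 12) (t : F) (hg : (g : Matrix Ix Ix F) = chevG2.xMat F r t) :
    (g, yE r t) ∈ (Gam : Subgroup (GL Ix F × Aut8 F)) := by
  intro w v
  simp only [yE_apply]
  rw [hg]
  exact key r t w v

theorem exists_aut (g : GL Ix F) (hg : g ∈ chevG2.group F) : ∃ s : Aut8 F, (g, s) ∈ (Gam : Subgroup (GL Ix F × Aut8 F)) := by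
  induction hg using Subgroup.closure_induction with
  | mem x hx =>
    obtain ⟨r, t, h⟩ := hx
    exact ⟨yE r t, gen_mem x r t h⟩
  | one => exact ⟨1, Subgroup.one_mem _⟩
  | mul x y _ _ hx hy =>
    obtain ⟨a, ha⟩ := hx
    obtain ⟨b, hb⟩ := hy
    exact ⟨a * b, Subgroup.mul_mem _ ha hb⟩
  | inv x _ hx =>
    obtain ⟨a, ha⟩ := hx
    exact ⟨a⁻¹, Subgroup.inv_mem _ ha⟩

lemma Gam_one (s : Aut8 F) (h : ((1 : GL Ix F), s) ∈ (Gam : Subgroup (GL Ix F × Aut8 F))) : s = 1 := by
  apply ker_triv
  intro c v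
  have := h (Pi.single (decode chevG2 c.val c.isLt) 1) v
  simp only [Units.val_one, Matrix.one_mulVec] at this
  rw [th_thv, th_thv] at this
  exact this

lemma Gam_uniq (g : GL Ix F) (s s' : Aut8 F) (h : (g, s) ∈ (Gam : Subgroup (GL Ix F × Aut8 F)))
    (h' : (g, s') ∈ (Gam : Subgroup (GL Ix F × Aut8 F))) : s = s' := by
  have h3 := Subgroup.mul_mem _ (Subgroup.inv_mem _ h) h'
  have h4 : (g, s)⁻¹ * (g, s') = ((1 : GL Ix F), s⁻¹ * s') := by
    simp
  rw [h4] at h3
  have := Gam_one _ h3
  exact (inv_mul_eq_one.1 this)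

lemma Gam_one' (g : GL Ix F) (h : (g, (1 : Aut8 F)) ∈ (Gam : Subgroup (GL Ix F × Aut8 F))) : g = 1 := by
  apply Units.ext
  rw [Units.val_one]
  have h2 : ∀ w : Ix → F, (g : Matrix Ix Ix F) *ᵥ w = w := by
    intro w
    have h3 : (g : Matrix Ix Ix F) *ᵥ w - w = 0 := by
      apply th_inj
      intro v
      have h4 := h w v
      simp only [OneMemClass.coe_one, LinearEquiv.coe_one, id_eq] at h4
      have h5 : ∀ (a b : Ix → F), th (a - b) v = th a v - th b v := by
        intro a b
        simp only [th_apply, Pi.sub_apply, sub_smul, Finset.sum_sub_distrib]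
      rw [h5, ← h4, sub_self]
    exact sub_eq_zero.1 h3
  ext i j
  have := congrFun (h2 (Pi.single j 1)) i
  simpa [Matrix.one_apply, Pi.single_apply, eq_comm] using this

/-- The automorphism attached to an element of the Chevalley group. -/
noncomputable def rhoFun (g : chevG2.group F) : Aut8 F := Classical.choose (exists_aut g.1 g.2)

lemma spec_aux (g : GL Ix F) (hg : g ∈ chevG2.group F) :
    (g, Classical.choose (exists_aut g hg)) ∈ (Gam : Subgroup (GL Ix F × Aut8 F)) :=
  @Classical.choose_spec _ (fun s => (g, s) ∈ (Gam : Subgroup (GL Ix F × Aut8 F))) (exists_aut g hg)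

set_option maxRecDepth 1000000 in
lemma rho_spec0 (g : chevG2.group F) : (g.1, rhoFun g) ∈ (Gam : Subgroup (GL Ix F × Aut8 F)) :=
  spec_aux g.1 g.2

lemma one_mem_Gam : ((1 : GL Ix F), (1 : Aut8 F)) ∈ (Gam : Subgroup (GL Ix F × Aut8 F)) :=
  Subgroup.one_mem (Gam : Subgroup (GL Ix F × Aut8 F))

lemma mul_mem_Gam {a b : GL Ix F} {s t : Aut8 F} (h : (a, s) ∈ (Gam : Subgroup (GL Ix F × Aut8 F)))
    (h' : (b, t) ∈ (Gam : Subgroup (GL Ix F × Aut8 F))) : (a * b, s * t) ∈ (Gam : Subgroup (GL Ix F × Aut8 F)) :=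
  Subgroup.mul_mem (Gam : Subgroup (GL Ix F × Aut8 F)) h h'

/-- The embedding of the Chevalley group in the automorphism group. -/
noncomputable def rho : chevG2.group F →* Aut8 F where
  toFun g := rhoFun g
  map_one' := by
    have h := rho_spec0 (1 : chevG2.group F)
    exact Gam_uniq (1 : GL Ix F) _ _ h one_mem_Gam
  map_mul' a b := by
    have h := rho_spec0 (a * b)
    exact Gam_uniq (a.1 * b.1) _ _ h (mul_mem_Gam (rho_spec0 a) (rho_spec0 b))

lemma rho_spec (g : chevG2.group F) : (g.1, rho g) ∈ (Gam : Subgroup (GL Ix F × Aut8 F)) :=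
  rho_spec0 g

theorem rho_inj : Function.Injective (rho (F := F)) := by
  rw [injective_iff_map_eq_one]
  intro g hg
  have h := rho_spec g
  rw [hg] at h
  exact Subtype.ext (Gam_one' _ h)

/-- The image of a root element. -/
theorem rho_x (g : chevG2.group F) (r : Fin 12) (t : F) (hg : (g.1 : Matrix Ix Ix F) = chevG2.xMat F r t) :
    rho g = yE r t :=
  Gam_uniq g.1 _ _ (rho_spec g) (gen_mem g.1 r t hg)

end Cfsg.Agent.Lib.G2Oct.ChevIso
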