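/-
The stabiliser of the idempotent `E₀` in the automorphism group of Zorn's algebra is `SL₃(F)`.
-/
import Cfsg.Agent.Lib.G2Oct.ChevIso
import Cfsg.Agent.Lib.SemiSimple.Lift

set_option autoImplicit false
set_option linter.all false

namespace Cfsg.Agent.Lib.G2Oct.Stab

open Cfsg.Lie Matrix
open Cfsg.Agent.Lib.G2Oct.Aut8
open scoped MatrixGroups

variable {F : Type*} [Field F]

/-- The basis vectors. -/
def E (i : Fin 8) : V F := Pi.single i 1

lemma E_apply (i j : Fin 8) : (E i : V F) j = if j = i then 1 else 0 := by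
  simp [E, Pi.single_apply]

/-- The block action. -/
def sv (M P : Matrix (Fin 3) (Fin 3) F) (v : V F) : V F :=
  ![v 0, M 0 0 * v 1 + M 0 1 * v 2 + M 0 2 * v 3, M 1 0 * v 1 + M 1 1 * v 2 + M 1 2 * v 3,
    M 2 0 * v 1 + M 2 1 * v 2 + M 2 2 * v 3,
    P 0 0 * v 4 + P 0 1 * v 5 + P 0 2 * v 6, P 1 0 * v 4 + P 1 1 * v 5 + P 1 2 * v 6,
    P 2 0 * v 4 + P 2 1 * v 5 + P 2 2 * v 6, v 7]

lemma sv_comp (M P M' P' : Matrix (Fin 3) (Fin 3) F) (v : V F) :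
    sv M P (sv M' P' v) = sv (M * M') (P * P') v := by
  ext i
  fin_cases i <;> simp [sv, Matrix.mul_apply, Fin.sum_univ_three] <;> ring

lemma sv_one (v : V F) : sv 1 1 v = v := by
  ext i
  fin_cases i <;> simp [sv, Matrix.one_apply]

/-- The cofactor matrix. -/
noncomputable def cof (M : Matrix (Fin 3) (Fin 3) F) : Matrix (Fin 3) (Fin 3) F := (adjugate M)ᵀ

lemma cof_mul (M N : Matrix (Fin 3) (Fin 3) F) : cof (M * N) = cof M * cof N := by
  simp [cof, adjugate_mul_distrib, transpose_mul]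

lemma cof_one : cof (1 : Matrix (Fin 3) (Fin 3) F) = 1 := by
  simp [cof]

lemma sv_add (M P : Matrix (Fin 3) (Fin 3) F) (v w : V F) : sv M P (v + w) = sv M P v + sv M P w := by
  ext i
  fin_cases i <;> simp [sv] <;> ring

lemma sv_smul (M P : Matrix (Fin 3) (Fin 3) F) (c : F) (v : V F) : sv M P (c • v) = c • sv M P v := by
  ext i
  fin_cases i <;> simp [sv] <;> ring

set_option maxHeartbeats 1000000 in
lemma sv_zorn (A : Matrix (Fin 3) (Fin 3) F) (hA : A.det = 1) (x y : V F) :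
    sv A (cof A) (zornMul x y) = zornMul (sv A (cof A) x) (sv A (cof A) y) := by
  have hd : A 0 0 * A 1 1 * A 2 2 - A 0 0 * A 1 2 * A 2 1 - A 0 1 * A 1 0 * A 2 2 + A 0 1 * A 1 2 * A 2 0 +
      A 0 2 * A 1 0 * A 2 1 - A 0 2 * A 1 1 * A 2 0 = 1 := by
    rw [← hA, Matrix.det_fin_three]
  ext i
  fin_cases i <;>
    simp [sv, cof, zornMul, dot3, cross3, zA, zB, Matrix.adjugate_fin_three, Matrix.transpose_apply]
  · linear_combination (-(x 1 * y 4 + x 2 * y 5 + x 3 * y 6)) * hd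
  · linear_combination (A 0 0 * (x 5 * y 6 - x 6 * y 5) + A 0 1 * (x 6 * y 4 - x 4 * y 6) + A 0 2 * (x 4 * y 5 - x 5 * y 4)) * hd
  · linear_combination (A 1 0 * (x 5 * y 6 - x 6 * y 5) + A 1 1 * (x 6 * y 4 - x 4 * y 6) + A 1 2 * (x 4 * y 5 - x 5 * y 4)) * hd
  · linear_combination (A 2 0 * (x 5 * y 6 - x 6 * y 5) + A 2 1 * (x 6 * y 4 - x 4 * y 6) + A 2 2 * (x 4 * y 5 - x 5 * y 4)) * hd
  · ring
  · ring
  · ring
  · linear_combination (-(x 4 * y 1 + x 5 * y 2 + x 6 * y 3)) * hd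

/-- The embedding of `SL₃`. -/
noncomputable def sE (A : SL(3, F)) : V F ≃ₗ[F] V F where
  toFun := sv A.1 (cof A.1)
  map_add' := sv_add _ _
  map_smul' := sv_smul _ _
  invFun := sv (A⁻¹).1 (cof (A⁻¹).1)
  left_inv v := by
    simp only [sv_comp, ← cof_mul, ← Matrix.SpecialLinearGroup.coe_mul, inv_mul_cancel,
      Matrix.SpecialLinearGroup.coe_one, cof_one, sv_one]
  right_inv v := by
    simp only [sv_comp, ← cof_mul, ← Matrix.SpecialLinearGroup.coe_mul, mul_inv_cancel,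
      Matrix.SpecialLinearGroup.coe_one, cof_one, sv_one]

lemma sE_apply (A : SL(3, F)) (v : V F) : sE A v = sv A.1 (cof A.1) v := rfl

/-- The embedding of `SL₃` in the automorphism group. -/
noncomputable def sl3Hom : SL(3, F) →* Aut8 F :=
  MonoidHom.mk' (fun A => ⟨sE A, fun x y => sv_zorn A.1 A.2 x y⟩) (by
    intro A B
    apply Subtype.ext
    apply LinearEquiv.ext
    intro v
    simp only [Subgroup.coe_mul, LinearEquiv.mul_apply, sE_apply, sv_comp, ← cof_mul,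
      Matrix.SpecialLinearGroup.coe_mul])

lemma sl3Hom_apply (A : SL(3, F)) (v : V F) : (sl3Hom A : V F ≃ₗ[F] V F) v = sv A.1 (cof A.1) v := rfl

theorem sl3Hom_inj : Function.Injective (sl3Hom (F := F)) := by
  rw [injective_iff_map_eq_one]
  intro A hA
  have h : ∀ v : V F, sv A.1 (cof A.1) v = v := by
    intro v
    have := congrArg (fun s : Aut8 F => (s : V F ≃ₗ[F] V F) v) hA
    simpa [sl3Hom_apply] using this
  apply Subtype.ext
  ext i j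
  fin_cases j
  · have := congrFun (h (E 1))
    fin_cases i
    · simpa [sv, E_apply] using this 1
    · simpa [sv, E_apply] using this 2
    · simpa [sv, E_apply] using this 3
  · have := congrFun (h (E 2))
    fin_cases i
    · simpa [sv, E_apply] using this 1
    · simpa [sv, E_apply] using this 2
    · simpa [sv, E_apply] using this 3
  · have := congrFun (h (E 3))
    fin_cases i
    · simpa [sv, E_apply] using this 1
    · simpa [sv, E_apply] using this 2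
    · simpa [sv, E_apply] using this 3

lemma E0_mul (y : V F) : zornMul (E 0) y = ![y 0, y 1, y 2, y 3, 0, 0, 0, 0] := by
  ext i
  fin_cases i <;> simp [zornMul, dot3, cross3, zA, zB, E_apply]

lemma mul_E0 (y : V F) : zornMul y (E 0) = ![y 0, 0, 0, 0, y 4, y 5, y 6, 0] := by
  ext i
  fin_cases i <;> simp [zornMul, dot3, cross3, zA, zB, E_apply]

lemma E7_mul (y : V F) : zornMul (E 7) y = ![0, 0, 0, 0, y 4, y 5, y 6, y 7] := by
  ext i
  fin_cases i <;> simp [zornMul, dot3, cross3, zA, zB, E_apply]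

lemma mul_E7 (y : V F) : zornMul y (E 7) = ![0, y 1, y 2, y 3, 0, 0, 0, y 7] := by
  ext i
  fin_cases i <;> simp [zornMul, dot3, cross3, zA, zB, E_apply]

lemma one8_eq : (one8 : V F) = E 0 + E 7 := by
  ext i
  fin_cases i <;> simp [one8, E_apply]

section stab

variable (g : Aut8 F) (hg : (g : V F ≃ₗ[F] V F) (E 0) = E 0)

include hg

lemma stab_a (i : Fin 8) (h1 : zornMul (E 0 : V F) (E i) = E i) (h2 : zornMul (E i : V F) (E 0) = 0) :
    ((g : V F ≃ₗ[F] V F) (E i)) 0 = 0 ∧ ((g : V F ≃ₗ[F] V F) (E i)) 4 = 0 ∧ ((g : V F ≃ₗ[F] V F) (E i)) 5 = 0 ∧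
      ((g : V F ≃ₗ[F] V F) (E i)) 6 = 0 ∧ ((g : V F ≃ₗ[F] V F) (E i)) 7 = 0 := by
  have h3 := Aut8_mul g (E 0) (E i)
  have h4 := Aut8_mul g (E i) (E 0)
  rw [h1, hg, E0_mul] at h3
  rw [h2, map_zero, hg, mul_E0] at h4
  refine ⟨by simpa using (congrFun h4 0).symm, ?_, ?_, ?_, ?_⟩
  · simpa using congrFun h3 4
  · simpa using congrFun h3 5
  · simpa using congrFun h3 6
  · simpa using congrFun h3 7

lemma stab_b (i : Fin 8) (h1 : zornMul (E 0 : V F) (E i) = 0) (h2 : zornMul (E i : V F) (E 0) = E i) :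
    ((g : V F ≃ₗ[F] V F) (E i)) 0 = 0 ∧ ((g : V F ≃ₗ[F] V F) (E i)) 1 = 0 ∧ ((g : V F ≃ₗ[F] V F) (E i)) 2 = 0 ∧
      ((g : V F ≃ₗ[F] V F) (E i)) 3 = 0 ∧ ((g : V F ≃ₗ[F] V F) (E i)) 7 = 0 := by
  have h3 := Aut8_mul g (E 0) (E i)
  have h4 := Aut8_mul g (E i) (E 0)
  rw [h1, map_zero, hg, E0_mul] at h3
  rw [h2, hg, mul_E0] at h4
  refine ⟨by simpa using (congrFun h3 0).symm, ?_, ?_, ?_, ?_⟩
  · simpa using (congrFun h3 1).symm
  · simpa using (congrFun h3 2).symm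
  · simpa using (congrFun h3 3).symm
  · simpa using congrFun h4 7

lemma stab_a1 : ((g : V F ≃ₗ[F] V F) (E 1)) 0 = 0 ∧ ((g : V F ≃ₗ[F] V F) (E 1)) 4 = 0 ∧ ((g : V F ≃ₗ[F] V F) (E 1)) 5 = 0 ∧ ((g : V F ≃ₗ[F] V F) (E 1)) 6 = 0 ∧ ((g : V F ≃ₗ[F] V F) (E 1)) 7 = 0 := stab_a g hg 1 (by rw [E0_mul]; ext i; fin_cases i <;> simp [E_apply]) (by rw [mul_E0]; ext i; fin_cases i <;> simp [E_apply])
lemma stab_a2 : ((g : V F ≃ₗ[F] V F) (E 2)) 0 = 0 ∧ ((g : V F ≃ₗ[F] V F) (E 2)) 4 = 0 ∧ ((g : V F ≃ₗ[F] V F) (E 2)) 5 = 0 ∧ ((g : V F ≃ₗ[F] V F) (E 2)) 6 = 0 ∧ ((g : V F ≃ₗ[F] V F) (E 2)) 7 = 0 := stab_a g hg 2 (by rw [E0_mul]; ext i; fin_cases i <;> simp [E_apply]) (by rw [mul_E0]; ext i; fin_cases i <;> simp [E_apply])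
lemma stab_a3 : ((g : V F ≃ₗ[F] V F) (E 3)) 0 = 0 ∧ ((g : V F ≃ₗ[F] V F) (E 3)) 4 = 0 ∧ ((g : V F ≃ₗ[F] V F) (E 3)) 5 = 0 ∧ ((g : V F ≃ₗ[F] V F) (E 3)) 6 = 0 ∧ ((g : V F ≃ₗ[F] V F) (E 3)) 7 = 0 := stab_a g hg 3 (by rw [E0_mul]; ext i; fin_cases i <;> simp [E_apply]) (by rw [mul_E0]; ext i; fin_cases i <;> simp [E_apply])
lemma stab_b4 : ((g : V F ≃ₗ[F] V F) (E 4)) 0 = 0 ∧ ((g : V F ≃ₗ[F] V F) (E 4)) 1 = 0 ∧ ((g : V F ≃ₗ[F] V F) (E 4)) 2 = 0 ∧ ((g : V F ≃ₗ[F] V F) (E 4)) 3 = 0 ∧ ((g : V F ≃ₗ[F] V F) (E 4)) 7 = 0 := stab_b g hg 4 (by rw [E0_mul]; ext i; fin_cases i <;> simp [E_apply]) (by rw [mul_E0]; ext i; fin_cases i <;> simp [E_apply])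
lemma stab_b5 : ((g : V F ≃ₗ[F] V F) (E 5)) 0 = 0 ∧ ((g : V F ≃ₗ[F] V F) (E 5)) 1 = 0 ∧ ((g : V F ≃ₗ[F] V F) (E 5)) 2 = 0 ∧ ((g : V F ≃ₗ[F] V F) (E 5)) 3 = 0 ∧ ((g : V F ≃ₗ[F] V F) (E 5)) 7 = 0 := stab_b g hg 5 (by rw [E0_mul]; ext i; fin_cases i <;> simp [E_apply]) (by rw [mul_E0]; ext i; fin_cases i <;> simp [E_apply])
lemma stab_b6 : ((g : V F ≃ₗ[F] V F) (E 6)) 0 = 0 ∧ ((g : V F ≃ₗ[F] V F) (E 6)) 1 = 0 ∧ ((g : V F ≃ₗ[F] V F) (E 6)) 2 = 0 ∧ ((g : V F ≃ₗ[F] V F) (E 6)) 3 = 0 ∧ ((g : V F ≃ₗ[F] V F) (E 6)) 7 = 0 := stab_b g hg 6 (by rw [E0_mul]; ext i; fin_cases i <;> simp [E_apply]) (by rw [mul_E0]; ext i; fin_cases i <;> simp [E_apply])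

lemma stab_dot (i j : Fin 8) (c : F) (h : zornMul (E i : V F) (E j) = c • E 0) :
    (g : V F ≃ₗ[F] V F) (E i) 0 * (g : V F ≃ₗ[F] V F) (E j) 0 + (g : V F ≃ₗ[F] V F) (E i) 1 * (g : V F ≃ₗ[F] V F) (E j) 4 +
     (g : V F ≃ₗ[F] V F) (E i) 2 * (g : V F ≃ₗ[F] V F) (E j) 5 + (g : V F ≃ₗ[F] V F) (E i) 3 * (g : V F ≃ₗ[F] V F) (E j) 6 = c := by
  have h3 := Aut8_mul g (E i) (E j)
  rw [h, map_smul, hg] at h3
  have h4 := congrFun h3 0
  simp [zornMul, dot3, cross3, zA, zB, E_apply] at h4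
  linear_combination -h4

end stab

/-- Coordinates of an automorphism on the `a`-part. -/
def mOf (G : V F → V F) : Matrix (Fin 3) (Fin 3) F :=
  !![G (E 1) 1, G (E 2) 1, G (E 3) 1; G (E 1) 2, G (E 2) 2, G (E 3) 2; G (E 1) 3, G (E 2) 3, G (E 3) 3]

/-- Coordinates of an automorphism on the `b`-part. -/
def pOf (G : V F → V F) : Matrix (Fin 3) (Fin 3) F :=
  !![G (E 4) 4, G (E 5) 4, G (E 6) 4; G (E 4) 5, G (E 5) 5, G (E 6) 5; G (E 4) 6, G (E 5) 6, G (E 6) 6]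

lemma stab_MP (g : Aut8 F) (hg : (g : V F ≃ₗ[F] V F) (E 0) = E 0) :
    (mOf (g : V F ≃ₗ[F] V F))ᵀ * pOf (g : V F ≃ₗ[F] V F) = 1 := by
  have hz : ∀ i j : Fin 8, ∀ c : F, zornMul (E i : V F) (E j) = c • E 0 →
     (g : V F ≃ₗ[F] V F) (E i) 1 * (g : V F ≃ₗ[F] V F) (E j) 4 +
     (g : V F ≃ₗ[F] V F) (E i) 2 * (g : V F ≃ₗ[F] V F) (E j) 5 + (g : V F ≃ₗ[F] V F) (E i) 3 * (g : V F ≃ₗ[F] V F) (E j) 6 = c -
     (g : V F ≃ₗ[F] V F) (E i) 0 * (g : V F ≃ₗ[F] V F) (E j) 0 := by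
    intro i j c h
    rw [← stab_dot g hg i j c h]
    ring
  have a1 := (stab_a1 g hg).1
  have a2 := (stab_a2 g hg).1
  have a3 := (stab_a3 g hg).1
  have h1 : ∀ j : Fin 8, ∀ i : Fin 8, zornMul (E i : V F) (E j) = (if (i.val + 3 = j.val) then (1 : F) else 0) • E 0 ∨ True :=
    fun _ _ => Or.inr trivial
  ext i j
  rw [Matrix.mul_apply, Fin.sum_univ_three]
  fin_cases i <;> fin_cases j
  · have := hz 1 4 1 (by ext i; fin_cases i <;> simp [zornMul, dot3, cross3, zA, zB, E_apply])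
    rw [a1, zero_mul, sub_zero] at this
    simpa [mOf, pOf] using this
  · have := hz 1 5 0 (by ext i; fin_cases i <;> simp [zornMul, dot3, cross3, zA, zB, E_apply])
    rw [a1, zero_mul, sub_zero] at this
    simpa [mOf, pOf] using this
  · have := hz 1 6 0 (by ext i; fin_cases i <;> simp [zornMul, dot3, cross3, zA, zB, E_apply])
    rw [a1, zero_mul, sub_zero] at this
    simpa [mOf, pOf] using this
  · have := hz 2 4 0 (by ext i; fin_cases i <;> simp [zornMul, dot3, cross3, zA, zB, E_apply])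
    rw [a2, zero_mul, sub_zero] at this
    simpa [mOf, pOf] using this
  · have := hz 2 5 1 (by ext i; fin_cases i <;> simp [zornMul, dot3, cross3, zA, zB, E_apply])
    rw [a2, zero_mul, sub_zero] at this
    simpa [mOf, pOf] using this
  · have := hz 2 6 0 (by ext i; fin_cases i <;> simp [zornMul, dot3, cross3, zA, zB, E_apply])
    rw [a2, zero_mul, sub_zero] at this
    simpa [mOf, pOf] using this
  · have := hz 3 4 0 (by ext i; fin_cases i <;> simp [zornMul, dot3, cross3, zA, zB, E_apply])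
    rw [a3, zero_mul, sub_zero] at this
    simpa [mOf, pOf] using this
  · have := hz 3 5 0 (by ext i; fin_cases i <;> simp [zornMul, dot3, cross3, zA, zB, E_apply])
    rw [a3, zero_mul, sub_zero] at this
    simpa [mOf, pOf] using this
  · have := hz 3 6 1 (by ext i; fin_cases i <;> simp [zornMul, dot3, cross3, zA, zB, E_apply])
    rw [a3, zero_mul, sub_zero] at this
    simpa [mOf, pOf] using this

lemma stab_det (g : Aut8 F) (hg : (g : V F ≃ₗ[F] V F) (E 0) = E 0) : (mOf (g : V F ≃ₗ[F] V F)).det = 1 := by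
  have h12 : zornMul (E 1) (E 2) = (E 6 : V F) := by
    ext i; fin_cases i <;> simp [zornMul, dot3, cross3, zA, zB, E_apply]
  have hc := Aut8_mul g (E 1) (E 2)
  rw [h12] at hc
  obtain ⟨a10, a14, a15, a16, a17⟩ := stab_a1 g hg
  obtain ⟨a20, a24, a25, a26, a27⟩ := stab_a2 g hg
  obtain ⟨a30, a34, a35, a36, a37⟩ := stab_a3 g hg
  have hc4 := congrFun hc 4
  have hc5 := congrFun hc 5
  have hc6 := congrFun hc 6
  simp [zornMul, dot3, cross3, zA, zB, a10, a14, a15, a16, a17, a20, a24, a25, a26, a27] at hc4 hc5 hc6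
  have p36 := stab_dot g hg 3 6 1 (by ext i; fin_cases i <;> simp [zornMul, dot3, cross3, zA, zB, E_apply])
  rw [a30, zero_mul, zero_add, hc4, hc5, hc6] at p36
  rw [Matrix.det_fin_three]
  simp only [mOf]
  simp [Matrix.of_apply]
  linear_combination p36

lemma stab_P (g : Aut8 F) (hg : (g : V F ≃ₗ[F] V F) (E 0) = E 0) :
    pOf (g : V F ≃ₗ[F] V F) = cof (mOf (g : V F ≃ₗ[F] V F)) := by
  set M := mOf (g : V F ≃ₗ[F] V F)
  have hMP := stab_MP g hg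
  have hdet := stab_det g hg
  have h1 : (adjugate Mᵀ) * Mᵀ = 1 := by
    rw [adjugate_mul, det_transpose, hdet, one_smul]
  have h2 : pOf (g : V F ≃ₗ[F] V F) = adjugate Mᵀ := by
    calc pOf (g : V F ≃ₗ[F] V F) = (adjugate Mᵀ * Mᵀ) * pOf (g : V F ≃ₗ[F] V F) := by rw [h1, one_mul]
      _ = adjugate Mᵀ * (Mᵀ * pOf (g : V F ≃ₗ[F] V F)) := by rw [Matrix.mul_assoc]
      _ = adjugate Mᵀ := by rw [hMP, Matrix.mul_one]
  rw [h2, cof, adjugate_transpose]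

/-- The stabiliser of `E₀` is the image of `SL₃`. -/
theorem stab_range (g : Aut8 F) (hg : (g : V F ≃ₗ[F] V F) (E 0) = E 0) : ∃ A : SL(3, F), g = sl3Hom A := by
  refine ⟨⟨mOf (g : V F ≃ₗ[F] V F), stab_det g hg⟩, ?_⟩
  have hG7 : (g : V F ≃ₗ[F] V F) (E 7) = E 7 := by
    have h := aut_one g
    rw [one8_eq, map_add, hg] at h
    exact add_left_cancel h
  obtain ⟨a10, a14, a15, a16, a17⟩ := stab_a1 g hg
  obtain ⟨a20, a24, a25, a26, a27⟩ := stab_a2 g hg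
  obtain ⟨a30, a34, a35, a36, a37⟩ := stab_a3 g hg
  obtain ⟨b40, b41, b42, b43, b47⟩ := stab_b4 g hg
  obtain ⟨b50, b51, b52, b53, b57⟩ := stab_b5 g hg
  obtain ⟨b60, b61, b62, b63, b67⟩ := stab_b6 g hg
  apply Subtype.ext
  apply LinearEquiv.toLinearMap_injective
  apply (Pi.basisFun F (Fin 8)).ext
  intro i
  change (g : V F ≃ₗ[F] V F) (Pi.basisFun F (Fin 8) i) = sv (mOf (g : V F ≃ₗ[F] V F)) (cof (mOf (g : V F ≃ₗ[F] V F))) (Pi.basisFun F (Fin 8) i)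
  have hb : (Pi.basisFun F (Fin 8) i) = E i := by simp [E, Pi.basisFun_apply]
  rw [hb, ← stab_P g hg]
  fin_cases i
  · change (g : V F ≃ₗ[F] V F) (E 0) = sv _ _ (E 0)
    rw [hg]
    ext k; fin_cases k <;> simp [sv, E_apply]
  · change (g : V F ≃ₗ[F] V F) (E 1) = sv _ _ (E 1)
    ext k; fin_cases k <;> simp [sv, E_apply, mOf, a10, a14, a15, a16, a17]
  · change (g : V F ≃ₗ[F] V F) (E 2) = sv _ _ (E 2)
    ext k; fin_cases k <;> simp [sv, E_apply, mOf, a20, a24, a25, a26, a27]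
  · change (g : V F ≃ₗ[F] V F) (E 3) = sv _ _ (E 3)
    ext k; fin_cases k <;> simp [sv, E_apply, mOf, a30, a34, a35, a36, a37]
  · change (g : V F ≃ₗ[F] V F) (E 4) = sv _ _ (E 4)
    ext k; fin_cases k <;> simp [sv, E_apply, pOf, b40, b41, b42, b43, b47]
  · change (g : V F ≃ₗ[F] V F) (E 5) = sv _ _ (E 5)
    ext k; fin_cases k <;> simp [sv, E_apply, pOf, b50, b51, b52, b53, b57]
  · change (g : V F ≃ₗ[F] V F) (E 6) = sv _ _ (E 6)
    ext k; fin_cases k <;> simp [sv, E_apply, pOf, b60, b61, b62, b63, b67]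
  · change (g : V F ≃ₗ[F] V F) (E 7) = sv _ _ (E 7)
    rw [hG7]
    ext k; fin_cases k <;> simp [sv, E_apply]

/-- The image of `SL₃` fixes `E₀`. -/
lemma sl3Hom_E0 (A : SL(3, F)) : (sl3Hom A : V F ≃ₗ[F] V F) (E 0) = E 0 := by
  rw [sl3Hom_apply]
  ext k; fin_cases k <;> simp [sv, E_apply]

end Cfsg.Agent.Lib.G2Oct.Stab
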