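/-
Counting the nontrivial idempotents of Zorn's algebra: the automorphism group is the Chevalley group and is
transitive on them.
-/
import Cfsg.Agent.Lib.G2Oct.Stab
import Cfsg.Agent.S1059

set_option autoImplicit false
set_option linter.all false

namespace Cfsg.Agent.Lib.G2Oct.Count

open Cfsg.Lie Matrix Finset
open Cfsg.Agent.Lib.G2Oct.Aut8 Cfsg.Agent.Lib.G2Oct.Stab Cfsg.Agent.Lib.G2Oct.ChevIso
open scoped MatrixGroups

variable {F : Type*} [Field F]

/-- The nontrivial idempotents. -/
def Idem (F : Type*) [Field F] : Set (V F) := {x | zornMul x x = x ∧ x ≠ 0 ∧ x ≠ one8}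

lemma smul_one8_mul (c d : F) : zornMul (c • (one8 : V F)) (d • one8) = (c * d) • one8 := by
  ext i
  fin_cases i <;> simp [zornMul, one8, dot3, cross3, zA, zB]

lemma idem_char {x : V F} (hx : x ∈ Idem F) : tr8 x = 1 ∧ nm8 x = 0 := by
  obtain ⟨h1, h2, h3⟩ := hx
  have h4 := sq_eq x
  rw [h1] at h4
  have h5 : (tr8 x - 1) • x = nm8 x • one8 := by
    have h6 : (tr8 x - 1) • x = (tr8 x • x - nm8 x • one8) - x + nm8 x • one8 := by
      rw [sub_smul, one_smul]
      abel
    rw [h6, ← h4, sub_self, zero_add]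
  by_cases ht : tr8 x - 1 = 0
  · rw [ht, zero_smul] at h5
    have h6 : nm8 x = 0 := by
      by_contra hne
      exact one8_ne ((smul_eq_zero.1 h5.symm).resolve_left hne)
    exact ⟨sub_eq_zero.1 ht, h6⟩
  · exfalso
    have hx : x = ((tr8 x - 1)⁻¹ * nm8 x) • one8 := by
      rw [mul_smul, ← h5, smul_smul, inv_mul_cancel₀ ht, one_smul]
    set c := (tr8 x - 1)⁻¹ * nm8 x with hc
    have h7 := h1
    rw [hx, smul_one8_mul] at h7
    have h8 := congrFun h7 0
    simp [one8] at h8
    have h9 : c * (c - 1) = 0 := by linear_combination h8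
    rcases mul_eq_zero.1 h9 with h10 | h10
    · apply h2
      rw [hx, h10, zero_smul]
    · apply h3
      rw [hx, sub_eq_zero.1 h10, one_smul]

lemma idem_of_char {x : V F} (h1 : tr8 x = 1) (h2 : nm8 x = 0) : x ∈ Idem F := by
  refine ⟨?_, ?_, ?_⟩
  · rw [sq_eq, h1, h2]; simp
  · rintro rfl
    simp [tr8] at h1
  · rintro rfl
    simp [tr8, one8] at h1

lemma E0_idem : (E 0 : V F) ∈ Idem F := idem_of_char (by simp [tr8, E_apply]) (by simp [nm8, E_apply])

lemma aut_idem (s : Aut8 F) {x : V F} (hx : x ∈ Idem F) : (s : V F ≃ₗ[F] V F) x ∈ Idem F := by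
  obtain ⟨h1, h2⟩ := idem_char hx
  have := aut_tr_nm s x
  exact idem_of_char (by rw [this.1, h1]) (by rw [this.2, h2])

section count

variable [Fintype F]

/-- The number of solutions of a non-trivial linear equation. -/
lemma card_dot (a : Fin 3 → F) (ha : a ≠ 0) (u : F) [DecidableEq F] :
    (univ.filter fun b : Fin 3 → F => a ⬝ᵥ b = u).card = Fintype.card F ^ 2 := by
  classical
  let f : (Fin 3 → F) →+ F :=
    { toFun := fun b => a ⬝ᵥ b
      map_zero' := by simp
      map_add' := fun x y => by simp [dotProduct_add] }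
  have hs : Function.Surjective f := by
    obtain ⟨i, hi⟩ : ∃ i, a i ≠ 0 := by
      by_contra h
      push Not at h
      exact ha (funext h)
    intro v
    refine ⟨Pi.single i (v / a i), ?_⟩
    change a ⬝ᵥ Pi.single i (v / a i) = v
    rw [dotProduct_single]
    field_simp
  have h1 : ∀ v : F, (univ.filter fun b : Fin 3 → F => f b = v).card = (univ.filter fun b : Fin 3 → F => f b = u).card :=
    fun v => AddMonoidHom.card_fiber_eq_of_mem_range f (hs v) (hs u)
  have h2 : (univ : Finset (Fin 3 → F)).card = ∑ v : F, (univ.filter fun b : Fin 3 → F => f b = v).card :=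
    Finset.card_eq_sum_card_fiberwise (fun _ _ => Finset.mem_coe.2 (Finset.mem_univ _))
  simp only [h1, Finset.sum_const, Finset.card_univ, smul_eq_mul, Fintype.card_pi, Finset.prod_const, Fintype.card_fin] at h2
  have hq : 0 < Fintype.card F := Fintype.card_pos
  have h3 : Fintype.card F * (univ.filter fun b : Fin 3 → F => f b = u).card = Fintype.card F * Fintype.card F ^ 2 := by
    rw [← h2]
    ring
  exact Nat.eq_of_mul_eq_mul_left hq h3

/-- The count of solutions of `α (1 - α) = a ⬝ b`. -/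
theorem card_T [DecidableEq F] :
    (univ.filter fun p : F × (Fin 3 → F) × (Fin 3 → F) => p.1 * (1 - p.1) = p.2.1 ⬝ᵥ p.2.2).card =
      Fintype.card F ^ 3 * (Fintype.card F ^ 3 + 1) := by
  set q := Fintype.card F
  rw [Finset.card_filter]
  simp only [Fintype.sum_prod_type]
  rw [Finset.sum_comm]
  have h1 : ∀ (a : Fin 3 → F) (α : F), (∑ b : Fin 3 → F, if α * (1 - α) = a ⬝ᵥ b then 1 else 0) =
      (univ.filter fun b : Fin 3 → F => a ⬝ᵥ b = α * (1 - α)).card := by
    intro a α
    rw [Finset.card_filter]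
    refine Finset.sum_congr rfl fun b _ => ?_
    simp only [eq_comm]
  simp only [h1]
  have h2 : ∀ a : Fin 3 → F, a ≠ 0 → (∑ α : F, (univ.filter fun b : Fin 3 → F => a ⬝ᵥ b = α * (1 - α)).card) = q ^ 3 := by
    intro a ha
    simp only [card_dot a ha, Finset.sum_const, Finset.card_univ, smul_eq_mul]
    change q * q ^ 2 = q ^ 3
    ring
  have h3 : (∑ α : F, (univ.filter fun b : Fin 3 → F => (0 : Fin 3 → F) ⬝ᵥ b = α * (1 - α)).card) = 2 * q ^ 3 := by
    have h4 : ∀ α : F, (univ.filter fun b : Fin 3 → F => (0 : Fin 3 → F) ⬝ᵥ b = α * (1 - α)).card =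
        if α = 0 ∨ α = 1 then q ^ 3 else 0 := by
      intro α
      by_cases h : α = 0 ∨ α = 1
      · rw [if_pos h]
        have : ∀ b : Fin 3 → F, (0 : Fin 3 → F) ⬝ᵥ b = α * (1 - α) := by
          intro b
          rcases h with rfl | rfl <;> simp
        simp [this, q]
      · rw [if_neg h]
        rw [Finset.card_eq_zero, Finset.filter_eq_empty_iff]
        intro b _ hb
        simp only [zero_dotProduct] at hb
        rcases mul_eq_zero.1 hb.symm with h5 | h5
        · exact h (Or.inl h5)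
        · exact h (Or.inr (sub_eq_zero.1 h5).symm)
    simp only [h4]
    rw [Finset.sum_ite, Finset.sum_const_zero, add_zero, Finset.sum_const, smul_eq_mul]
    have h6 : (univ.filter fun α : F => α = 0 ∨ α = 1) = {0, 1} := by
      ext x
      simp
    rw [h6, Finset.card_pair zero_ne_one]
  rw [← Finset.add_sum_erase _ _ (Finset.mem_univ (0 : Fin 3 → F)), h3]
  rw [Finset.sum_congr rfl (fun a ha => h2 a (Finset.ne_of_mem_erase ha))]
  rw [Finset.sum_const, Finset.card_erase_of_mem (Finset.mem_univ _), Finset.card_univ, smul_eq_mul]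
  have h7 : Fintype.card (Fin 3 → F) = q ^ 3 := by simp [q]
  rw [h7]
  have hq : 1 ≤ q ^ 3 := Nat.one_le_pow _ _ Fintype.card_pos
  obtain ⟨t, ht⟩ := Nat.exists_eq_add_of_le' hq
  rw [ht]
  simp only [Nat.add_sub_cancel]
  ring

lemma ncard_idem_le : (Idem F).ncard ≤ Fintype.card F ^ 3 * (Fintype.card F ^ 3 + 1) := by
  classical
  rw [← card_T]
  let g : V F → F × (Fin 3 → F) × (Fin 3 → F) := fun x => (x 0, ![x 1, x 2, x 3], ![x 4, x 5, x 6])
  have hg : Set.InjOn g (Idem F) := by
    intro x hx y hy hxy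
    obtain ⟨h1, _⟩ := idem_char hx
    obtain ⟨h2, _⟩ := idem_char hy
    simp only [g, Prod.mk.injEq] at hxy
    obtain ⟨h3, h4, h5⟩ := hxy
    have h41 := congrFun h4 0
    have h42 := congrFun h4 1
    have h43 := congrFun h4 2
    have h51 := congrFun h5 0
    have h52 := congrFun h5 1
    have h53 := congrFun h5 2
    simp at h41 h42 h43 h51 h52 h53
    have h7 : x 7 = y 7 := by
      simp only [tr8] at h1 h2
      rw [h3] at h1
      exact add_left_cancel (h1.trans h2.symm)
    ext i
    fin_cases i <;> assumption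
  have h := Set.ncard_image_of_injOn hg
  rw [← h]
  have hsub : g '' (Idem F) ⊆ ↑(univ.filter fun p : F × (Fin 3 → F) × (Fin 3 → F) => p.1 * (1 - p.1) = p.2.1 ⬝ᵥ p.2.2) := by
    rintro _ ⟨x, hx, rfl⟩
    obtain ⟨h1, h2⟩ := idem_char hx
    simp only [Finset.coe_filter, Finset.mem_univ, true_and, Set.mem_setOf_eq, g]
    simp only [tr8] at h1
    simp only [nm8] at h2
    have h3 : x 7 = 1 - x 0 := by linear_combination h1
    rw [h3] at h2
    simp only [dotProduct, Fin.sum_univ_three]
    simp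
    linear_combination h2
  have := Set.ncard_le_ncard hsub (Finset.finite_toSet _)
  rwa [Set.ncard_coe_finset] at this

instance : Finite (Aut8 F) := by
  have : Finite (V F ≃ₗ[F] V F) := Finite.of_injective (fun s : V F ≃ₗ[F] V F => (s : V F → V F)) DFunLike.coe_injective
  infer_instance

/-- The stabiliser of `E₀`. -/
lemma card_stab : Nat.card (MulAction.stabilizer (Aut8 F) (E 0 : V F)) = Nat.card (SL(3, F)) := by
  have h : MulAction.stabilizer (Aut8 F) (E 0 : V F) = (sl3Hom (F := F)).range := by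
    ext s
    constructor
    · intro hs
      obtain ⟨A, rfl⟩ := stab_range s hs
      exact ⟨A, rfl⟩
    · rintro ⟨A, rfl⟩
      exact sl3Hom_E0 A
  rw [h]
  exact (Nat.card_congr (MonoidHom.ofInjective sl3Hom_inj).toEquiv).symm

lemma card_aut_eq : Nat.card (Aut8 F) = Nat.card (SL(3, F)) * (MulAction.orbit (Aut8 F) (E 0 : V F)).ncard := by
  rw [← card_stab, ← MulAction.index_stabilizer, Subgroup.card_mul_index]

lemma orbit_sub : MulAction.orbit (Aut8 F) (E 0 : V F) ⊆ Idem F := by
  rintro _ ⟨s, rfl⟩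
  exact aut_idem s E0_idem

variable (F) in
lemma card_SL3 : Nat.card (SL(3, F)) = Fintype.card F ^ 3 * ((Fintype.card F ^ 2 - 1) * (Fintype.card F ^ 3 - 1)) := by
  have := Cfsg.Agent.Lib.SemiSimple.Lift.card_SL_eq (F := F) (m := 2)
  simpa [Finset.prod_range_succ] using this

variable (F) in
lemma chev_card : Nat.card (chevG2.group F) =
    Nat.card (SL(3, F)) * (Fintype.card F ^ 3 * (Fintype.card F ^ 3 + 1)) := by
  rw [Cfsg.Agent.S1059.result (F := F) rfl, card_SL3]
  set q := Fintype.card F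
  have hq : 1 ≤ q := Fintype.card_pos
  have h6 : q ^ 6 - 1 = (q ^ 3 - 1) * (q ^ 3 + 1) := by
    have h3 : 1 ≤ q ^ 3 := Nat.one_le_pow _ _ hq
    obtain ⟨t, ht⟩ := Nat.exists_eq_add_of_le' h3
    have : q ^ 6 = (q ^ 3) ^ 2 := by ring
    rw [this, ht]
    simp only [Nat.add_sub_cancel]
    have : (t + 1) ^ 2 - 1 = t * (t + 1 + 1) := by
      have : (t + 1) ^ 2 = t * (t + 1 + 1) + 1 := by ring
      omega
    exact this
  rw [h6]
  ring

lemma card_facts : Nat.card (Aut8 F) = Nat.card (chevG2.group F) ∧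
    (MulAction.orbit (Aut8 F) (E 0 : V F)).ncard = Fintype.card F ^ 3 * (Fintype.card F ^ 3 + 1) := by
  have h1 := card_aut_eq (F := F)
  have h2 := chev_card F
  have h3 : Nat.card (chevG2.group F) ≤ Nat.card (Aut8 F) :=
    Nat.card_le_card_of_injective _ rho_inj
  have h4 : (MulAction.orbit (Aut8 F) (E 0 : V F)).ncard ≤ Fintype.card F ^ 3 * (Fintype.card F ^ 3 + 1) :=
    (Set.ncard_le_ncard orbit_sub (Set.toFinite _)).trans ncard_idem_le
  have hSL : 0 < Nat.card (SL(3, F)) := Nat.card_pos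
  have h5 : (MulAction.orbit (Aut8 F) (E 0 : V F)).ncard = Fintype.card F ^ 3 * (Fintype.card F ^ 3 + 1) := by
    apply le_antisymm h4
    rw [h1, h2] at h3
    exact Nat.le_of_mul_le_mul_left h3 hSL
  refine ⟨?_, h5⟩
  rw [h1, h2, h5]

/-- The Chevalley group is the automorphism group of Zorn's algebra. -/
noncomputable def rhoE : chevG2.group F ≃* Aut8 F :=
  MulEquiv.ofBijective rho (by
    refine ⟨rho_inj, ?_⟩
    have := (Function.Injective.bijective_of_nat_card_le rho_inj (le_of_eq (card_facts (F := F)).1)).2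
    exact this)

lemma rhoE_apply (g : chevG2.group F) : rhoE g = rho g := rfl

/-- The automorphism group is transitive on the nontrivial idempotents. -/
theorem idem_trans {x : V F} (hx : x ∈ Idem F) : ∃ s : Aut8 F, (s : V F ≃ₗ[F] V F) (E 0) = x := by
  have h1 : MulAction.orbit (Aut8 F) (E 0 : V F) = Idem F := by
    apply Set.eq_of_subset_of_ncard_le orbit_sub
    · rw [card_facts.2]
      exact ncard_idem_le
  rw [← h1] at hx
  obtain ⟨s, rfl⟩ := hx
  exact ⟨s, rfl⟩

end count

end Cfsg.Agent.Lib.G2Oct.Count
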