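/-
Centralisers of elements of `SL₃` without eigenvalue one in the automorphism group of Zorn's algebra.
-/
import Cfsg.Agent.Lib.G2Oct.Count

set_option autoImplicit false
set_option linter.all false

namespace Cfsg.Agent.Lib.G2Oct.Cent3

open Cfsg.Lie Matrix
open Cfsg.Agent.Lib.G2Oct.Aut8 Cfsg.Agent.Lib.G2Oct.Stab
open scoped MatrixGroups

variable {F : Type*} [Field F]

/-- The swap of the two idempotents. -/
def swV (v : V F) : V F := ![v 7, -v 4, -v 5, -v 6, -v 1, -v 2, -v 3, v 0]

lemma swV_swV (v : V F) : swV (swV v) = v := by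
  ext i
  fin_cases i <;> simp [swV]

lemma swV_zorn (x y : V F) : swV (zornMul x y) = zornMul (swV x) (swV y) := by
  ext i
  fin_cases i <;> simp [swV, zornMul, dot3, cross3, zA, zB] <;> ring

/-- The swap as an automorphism. -/
def swE : Aut8 F :=
  ⟨{ toFun := swV
     map_add' := fun v w => by ext i; fin_cases i <;> simp [swV] <;> ring
     map_smul' := fun c v => by ext i; fin_cases i <;> simp [swV]
     invFun := swV
     left_inv := swV_swV
     right_inv := swV_swV }, swV_zorn⟩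

lemma swE_apply (v : V F) : ((swE : Aut8 F) : V F ≃ₗ[F] V F) v = swV v := rfl

lemma swE_sq : (swE : Aut8 F) * swE = 1 := by
  apply Subtype.ext
  apply LinearEquiv.ext
  intro v
  exact swV_swV v

lemma cof_det (A : Matrix (Fin 3) (Fin 3) F) (h : A.det = 1) : (cof A).det = 1 := by
  rw [cof, det_transpose, det_adjugate, h]
  simp

lemma cof_cof (A : Matrix (Fin 3) (Fin 3) F) (h : A.det = 1) : cof (cof A) = A := by
  rw [cof, cof, adjugate_transpose, transpose_transpose, adjugate_adjugate', h]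
  simp

/-- The cofactor automorphism of `SL₃`. -/
noncomputable def cofHom : SL(3, F) →* SL(3, F) where
  toFun A := ⟨cof A.1, cof_det _ A.2⟩
  map_one' := by
    apply Subtype.ext
    exact cof_one
  map_mul' A B := by
    apply Subtype.ext
    exact cof_mul _ _

lemma sw_conj (A : SL(3, F)) : swE * sl3Hom A * swE = sl3Hom (cofHom A) := by
  apply Subtype.ext
  apply LinearEquiv.ext
  intro v
  change swV (sv A.1 (cof A.1) (swV v)) = sv (cof A.1) (cof (cof A.1)) v
  rw [cof_cof _ A.2]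
  ext i
  fin_cases i <;> simp [swV, sv] <;> ring

/-- Fixed vectors of elements of `SL₃` without eigenvalue one. -/
lemma fix_zero (A : SL(3, F)) (h1 : (A.1 - 1).det ≠ 0) (v : V F) (hv : sv A.1 (cof A.1) v = v) :
    v 1 = 0 ∧ v 2 = 0 ∧ v 3 = 0 ∧ v 4 = 0 ∧ v 5 = 0 ∧ v 6 = 0 := by
  have ha : (A.1 - 1) *ᵥ ![v 1, v 2, v 3] = 0 := by
    have h1 := congrFun hv 1
    have h2 := congrFun hv 2
    have h3 := congrFun hv 3
    simp [sv] at h1 h2 h3
    ext i
    fin_cases i <;> simp [Matrix.mulVec, dotProduct, Fin.sum_univ_three, Matrix.sub_apply, Matrix.one_apply] <;> ring_nf <;> ring_nf at h1 h2 h3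
    · linear_combination h1
    · linear_combination h2
    · linear_combination h3
  have ha' := Matrix.eq_zero_of_mulVec_eq_zero h1 ha
  have hb : (A.1 - 1)ᵀ *ᵥ ![v 4, v 5, v 6] = 0 := by
    have h4 := congrFun hv 4
    have h5 := congrFun hv 5
    have h6 := congrFun hv 6
    simp [sv] at h4 h5 h6
    have h7 : A.1ᵀ * cof A.1 = 1 := by
      rw [cof, ← transpose_mul, adjugate_mul, A.2, one_smul, transpose_one]
    have h8 : cof A.1 *ᵥ ![v 4, v 5, v 6] = ![v 4, v 5, v 6] := by
      ext i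
      fin_cases i
      · simpa [Matrix.mulVec, dotProduct, Fin.sum_univ_three] using h4
      · simpa [Matrix.mulVec, dotProduct, Fin.sum_univ_three] using h5
      · simpa [Matrix.mulVec, dotProduct, Fin.sum_univ_three] using h6
    have h9 : A.1ᵀ *ᵥ ![v 4, v 5, v 6] = ![v 4, v 5, v 6] := by
      conv_lhs => rw [← h8]
      rw [Matrix.mulVec_mulVec, h7, Matrix.one_mulVec]
    rw [transpose_sub, transpose_one, Matrix.sub_mulVec, h9, Matrix.one_mulVec, sub_self]
  have hb' := Matrix.eq_zero_of_mulVec_eq_zero (by rwa [det_transpose]) hb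
  have a0 := congrFun ha' 0
  have a1 := congrFun ha' 1
  have a2 := congrFun ha' 2
  have b0 := congrFun hb' 0
  have b1 := congrFun hb' 1
  have b2 := congrFun hb' 2
  simp at a0 a1 a2 b0 b1 b2
  exact ⟨a0, a1, a2, b0, b1, b2⟩

/-- Centraliser of an element of `SL₃` without eigenvalue one and not conjugate to its contragredient. -/
theorem cent_sl3 (A : SL(3, F)) (h1 : (A.1 - 1).det ≠ 0) (h2 : ¬ ∃ C : SL(3, F), C * cofHom A * C⁻¹ = A)
    (g : Aut8 F) (hg : g * sl3Hom A = sl3Hom A * g) : ∃ B : SL(3, F), g = sl3Hom B ∧ B * A = A * B := by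
  -- `g E₀` is fixed by `A`
  set x : V F := (g : V F ≃ₗ[F] V F) (E 0) with hx
  have hfix : sv A.1 (cof A.1) x = x := by
    have h3 := congrArg (fun s : Aut8 F => (s : V F ≃ₗ[F] V F) (E 0)) hg
    simp only [Subgroup.coe_mul, LinearEquiv.mul_apply] at h3
    rw [sl3Hom_E0] at h3
    exact h3.symm
  obtain ⟨x1, x2, x3, x4, x5, x6⟩ := fix_zero A h1 x hfix
  have htn := aut_tr_nm g (E 0)
  have htr : x 0 + x 7 = 1 := by
    have := htn.1
    simpa [tr8, E_apply, hx] using this
  have hnm : x 0 * x 7 = 0 := by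
    have := htn.2
    simp only [nm8, ← hx] at this
    simpa [E_apply, x1, x2, x3] using this
  have hcase : x 0 = 0 ∧ x 7 = 1 ∨ x 0 = 1 ∧ x 7 = 0 := by
    rcases mul_eq_zero.1 hnm with h0 | h0
    · left; exact ⟨h0, by rw [h0, zero_add] at htr; exact htr⟩
    · right; exact ⟨by rw [h0, add_zero] at htr; exact htr, h0⟩
  rcases hcase with ⟨h0, h7⟩ | ⟨h0, h7⟩
  · exfalso
    have hxE : x = E 7 := by
      ext i; fin_cases i <;> simp [E_apply, h0, h7, x1, x2, x3, x4, x5, x6]
    have hsw : (((swE : Aut8 F) * g : Aut8 F) : V F ≃ₗ[F] V F) (E 0) = E 0 := by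
      simp only [Subgroup.coe_mul, LinearEquiv.mul_apply]
      rw [← hx, hxE, swE_apply]
      ext i; fin_cases i <;> simp [swV, E_apply]
    obtain ⟨B, hB⟩ := stab_range _ hsw
    have hgB : g = swE * sl3Hom B := by
      rw [← hB, ← mul_assoc, swE_sq, one_mul]
    apply h2
    refine ⟨cofHom B, ?_⟩
    apply sl3Hom_inj
    have h3 : sl3Hom A = g * sl3Hom A * g⁻¹ := by rw [hg, mul_inv_cancel_right]
    have h4 : g⁻¹ = (sl3Hom B)⁻¹ * swE := by
      rw [hgB, _root_.mul_inv_rev]
      congr 1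
    rw [h4, hgB] at h3
    have h5 : swE * sl3Hom B * sl3Hom A * ((sl3Hom B)⁻¹ * swE) = swE * sl3Hom (B * A * B⁻¹) * swE := by
      simp only [map_mul, map_inv, mul_assoc]
    rw [h5, sw_conj] at h3
    refine Eq.trans ?_ h3.symm
    simp only [map_mul, map_inv]
  · have hxE : x = E 0 := by
      ext i; fin_cases i <;> simp [E_apply, h0, h7, x1, x2, x3, x4, x5, x6]
    obtain ⟨B, hB⟩ := stab_range g (by rw [← hx, hxE])
    refine ⟨B, hB, ?_⟩
    apply sl3Hom_inj
    rw [map_mul, map_mul, ← hB]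
    exact hg

end Cfsg.Agent.Lib.G2Oct.Cent3
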