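/-
Involutions of the automorphism group of Zorn's algebra in odd characteristic: all of them fix a nontrivial
idempotent, hence are conjugate to the image of `diag(1, -1, -1) ∈ SL₃`.
-/
import Cfsg.Agent.Lib.G2Oct.Cent3

set_option autoImplicit false
set_option linter.all false

namespace Cfsg.Agent.Lib.G2Oct.Invol

open Cfsg.Lie Matrix Module
open Cfsg.Agent.Lib.G2Oct.Aut8 Cfsg.Agent.Lib.G2Oct.Stab Cfsg.Agent.Lib.G2Oct.Count
open scoped MatrixGroups

variable {F : Type*} [Field F]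

lemma nm8_add (x y : V F) : nm8 (x + y) = nm8 x + nm8 y + bf8 x y := by
  simp [nm8, bf8]; ring

lemma nm8_smul (c : F) (x : V F) : nm8 (c • x) = c ^ 2 * nm8 x := by
  simp [nm8]; ring

lemma bf8_comm (x y : V F) : bf8 x y = bf8 y x := by
  simp [bf8]; ring

lemma bf8_self (x : V F) : bf8 x x = 2 * nm8 x := by
  simp [bf8, nm8]; ring

lemma bf8_add (x y z : V F) : bf8 x (y + z) = bf8 x y + bf8 x z := by
  simp [bf8]; ring

lemma bf8_smul (c : F) (x y : V F) : bf8 x (c • y) = c * bf8 x y := by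
  simp [bf8]; ring

lemma bf8_one (x : V F) : bf8 one8 x = tr8 x := by
  simp [bf8, one8, tr8]; ring

lemma tr8_one (F : Type*) [Field F] : tr8 (one8 : V F) = 2 := by
  simp [tr8, one8]; norm_num

lemma nm8_one (F : Type*) [Field F] : nm8 (one8 : V F) = 1 := by
  simp [nm8, one8]

lemma bf8_nondeg (x : V F) (h : ∀ y, bf8 x y = 0) : x = 0 := by
  ext i
  fin_cases i
  · simpa [bf8, E_apply] using h (E 7)
  · simpa [bf8, E_apply] using h (E 4)
  · simpa [bf8, E_apply] using h (E 5)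
  · simpa [bf8, E_apply] using h (E 6)
  · simpa [bf8, E_apply] using h (E 1)
  · simpa [bf8, E_apply] using h (E 2)
  · simpa [bf8, E_apply] using h (E 3)
  · simpa [bf8, E_apply] using h (E 0)

lemma aut_bf (s : Aut8 F) (x y : V F) :
    bf8 ((s : V F ≃ₗ[F] V F) x) ((s : V F ≃ₗ[F] V F) y) = bf8 x y := by
  have h1 := (aut_tr_nm s (x + y)).2
  have h2 := (aut_tr_nm s x).2
  have h3 := (aut_tr_nm s y).2
  rw [map_add, nm8_add, nm8_add, h2, h3] at h1
  exact add_left_cancel h1

/-- Left alternative law. -/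
lemma left_alt (u x : V F) : zornMul u (zornMul u x) = tr8 u • zornMul u x - nm8 u • x := by
  ext i
  fin_cases i <;> simp [zornMul, dot3, cross3, zA, zB, tr8, nm8] <;> ring

/-- Left multiplication as a linear map. -/
def mulL (u : V F) : V F →ₗ[F] V F where
  toFun x := zornMul u x
  map_add' x y := by
    ext i
    fin_cases i <;> simp [zornMul, dot3, cross3, zA, zB] <;> ring
  map_smul' c x := by
    ext i
    fin_cases i <;> simp [zornMul, dot3, cross3, zA, zB] <;> ring

lemma mulL_apply (u x : V F) : mulL u x = zornMul u x := rfl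

lemma mulL_inj (u : V F) (hu : nm8 u ≠ 0) : Function.Injective (mulL u) := by
  rw [← LinearMap.ker_eq_bot, LinearMap.ker_eq_bot']
  intro x hx
  have h := left_alt u x
  rw [← mulL_apply u x, hx] at h
  have h2 : zornMul u (0 : V F) = 0 := (mulL u).map_zero
  rw [h2, smul_zero, zero_sub, eq_comm, neg_eq_zero] at h
  exact (smul_eq_zero.1 h).resolve_left hu

lemma zorn_neg (u x : V F) : zornMul (-u) (-x) = zornMul u x := by
  ext i
  fin_cases i <;> simp [zornMul, dot3, cross3, zA, zB] <;> ring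

section step

/-- A nondegenerate subspace contains a vector of non-zero norm. -/
lemma exists_aniso (W : Submodule F (V F)) (hW : W ≠ ⊥)
    (hnd : ∀ x ∈ W, (∀ y ∈ W, bf8 x y = 0) → x = 0) : ∃ a ∈ W, nm8 a ≠ 0 := by
  by_contra hcon
  push Not at hcon
  obtain ⟨x, hx, hx0⟩ := Submodule.exists_mem_ne_zero_of_ne_bot hW
  apply hx0
  apply hnd x hx
  intro y hy
  have h1 := nm8_add x y
  rw [hcon x hx, hcon y hy, hcon (x + y) (W.add_mem hx hy), zero_add, zero_add] at h1
  exact h1.symm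

/-- Passing to the orthogonal complement of an anisotropic vector. -/
lemma step_nondeg (h2 : (2 : F) ≠ 0) (W W' : Submodule F (V F)) (a : V F) (ha : a ∈ W) (hNa : nm8 a ≠ 0)
    (hW' : ∀ x, x ∈ W' ↔ x ∈ W ∧ bf8 a x = 0)
    (hnd : ∀ x ∈ W, (∀ y ∈ W, bf8 x y = 0) → x = 0) :
    ∀ x ∈ W', (∀ y ∈ W', bf8 x y = 0) → x = 0 := by
  intro x hx hxy
  obtain ⟨hxW, hxa⟩ := (hW' x).1 hx
  apply hnd x hxW
  intro y hy
  have hA : bf8 a a ≠ 0 := by
    rw [bf8_self]
    exact mul_ne_zero h2 hNa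
  set c := bf8 a y / bf8 a a with hc
  have hy' : y + (-c) • a ∈ W' := by
    rw [hW']
    refine ⟨W.add_mem hy (W.smul_mem _ ha), ?_⟩
    rw [bf8_add, bf8_smul, hc]
    field_simp
    ring
  have h3 := hxy _ hy'
  rw [bf8_add, bf8_smul, bf8_comm x a, hxa, mul_zero, add_zero] at h3
  exact h3

end step

section fintype

variable [Fintype F]

/-- An involution fixes a nontrivial idempotent. -/
theorem exists_fixed_idem (hF : Odd (Fintype.card F)) (h2 : (2 : F) ≠ 0) (t : Aut8 F) (htt : t * t = 1) (ht1 : t ≠ 1) :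
    ∃ e ∈ Idem F, (t : V F ≃ₗ[F] V F) e = e := by
  set T : V F ≃ₗ[F] V F := (t : V F ≃ₗ[F] V F) with hT
  have hTT : ∀ x, T (T x) = x := by
    intro x
    have := congrArg (fun s : Aut8 F => (s : V F ≃ₗ[F] V F) x) htt
    simpa using this
  let Vp : Submodule F (V F) := LinearMap.ker ((T : V F →ₗ[F] V F) - LinearMap.id)
  let Vm : Submodule F (V F) := LinearMap.ker ((T : V F →ₗ[F] V F) + LinearMap.id)
  have memp : ∀ x, x ∈ Vp ↔ T x = x := by
    intro x
    simp [Vp, LinearMap.mem_ker, sub_eq_zero]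
  have memm : ∀ x, x ∈ Vm ↔ T x = -x := by
    intro x
    simp [Vm, LinearMap.mem_ker, add_eq_zero_iff_eq_neg]
  have h2' : (2 : F) • (1 : F) ≠ 0 := by simpa using h2
  -- decomposition
  have hdec : ∀ x : V F, ∃ p ∈ Vp, ∃ m ∈ Vm, x = p + m := by
    intro x
    refine ⟨(2⁻¹ : F) • (x + T x), ?_, (2⁻¹ : F) • (x - T x), ?_, ?_⟩
    · rw [memp, map_smul, map_add, hTT]
      rw [add_comm]
    · rw [memm, map_smul, map_sub, hTT, ← smul_neg, neg_sub]
    · rw [← smul_add]
      have : x + T x + (x - T x) = (2 : F) • x := by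
        rw [two_smul]; abel
      rw [this, smul_smul, inv_mul_cancel₀ h2, one_smul]
  have hsup : Vp ⊔ Vm = ⊤ := by
    rw [eq_top_iff]
    intro x _
    obtain ⟨p, hp, m, hm, rfl⟩ := hdec x
    exact Submodule.add_mem_sup hp hm
  have hinf : Vp ⊓ Vm = ⊥ := by
    rw [eq_bot_iff]
    intro x hx
    obtain ⟨hx1, hx2⟩ := hx
    have hx1 : x ∈ Vp := hx1
    have hx2 : x ∈ Vm := hx2
    rw [memp] at hx1
    rw [memm] at hx2
    have h3 : (2 : F) • x = 0 := by
      rw [two_smul]
      nth_rewrite 1 [← hx1]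
      rw [hx2, neg_add_cancel]
    exact Submodule.mem_bot _ |>.2 ((smul_eq_zero.1 h3).resolve_left h2)
  -- anti-isometry
  have hbf : ∀ p ∈ Vp, ∀ m ∈ Vm, bf8 p m = 0 := by
    intro p hp m hm
    have h3 := aut_bf t p m
    rw [← hT, (memp p).1 hp, (memm m).1 hm] at h3
    have h4 : bf8 p (-m) = - bf8 p m := by
      have := bf8_smul (-1 : F) p m
      simpa using this
    rw [h4] at h3
    have h5 : (2 : F) * bf8 p m = 0 := by linear_combination -h3
    exact (mul_eq_zero.1 h5).resolve_left h2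
  -- `Vm` is nonzero, and nondegenerate
  have hVm : Vm ≠ ⊥ := by
    intro h
    apply ht1
    apply Subtype.ext
    apply LinearEquiv.ext
    intro x
    obtain ⟨p, hp, m, hm, rfl⟩ := hdec x
    rw [h] at hm
    rw [(Submodule.mem_bot F).1 hm, add_zero]
    exact (memp p).1 hp
  have hndm : ∀ x ∈ Vm, (∀ y ∈ Vm, bf8 x y = 0) → x = 0 := by
    intro x hx hxy
    apply bf8_nondeg
    intro y
    obtain ⟨p, hp, m, hm, rfl⟩ := hdec y
    rw [bf8_add, hxy m hm, bf8_comm, hbf p hp x hx, add_zero]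
  have hndp : ∀ x ∈ Vp, (∀ y ∈ Vp, bf8 x y = 0) → x = 0 := by
    intro x hx hxy
    apply bf8_nondeg
    intro y
    obtain ⟨p, hp, m, hm, rfl⟩ := hdec y
    rw [bf8_add, hxy p hp, hbf x hx m hm, add_zero]
  obtain ⟨u, hu, hNu⟩ := exists_aniso Vm hVm hndm
  -- dimensions
  have hdim : finrank F Vp + finrank F Vm = 8 := by
    have := Submodule.finrank_sup_add_finrank_inf_eq Vp Vm
    rw [hsup, hinf, finrank_top, finrank_bot, add_zero] at this
    rw [← this]
    simp
  have hle : finrank F Vm ≤ finrank F Vp := by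
    let f : Vm →ₗ[F] Vp :=
      ((mulL u).comp Vm.subtype).codRestrict Vp (by
        intro x
        simp only [LinearMap.comp_apply, Submodule.subtype_apply, mulL_apply]
        rw [memp, hT, Aut8_mul, ← hT, (memm u).1 hu, (memm x.1).1 x.2, zorn_neg])
    apply LinearMap.finrank_le_finrank_of_injective (f := f)
    intro x y hxy
    apply Subtype.ext
    apply mulL_inj u hNu
    exact congrArg Subtype.val hxy
  have hdimp : 4 ≤ finrank F Vp := by omega
  -- the first orthogonal complement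
  have hone : (one8 : V F) ∈ Vp := by
    rw [memp]
    exact aut_one t
  have hN1 : nm8 (one8 : V F) ≠ 0 := by
    rw [nm8_one]
    exact one_ne_zero
  let bfL (a : V F) : Vp →ₗ[F] F :=
    { toFun := fun x => bf8 a x.1
      map_add' := fun x y => bf8_add _ _ _
      map_smul' := fun c x => bf8_smul _ _ _ }
  let W1 : Submodule F (V F) := Vp ⊓ (LinearMap.ker (bfL one8)).map Vp.subtype
  have memW1 : ∀ x, x ∈ W1 ↔ x ∈ Vp ∧ bf8 one8 x = 0 := by
    intro x
    constructor
    · rintro ⟨h3, y, hy, rfl⟩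
      exact ⟨h3, hy⟩
    · rintro ⟨h3, h4⟩
      exact ⟨h3, ⟨x, h3⟩, h4, rfl⟩
  have hnd1 := step_nondeg h2 Vp W1 one8 hone hN1 memW1 hndp
  have hW1 : W1 ≠ ⊥ := by
    have h3 : LinearMap.ker (bfL one8) ≠ ⊥ := by
      apply LinearMap.ker_ne_bot_of_finrank_lt
      simp only [finrank_self]
      omega
    obtain ⟨x, hx, hx0⟩ := Submodule.exists_mem_ne_zero_of_ne_bot h3
    intro h
    have h4 : (x : V F) ∈ W1 := (memW1 _).2 ⟨x.2, hx⟩
    rw [h, Submodule.mem_bot] at h4
    exact hx0 (Subtype.ext h4)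
  obtain ⟨a, ha, hNa⟩ := exists_aniso W1 hW1 hnd1
  let W2 : Submodule F (V F) := W1 ⊓ (LinearMap.ker (bfL a)).map Vp.subtype
  have memW2 : ∀ x, x ∈ W2 ↔ x ∈ W1 ∧ bf8 a x = 0 := by
    intro x
    constructor
    · rintro ⟨h3, y, hy, rfl⟩
      exact ⟨h3, hy⟩
    · rintro ⟨h3, h4⟩
      exact ⟨h3, ⟨x, ((memW1 x).1 h3).1⟩, h4, rfl⟩
  have hnd2 := step_nondeg h2 W1 W2 a ha hNa memW2 hnd1
  have hW2 : W2 ≠ ⊥ := by
    let f : Vp →ₗ[F] F × F := (bfL one8).prod (bfL a)
    have h3 : LinearMap.ker f ≠ ⊥ := by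
      apply LinearMap.ker_ne_bot_of_finrank_lt
      simp only [finrank_prod, finrank_self]
      omega
    obtain ⟨x, hx, hx0⟩ := Submodule.exists_mem_ne_zero_of_ne_bot h3
    have hx1 : bf8 one8 (x : V F) = 0 := congrArg Prod.fst hx
    have hx2 : bf8 a (x : V F) = 0 := congrArg Prod.snd hx
    intro h
    have h4 : (x : V F) ∈ W2 := (memW2 _).2 ⟨(memW1 _).2 ⟨x.2, hx1⟩, hx2⟩
    rw [h, Submodule.mem_bot] at h4
    exact hx0 (Subtype.ext h4)
  obtain ⟨b, hb, hNb⟩ := exists_aniso W2 hW2 hnd2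
  obtain ⟨hb1, hab⟩ := (memW2 b).1 hb
  obtain ⟨hap, ha1⟩ := (memW1 a).1 ha
  obtain ⟨hbp, hb2⟩ := (memW1 b).1 hb1
  -- solve the equation
  obtain ⟨α, β, hαβ⟩ : ∃ α β : F, α ^ 2 * nm8 a + β ^ 2 * nm8 b + 1 = 0 := by
    have h3 := FiniteField.exists_root_sum_quadratic
      (f := Polynomial.C (nm8 a) * Polynomial.X ^ 2) (g := Polynomial.C (nm8 b) * Polynomial.X ^ 2 + Polynomial.C 1)
      (by
        rw [Polynomial.degree_C_mul_X_pow 2 hNa]
        rfl)
      (by
        rw [Polynomial.degree_add_eq_left_of_degree_lt, Polynomial.degree_C_mul_X_pow 2 hNb]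
        · rfl
        · rw [Polynomial.degree_C_mul_X_pow 2 hNb]
          exact lt_of_le_of_lt Polynomial.degree_C_le (by norm_num))
      (Nat.odd_iff.1 hF)
    obtain ⟨α, β, h4⟩ := h3
    refine ⟨α, β, ?_⟩
    simp at h4
    linear_combination h4
  set x : V F := α • a + β • b with hx
  have hxp : x ∈ Vp := Vp.add_mem (Vp.smul_mem _ hap) (Vp.smul_mem _ hbp)
  have hxtr : bf8 one8 x = 0 := by
    rw [hx, bf8_add, bf8_smul, bf8_smul, ha1, hb2]
    ring
  have hxN : nm8 x = -1 := by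
    rw [hx, nm8_add, nm8_smul, nm8_smul, bf8_smul, bf8_comm, bf8_smul, bf8_comm, hab]
    linear_combination hαβ
  refine ⟨(2⁻¹ : F) • (one8 + x), ?_, ?_⟩
  · apply idem_of_char
    · rw [← bf8_one, bf8_smul, bf8_add, bf8_one, tr8_one, hxtr, add_zero]
      exact inv_mul_cancel₀ h2
    · rw [nm8_smul, nm8_add, nm8_one, hxtr, hxN]
      ring
  · rw [map_smul, map_add, (memp one8).1 hone, (memp x).1 hxp]

end fintype

/-! ### Involutions of `SL₃` -/

/-- The standard involution. -/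
def D0 : SL(3, F) := ⟨diagonal ![1, -1, -1], by simp [Matrix.det_diagonal, Fin.prod_univ_three]⟩

/-- An eigenbasis for an involution. -/
lemma invol_eigenbasis (h2 : (2 : F) ≠ 0) (M : Matrix (Fin 3) (Fin 3) F) (hM : M * M = 1) :
    ∃ (b : Basis (Fin 3) F (Fin 3 → F)) (d : Fin 3 → F), (∀ i, d i = 1 ∨ d i = -1) ∧ ∀ i, M *ᵥ b i = d i • b i := by
  let f : (Fin 3 → F) →ₗ[F] (Fin 3 → F) := Matrix.toLin' M
  have hf : ∀ x, f x = M *ᵥ x := fun x => rfl
  have hff : ∀ x, f (f x) = x := by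
    intro x
    rw [hf, hf, Matrix.mulVec_mulVec, hM, Matrix.one_mulVec]
  let Vp : Submodule F (Fin 3 → F) := LinearMap.ker (f - LinearMap.id)
  let Vm : Submodule F (Fin 3 → F) := LinearMap.ker (f + LinearMap.id)
  have memp : ∀ x, x ∈ Vp ↔ f x = x := by
    intro x
    simp [Vp, LinearMap.mem_ker, sub_eq_zero]
  have memm : ∀ x, x ∈ Vm ↔ f x = -x := by
    intro x
    simp [Vm, LinearMap.mem_ker, add_eq_zero_iff_eq_neg]
  have hc : IsCompl Vp Vm := by
    constructor
    · rw [disjoint_iff, eq_bot_iff]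
      intro x hx
      obtain ⟨hx1, hx2⟩ := hx
      have hx1 : x ∈ Vp := hx1
      have hx2 : x ∈ Vm := hx2
      rw [memp] at hx1
      rw [memm] at hx2
      have h3 : (2 : F) • x = 0 := by
        rw [two_smul]
        nth_rewrite 1 [← hx1]
        rw [hx2, neg_add_cancel]
      exact Submodule.mem_bot _ |>.2 ((smul_eq_zero.1 h3).resolve_left h2)
    · rw [codisjoint_iff, eq_top_iff]
      intro x _
      have h3 : x = (2⁻¹ : F) • (x + f x) + (2⁻¹ : F) • (x - f x) := by
        rw [← smul_add]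
        have : x + f x + (x - f x) = (2 : F) • x := by
          rw [two_smul]; abel
        rw [this, smul_smul, inv_mul_cancel₀ h2, one_smul]
      rw [h3]
      apply Submodule.add_mem_sup
      · rw [memp, map_smul, map_add, hff, add_comm]
      · rw [memm, map_smul, map_sub, hff, ← smul_neg, neg_sub]
  let bp := Module.finBasis F Vp
  let bm := Module.finBasis F Vm
  let b0 : Basis (Fin (finrank F Vp) ⊕ Fin (finrank F Vm)) F (Fin 3 → F) :=
    (bp.prod bm).map (Submodule.prodEquivOfIsCompl Vp Vm hc)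
  have hb0l : ∀ i, b0 (Sum.inl i) = (bp i : Fin 3 → F) := by
    intro i
    simp [b0, Module.Basis.map_apply, Module.Basis.prod_apply]
  have hb0r : ∀ i, b0 (Sum.inr i) = (bm i : Fin 3 → F) := by
    intro i
    simp [b0, Module.Basis.map_apply, Module.Basis.prod_apply]
  have hcard : Fintype.card (Fin (finrank F Vp) ⊕ Fin (finrank F Vm)) = Fintype.card (Fin 3) := by
    have := Module.finrank_eq_card_basis b0
    rw [← this]
    simp
  let e := Fintype.equivOfCardEq hcard
  let d0 : Fin (finrank F Vp) ⊕ Fin (finrank F Vm) → F := Sum.elim (fun _ => 1) (fun _ => -1)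
  refine ⟨b0.reindex e, d0 ∘ e.symm, ?_, ?_⟩
  · intro i
    simp only [Function.comp, d0]
    cases e.symm i with
    | inl j => left; rfl
    | inr j => right; rfl
  · intro i
    simp only [Module.Basis.reindex_apply, Function.comp, d0]
    cases e.symm i with
    | inl j =>
      rw [hb0l]
      change f _ = _
      rw [(memp _).1 (bp j).2, Sum.elim_inl, one_smul]
    | inr j =>
      rw [hb0r]
      change f _ = _
      rw [(memm _).1 (bm j).2, Sum.elim_inr, neg_one_smul]

/-- From an eigenbasis with the standard eigenvalues to conjugacy in `SL₃`. -/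
lemma conj_of_basis (A : SL(3, F)) (b : Basis (Fin 3) F (Fin 3 → F))
    (hb : ∀ i, A.1 *ᵥ b i = (![1, -1, -1] : Fin 3 → F) i • b i) : ∃ C : SL(3, F), C * D0 * C⁻¹ = A := by
  let e := Pi.basisFun F (Fin 3)
  let P : Matrix (Fin 3) (Fin 3) F := e.toMatrix b
  have hP : ∀ i j, P i j = b j i := by
    intro i j
    simp [P, Module.Basis.toMatrix_apply, e]
  have hdet : P.det ≠ 0 := by
    have := e.isUnit_det b
    rw [Module.Basis.det_apply] at this
    exact this.ne_zero
  have hMP : A.1 * P = P * diagonal ![1, -1, -1] := by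
    ext i j
    have := congrFun (hb j) i
    simp only [Matrix.mul_diagonal, hP]
    simp only [Matrix.mul_apply, hP]
    simp only [Matrix.mulVec, dotProduct, Pi.smul_apply, smul_eq_mul] at this
    rw [this, mul_comm]
  let c : F := P.det⁻¹
  let Q : Matrix (Fin 3) (Fin 3) F := P * diagonal ![c, 1, 1]
  have hQdet : Q.det = 1 := by
    simp only [Q, det_mul, det_diagonal, Fin.prod_univ_three]
    simp [c, hdet]
  have hcomm : diagonal ![c, 1, 1] * diagonal ![1, -1, -1] = diagonal ![1, -1, -1] * (diagonal ![c, 1, 1] : Matrix (Fin 3) (Fin 3) F) := by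
    rw [diagonal_mul_diagonal, diagonal_mul_diagonal]
    congr 1
    funext i
    ring
  have hMQ : A.1 * Q = Q * diagonal ![1, -1, -1] := by
    simp only [Q]
    rw [← Matrix.mul_assoc, hMP, Matrix.mul_assoc, Matrix.mul_assoc, hcomm]
  let C : SL(3, F) := ⟨Q, hQdet⟩
  refine ⟨C, ?_⟩
  apply mul_inv_eq_of_eq_mul
  apply Subtype.ext
  exact hMQ.symm

/-- All involutions of `SL₃` are conjugate to the standard one. -/
theorem invol_sl3 (h2 : (2 : F) ≠ 0) (A : SL(3, F)) (hA : A * A = 1) (h1 : A ≠ 1) :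
    ∃ C : SL(3, F), C * D0 * C⁻¹ = A := by
  have hM : A.1 * A.1 = 1 := by
    have := congrArg Subtype.val hA
    simpa using this
  obtain ⟨b, d, hd, hb⟩ := invol_eigenbasis h2 A.1 hM
  let e := Pi.basisFun F (Fin 3)
  let P : Matrix (Fin 3) (Fin 3) F := e.toMatrix b
  have hP : ∀ i j, P i j = b j i := by
    intro i j
    simp [P, Module.Basis.toMatrix_apply, e]
  have hdet : P.det ≠ 0 := by
    have := e.isUnit_det b
    rw [Module.Basis.det_apply] at this
    exact this.ne_zero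
  have hMP : A.1 * P = P * diagonal d := by
    ext i j
    have := congrFun (hb j) i
    simp only [Matrix.mul_diagonal, hP]
    simp only [Matrix.mul_apply, hP]
    simp only [Matrix.mulVec, dotProduct, Pi.smul_apply, smul_eq_mul] at this
    rw [this, mul_comm]
  have hdetd : d 0 * d 1 * d 2 = 1 := by
    have := congrArg Matrix.det hMP
    rw [det_mul, det_mul, A.2, one_mul, det_diagonal, Fin.prod_univ_three] at this
    exact (mul_left_cancel₀ hdet (by rw [mul_one]; exact this)).symm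
  have hnot : ¬ (d 0 = 1 ∧ d 1 = 1 ∧ d 2 = 1) := by
    rintro ⟨h0, h1', h2'⟩
    apply h1
    apply Subtype.ext
    have hd1 : d = fun _ => 1 := by
      funext i
      fin_cases i <;> assumption
    rw [hd1, Matrix.diagonal_one, Matrix.mul_one] at hMP
    have hU : IsUnit P := (Matrix.isUnit_iff_isUnit_det P).2 (isUnit_iff_ne_zero.2 hdet)
    have h3 := hU.mul_left_inj.1 (hMP.trans (Matrix.one_mul P).symm)
    exact h3
  have hne : (1 : F) ≠ -1 := by
    intro h
    apply h2
    have : (2 : F) = 1 + 1 := by norm_num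
    rw [this]
    nth_rewrite 1 [h]
    ring
  -- the position of the eigenvalue one
  have hcase : (d 0 = 1 ∧ d 1 = -1 ∧ d 2 = -1) ∨ (d 0 = -1 ∧ d 1 = 1 ∧ d 2 = -1) ∨ (d 0 = -1 ∧ d 1 = -1 ∧ d 2 = 1) := by
    rcases hd 0 with a0 | a0 <;> rcases hd 1 with a1 | a1 <;> rcases hd 2 with a2 | a2 <;>
      rw [a0, a1, a2] at hdetd <;> simp [a0, a1, a2] at hdetd hnot ⊢
    · exact (hne hdetd.symm).elim
    · exact (hne hdetd.symm).elim
    · exact (hne hdetd.symm).elim
    · exact (hne (by rw [hdetd]) ).elim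
  rcases hcase with ⟨a0, a1, a2⟩ | ⟨a0, a1, a2⟩ | ⟨a0, a1, a2⟩
  · apply conj_of_basis A b
    intro i
    rw [hb]
    fin_cases i <;> simp [a0, a1, a2]
  · apply conj_of_basis A (b.reindex (Equiv.swap 0 1))
    intro i
    simp only [Module.Basis.reindex_apply, hb]
    have hs : (Equiv.swap (0 : Fin 3) 1) 2 = 2 := by decide
    fin_cases i <;> simp [a0, a1, a2, hs]
  · apply conj_of_basis A (b.reindex (Equiv.swap 0 2))
    intro i
    simp only [Module.Basis.reindex_apply, hb]
    have hs : (Equiv.swap (0 : Fin 3) 2) 1 = 1 := by decide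
    fin_cases i <;> simp [a0, a1, a2, hs]

/-- Every involution of the automorphism group is conjugate to the standard one. -/
theorem invol_conj_std [Fintype F] (hF : Odd (Fintype.card F)) (h2 : (2 : F) ≠ 0) (t : Aut8 F) (htt : t * t = 1) (ht1 : t ≠ 1) :
    ∃ g : Aut8 F, g * sl3Hom D0 * g⁻¹ = t := by
  obtain ⟨e, he, hte⟩ := exists_fixed_idem hF h2 t htt ht1
  obtain ⟨s, hs⟩ := idem_trans he
  have hfix : ((s⁻¹ * t * s : Aut8 F) : V F ≃ₗ[F] V F) (E 0) = E 0 := by
    simp only [Subgroup.coe_mul, LinearEquiv.mul_apply]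
    rw [hs, hte]
    have : ((s⁻¹ : Aut8 F) : V F ≃ₗ[F] V F) ((s : V F ≃ₗ[F] V F) (E 0)) = E 0 := by
      rw [← LinearEquiv.mul_apply, ← Subgroup.coe_mul, inv_mul_cancel]
      rfl
    rw [← hs, this]
  obtain ⟨A, hA⟩ := stab_range _ hfix
  have hA2 : A * A = 1 := by
    apply sl3Hom_inj
    rw [map_mul, map_one, ← hA]
    have : s⁻¹ * t * s * (s⁻¹ * t * s) = s⁻¹ * (t * t) * s := by group
    rw [this, htt]
    group
  have hA1 : A ≠ 1 := by
    rintro rfl
    rw [map_one] at hA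
    apply ht1
    have : t = s * (s⁻¹ * t * s) * s⁻¹ := by group
    rw [this, hA]
    group
  obtain ⟨C, hC⟩ := invol_sl3 h2 A hA2 hA1
  refine ⟨s * sl3Hom C, ?_⟩
  have h3 : sl3Hom C * sl3Hom D0 * (sl3Hom C)⁻¹ = s⁻¹ * t * s := by
    rw [← map_inv, ← map_mul, ← map_mul, hC, hA]
  calc s * sl3Hom C * sl3Hom D0 * (s * sl3Hom C)⁻¹ = s * (sl3Hom C * sl3Hom D0 * (sl3Hom C)⁻¹) * s⁻¹ := by group
    _ = t := by rw [h3]; group

end Cfsg.Agent.Lib.G2Oct.Invol
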