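/-
Base change of the automorphism group of Zorn's algebra along a field homomorphism.
-/
import Cfsg.Agent.Lib.G2Oct.Invol

set_option autoImplicit false
set_option linter.all false

namespace Cfsg.Agent.Lib.G2Oct.BaseCh

open Cfsg.Lie Matrix Module
open Cfsg.Agent.Lib.G2Oct.Aut8 Cfsg.Agent.Lib.G2Oct.Stab Cfsg.Agent.Lib.G2Oct.Count
  Cfsg.Agent.Lib.G2Oct.Invol
open scoped MatrixGroups

variable {F K : Type*} [Field F] [Field K] (ι : F →+* K)

/-- The coordinatewise map. -/
def mv (v : V F) : V K := fun i => ι (v i)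

@[simp] lemma mv_apply (v : V F) (i : Fin 8) : mv ι v i = ι (v i) := rfl

lemma mv_inj : Function.Injective (mv ι) := by
  intro a b h
  ext i
  exact ι.injective (congrFun h i)

lemma mv_add (a b : V F) : mv ι (a + b) = mv ι a + mv ι b := by
  ext i; simp

lemma mv_sub (a b : V F) : mv ι (a - b) = mv ι a - mv ι b := by
  ext i; simp

lemma mv_smul (c : F) (a : V F) : mv ι (c • a) = ι c • mv ι a := by
  ext i; simp

lemma mv_zero : mv ι (0 : V F) = 0 := by
  ext i; simp

lemma mv_one8 : mv ι (one8 : V F) = one8 := by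
  ext i; fin_cases i <;> simp [one8]

lemma mv_E (j : Fin 8) : mv ι (E j : V F) = E j := by
  ext i; simp only [mv_apply, E_apply]; split_ifs <;> simp

lemma mv_zorn (x y : V F) : mv ι (zornMul x y) = zornMul (mv ι x) (mv ι y) := by
  ext i
  fin_cases i <;> simp [zornMul, dot3, cross3, zA, zB]

lemma tr8_mv (x : V F) : tr8 (mv ι x) = ι (tr8 x) := by
  simp [tr8]

lemma nm8_mv (x : V F) : nm8 (mv ι x) = ι (nm8 x) := by
  simp [nm8]

lemma bf8_mv (x y : V F) : bf8 (mv ι x) (mv ι y) = ι (bf8 x y) := by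
  simp [bf8]

/-- Extensionality on the basis vectors. -/
lemma lin_ext {f g : V K →ₗ[K] V K} (h : ∀ i, f (E i) = g (E i)) : f = g := by
  apply (Pi.basisFun K (Fin 8)).ext
  intro i
  have hb : (Pi.basisFun K (Fin 8) i) = E i := by simp [E, Pi.basisFun_apply]
  rw [hb]
  exact h i

/-- Base change of a linear map. -/
noncomputable def bcM (s : V F →ₗ[F] V F) : V K →ₗ[K] V K :=
  Matrix.toLin' ((LinearMap.toMatrix' s).map ι)

lemma bcM_mv (s : V F →ₗ[F] V F) (v : V F) : bcM ι s (mv ι v) = mv ι (s v) := by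
  ext i
  have h := RingHom.map_mulVec ι (LinearMap.toMatrix' s) v i
  rw [LinearMap.toMatrix'_mulVec] at h
  simp only [bcM, Matrix.toLin'_apply, mv_apply]
  rw [h]
  rfl

lemma bcM_eq (s : V F →ₗ[F] V F) (f : V K →ₗ[K] V K) (h : ∀ v, f (mv ι v) = mv ι (s v)) : f = bcM ι s := by
  apply lin_ext
  intro i
  rw [← mv_E ι i, h, bcM_mv]

lemma bcM_comp (s t : V F →ₗ[F] V F) : bcM ι (s ∘ₗ t) = bcM ι s ∘ₗ bcM ι t := by
  symm
  apply bcM_eq
  intro v
  rw [LinearMap.comp_apply, bcM_mv, bcM_mv, LinearMap.comp_apply]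

lemma bcM_id : bcM ι (LinearMap.id : V F →ₗ[F] V F) = LinearMap.id := by
  symm
  apply bcM_eq
  intro v
  rfl

lemma trace_eq_toMatrix (s : V F →ₗ[F] V F) :
    LinearMap.trace F (V F) s = (LinearMap.toMatrix' s).trace := by
  conv_lhs => rw [← Matrix.toLin'_toMatrix' s]
  rw [Matrix.trace_toLin'_eq]

lemma bcM_trace (s : V F →ₗ[F] V F) :
    LinearMap.trace K (V K) (bcM ι s) = ι (LinearMap.trace F (V F) s) := by
  rw [bcM, Matrix.trace_toLin'_eq, trace_eq_toMatrix]
  simp [Matrix.trace, map_sum]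

/-- The trace as a sum. -/
lemma trace_sum (f : V F →ₗ[F] V F) :
    LinearMap.trace F (V F) f = ∑ i, f (E i) i := by
  rw [trace_eq_toMatrix, Matrix.trace]
  refine Finset.sum_congr rfl fun i _ => ?_
  rw [Matrix.diag_apply, LinearMap.toMatrix'_apply]
  congr 2

/-- Right multiplication as a linear map. -/
def mulR (u : V F) : V F →ₗ[F] V F where
  toFun x := zornMul x u
  map_add' x y := by
    ext i
    fin_cases i <;> simp [zornMul, dot3, cross3, zA, zB] <;> ring
  map_smul' c x := by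
    ext i
    fin_cases i <;> simp [zornMul, dot3, cross3, zA, zB] <;> ring

lemma mulR_apply (u x : V F) : mulR u x = zornMul x u := rfl

/-- Base change of an automorphism. -/
noncomputable def bcL (g : Aut8 F) : V K ≃ₗ[K] V K :=
  LinearEquiv.ofLinear (bcM ι (g : V F ≃ₗ[F] V F).toLinearMap) (bcM ι ((g⁻¹ : Aut8 F) : V F ≃ₗ[F] V F).toLinearMap)
    (by
      rw [← bcM_comp, ← bcM_id ι]
      congr 1
      apply LinearMap.ext
      intro v
      change ((g * g⁻¹ : Aut8 F) : V F ≃ₗ[F] V F) v = v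
      simp)
    (by
      rw [← bcM_comp, ← bcM_id ι]
      congr 1
      apply LinearMap.ext
      intro v
      change ((g⁻¹ * g : Aut8 F) : V F ≃ₗ[F] V F) v = v
      simp)

lemma bcL_mv (g : Aut8 F) (v : V F) : bcL ι g (mv ι v) = mv ι ((g : V F ≃ₗ[F] V F) v) :=
  bcM_mv ι _ v

lemma bcL_mem (g : Aut8 F) : bcL ι g ∈ Aut8 K := by
  intro x y
  set f := bcL ι g with hf
  have h1 : ∀ i j : Fin 8, f (zornMul (E i) (E j)) = zornMul (f (E i)) (f (E j)) := by
    intro i j
    rw [← mv_E ι i, ← mv_E ι j, ← mv_zorn, hf, bcL_mv, bcL_mv, bcL_mv, Aut8_mul, mv_zorn]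
  have h2 : ∀ (x : V K) (j : Fin 8), f (zornMul x (E j)) = zornMul (f x) (f (E j)) := by
    intro x j
    have : f.toLinearMap ∘ₗ mulR (E j) = mulR (f (E j)) ∘ₗ f.toLinearMap := by
      apply lin_ext
      intro i
      exact h1 i j
    exact LinearMap.congr_fun this x
  have : f.toLinearMap ∘ₗ mulL x = mulL (f x) ∘ₗ f.toLinearMap := by
    apply lin_ext
    intro j
    exact h2 x j
  exact LinearMap.congr_fun this y

/-- Base change as a homomorphism. -/
noncomputable def bc : Aut8 F →* Aut8 K where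
  toFun g := ⟨bcL ι g, bcL_mem ι g⟩
  map_one' := by
    apply Subtype.ext
    apply LinearEquiv.toLinearMap_injective
    exact bcM_id ι
  map_mul' a b := by
    apply Subtype.ext
    apply LinearEquiv.toLinearMap_injective
    exact bcM_comp ι _ _

lemma bc_mv (g : Aut8 F) (v : V F) :
    ((bc ι g : Aut8 K) : V K ≃ₗ[K] V K) (mv ι v) = mv ι ((g : V F ≃ₗ[F] V F) v) :=
  bcL_mv ι g v

lemma bc_toLin (g : Aut8 F) :
    ((bc ι g : Aut8 K) : V K ≃ₗ[K] V K).toLinearMap = bcM ι (g : V F ≃ₗ[F] V F).toLinearMap := rfl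

lemma bc_inj : Function.Injective (bc ι : Aut8 F →* Aut8 K) := by
  rw [injective_iff_map_eq_one]
  intro g hg
  apply Subtype.ext
  apply LinearEquiv.ext
  intro v
  have h := bc_mv ι g v
  rw [hg] at h
  exact (mv_inj ι h).symm

/-- Characterisation of the base change. -/
lemma bc_eq (g : Aut8 F) (y : Aut8 K)
    (h : ∀ v, (y : V K ≃ₗ[K] V K) (mv ι v) = mv ι ((g : V F ≃ₗ[F] V F) v)) : bc ι g = y := by
  apply Subtype.ext
  apply LinearEquiv.toLinearMap_injective
  exact (bcM_eq ι _ _ h).symm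

/-- Left multiplication under base change. -/
lemma bcM_mulL (x : V F) : bcM ι (mulL x) = mulL (mv ι x) := by
  symm
  apply bcM_eq
  intro v
  simp only [mulL_apply]
  rw [mv_zorn]

/-- Descent of automorphisms with coordinates in the image. -/
lemma descend (y : Aut8 K) (h : ∀ i j, ∃ a : F, ι a = (y : V K ≃ₗ[K] V K) (E j) i)
    (hinv : ∀ i j, ∃ a : F, ι a = ((y⁻¹ : Aut8 K) : V K ≃ₗ[K] V K) (E j) i) :
    ∃ g : Aut8 F, bc ι g = y := by
  choose a ha using h
  choose b hb using hinv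
  let A : V F →ₗ[F] V F := Matrix.toLin' (Matrix.of a)
  let B : V F →ₗ[F] V F := Matrix.toLin' (Matrix.of b)
  have hA : ∀ v, (y : V K ≃ₗ[K] V K) (mv ι v) = mv ι (A v) := by
    have h1 : bcM ι A = (y : V K ≃ₗ[K] V K).toLinearMap := by
      apply lin_ext
      intro j
      ext i
      rw [← mv_E ι j, bcM_mv]
      simp only [LinearEquiv.coe_coe, mv_E, mv_apply]
      rw [← ha i j]
      congr 1
      simp [A, Matrix.toLin'_apply, Matrix.mulVec, dotProduct, E_apply]
    intro v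
    rw [← bcM_mv, h1]
    rfl
  have hB : ∀ v, ((y⁻¹ : Aut8 K) : V K ≃ₗ[K] V K) (mv ι v) = mv ι (B v) := by
    have h1 : bcM ι B = ((y⁻¹ : Aut8 K) : V K ≃ₗ[K] V K).toLinearMap := by
      apply lin_ext
      intro j
      ext i
      rw [← mv_E ι j, bcM_mv]
      simp only [LinearEquiv.coe_coe, mv_E, mv_apply]
      rw [← hb i j]
      congr 1
      simp [B, Matrix.toLin'_apply, Matrix.mulVec, dotProduct, E_apply]
    intro v
    rw [← bcM_mv, h1]
    rfl
  have hAB : ∀ v, A (B v) = v := by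
    intro v
    apply mv_inj ι
    rw [← hA, ← hB]
    change ((y * y⁻¹ : Aut8 K) : V K ≃ₗ[K] V K) (mv ι v) = _
    simp
  have hBA : ∀ v, B (A v) = v := by
    intro v
    apply mv_inj ι
    rw [← hB, ← hA]
    change ((y⁻¹ * y : Aut8 K) : V K ≃ₗ[K] V K) (mv ι v) = _
    simp
  let G : V F ≃ₗ[F] V F := LinearEquiv.ofLinear A B (LinearMap.ext hAB) (LinearMap.ext hBA)
  have hG : G ∈ Aut8 F := by
    intro p q
    apply mv_inj ι
    change mv ι (A (zornMul p q)) = mv ι (zornMul (A p) (A q))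
    rw [← hA, mv_zorn, mv_zorn, ← hA, ← hA]
    exact Aut8_mul y _ _
  exact ⟨⟨G, hG⟩, bc_eq ι _ y fun v => hA v⟩

end Cfsg.Agent.Lib.G2Oct.BaseCh
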