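/-
The automorphisms `(x, Y) ↦ (A x A⁻¹, B Y A⁻¹)` of the double of `M₂(F)`, and the centraliser of
`τ : (x, Y) ↦ (x, -Y)`.
-/
import Mathlib
import Cfsg.Agent.Lib.G2Oct.Oct

set_option autoImplicit false
set_option linter.all false

namespace Cfsg.Agent.Lib.G2Oct.Phi

open Cfsg.Agent.Lib.G2Oct.Oct Matrix
open scoped MatrixGroups

variable {F : Type*} [Field F]

/-- The linear automorphism attached to a pair of invertible matrices. -/
def phiL (A B : GL (Fin 2) F) : Oct F ≃ₗ[F] Oct F where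
  toFun q := ((A : M2 F) * q.1 * ((A⁻¹ : GL (Fin 2) F) : M2 F), (B : M2 F) * q.2 * ((A⁻¹ : GL (Fin 2) F) : M2 F))
  map_add' p q := by
    ext i j <;> simp [mul_add, add_mul]
  map_smul' c p := by
    ext i j <;> simp [Matrix.mul_smul, Matrix.smul_mul]
  invFun q := (((A⁻¹ : GL (Fin 2) F) : M2 F) * q.1 * (A : M2 F), ((B⁻¹ : GL (Fin 2) F) : M2 F) * q.2 * (A : M2 F))
  left_inv q := by
    ext i j <;> simp [mul_assoc]
  right_inv q := by
    ext i j <;> simp [mul_assoc]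

@[simp] lemma phiL_apply (A B : GL (Fin 2) F) (q : Oct F) :
    phiL A B q = ((A : M2 F) * q.1 * ((A⁻¹ : GL (Fin 2) F) : M2 F), (B : M2 F) * q.2 * ((A⁻¹ : GL (Fin 2) F) : M2 F)) := rfl

lemma phiL_mul (A B C D : GL (Fin 2) F) : phiL A B * phiL C D = phiL (A * C) (B * D) := by
  apply LinearEquiv.ext
  intro q
  simp [mul_assoc, LinearEquiv.mul_apply]

lemma phiL_one : phiL (1 : GL (Fin 2) F) 1 = 1 := by
  apply LinearEquiv.ext
  intro q
  simp

/-- `phiL` as a homomorphism. -/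
def phi : GL (Fin 2) F × GL (Fin 2) F →* (Oct F ≃ₗ[F] Oct F) where
  toFun p := phiL p.1 p.2
  map_one' := phiL_one
  map_mul' p q := (phiL_mul _ _ _ _).symm

@[simp] lemma phi_apply (p : GL (Fin 2) F × GL (Fin 2) F) : phi p = phiL p.1 p.2 := rfl

/-- Pairs of equal determinant. -/
def E (F : Type*) [Field F] : Subgroup (GL (Fin 2) F × GL (Fin 2) F) where
  carrier := {p | (p.1 : M2 F).det = (p.2 : M2 F).det}
  mul_mem' {a b} ha hb := by
    simp only [Set.mem_setOf_eq, Units.val_mul, Prod.fst_mul, Prod.snd_mul, det_mul] at *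
    rw [ha, hb]
  one_mem' := by simp
  inv_mem' {a} ha := by
    simp only [Set.mem_setOf_eq, Prod.fst_inv, Prod.snd_inv] at *
    have h1 : ((a.1 : M2 F)).det * (((a.1⁻¹ : GL (Fin 2) F) : M2 F)).det = 1 := by
      rw [← det_mul]; simp
    have h2 : ((a.2 : M2 F)).det * (((a.2⁻¹ : GL (Fin 2) F) : M2 F)).det = 1 := by
      rw [← det_mul]; simp
    rw [ha] at h1
    have h3 : ((a.2 : M2 F)).det ≠ 0 := by
      intro h; rw [h] at h2; simp at h2
    exact mul_left_cancel₀ h3 (h1.trans h2.symm)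

lemma adj_unit (A : GL (Fin 2) F) :
    adjugate (A : M2 F) = (A : M2 F).det • ((A⁻¹ : GL (Fin 2) F) : M2 F) := by
  have h := Matrix.adjugate_mul (A : M2 F)
  have h2 : (A : M2 F) * ((A⁻¹ : GL (Fin 2) F) : M2 F) = 1 := by simp
  calc adjugate (A : M2 F) = adjugate (A : M2 F) * ((A : M2 F) * ((A⁻¹ : GL (Fin 2) F) : M2 F)) := by
        rw [h2, mul_one]
    _ = _ := by
        rw [← mul_assoc, h, smul_mul_assoc, one_mul]

lemma det_unit_ne (A : GL (Fin 2) F) : (A : M2 F).det ≠ 0 := by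
  have h1 : ((A : M2 F)).det * (((A⁻¹ : GL (Fin 2) F) : M2 F)).det = 1 := by
    rw [← det_mul]; simp
  intro h; rw [h] at h1; simp at h1

lemma adj_unit_inv (A : GL (Fin 2) F) :
    adjugate ((A⁻¹ : GL (Fin 2) F) : M2 F) = ((A : M2 F).det)⁻¹ • (A : M2 F) := by
  have h1 : ((A : M2 F)).det * (((A⁻¹ : GL (Fin 2) F) : M2 F)).det = 1 := by
    rw [← det_mul]; simp
  rw [adj_unit, inv_inv]
  congr 1
  exact (eq_inv_of_mul_eq_one_right h1)

lemma adj_conj (A : GL (Fin 2) F) (x : M2 F) :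
    adjugate ((A : M2 F) * x * ((A⁻¹ : GL (Fin 2) F) : M2 F)) =
      (A : M2 F) * adjugate x * ((A⁻¹ : GL (Fin 2) F) : M2 F) := by
  rw [adjugate_mul_distrib, adjugate_mul_distrib, adj_unit_inv, adj_unit]
  simp only [smul_mul_assoc, mul_smul_comm, smul_smul, mul_inv_cancel₀ (det_unit_ne A), one_smul, mul_assoc]

lemma adj_conj' (A B : GL (Fin 2) F) (h : (A : M2 F).det = (B : M2 F).det) (V : M2 F) :
    adjugate ((B : M2 F) * V * ((A⁻¹ : GL (Fin 2) F) : M2 F)) =
      (A : M2 F) * adjugate V * ((B⁻¹ : GL (Fin 2) F) : M2 F) := by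
  rw [adjugate_mul_distrib, adjugate_mul_distrib, adj_unit_inv, adj_unit, h]
  simp only [smul_mul_assoc, mul_smul_comm, smul_smul, mul_inv_cancel₀ (det_unit_ne B), one_smul, mul_assoc]

theorem phiL_mem (A B : GL (Fin 2) F) (h : (A : M2 F).det = (B : M2 F).det) : phiL A B ∈ AutO F := by
  intro p q
  rw [phiL_apply, phiL_apply, phiL_apply]
  ext1
  · simp only [cdMul_fst, adj_conj' A B h]
    simp [mul_assoc, mul_sub, sub_mul]
  · simp only [cdMul_snd, adj_conj]
    simp [mul_assoc, mul_add, add_mul]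

/-- The involution `τ`. -/
def tau : GL (Fin 2) F × GL (Fin 2) F := (1, -1)

lemma tau_mem_E : (tau : GL (Fin 2) F × GL (Fin 2) F) ∈ E F := by
  simp only [tau, E, Subgroup.mem_mk, Set.mem_setOf_eq]
  simp [Matrix.det_fin_two]

lemma phi_tau_apply (q : Oct F) : phi (tau : GL (Fin 2) F × GL (Fin 2) F) q = (q.1, - q.2) := by
  simp [tau, phiL_apply]

/-- A matrix commuting with all matrices is scalar. -/
lemma central_scalar (A : M2 F) (h : ∀ x : M2 F, A * x = x * A) : ∃ c : F, A = c • 1 := by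
  have h1 := h !![1, 0; 0, 0]
  have h2 := h !![0, 1; 1, 0]
  have e1 := congrFun (congrFun h1 0) 1
  have e2 := congrFun (congrFun h1 1) 0
  have e3 := congrFun (congrFun h2 0) 1
  simp [Matrix.mul_apply, Fin.sum_univ_two] at e1 e2 e3
  refine ⟨A 0 0, ?_⟩
  ext i j
  fin_cases i <;> fin_cases j <;> simp
  · exact e1.symm
  · exact e2
  · exact e3.symm

/-- The kernel of `phi`. -/
lemma phiL_eq_one {A B : GL (Fin 2) F} (h : phiL A B = 1) :
    ∃ c : F, (A : M2 F) = c • 1 ∧ (B : M2 F) = c • 1 := by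
  have h1 : ∀ x : M2 F, (A : M2 F) * x = x * (A : M2 F) := by
    intro x
    have := congrArg (fun s : Oct F ≃ₗ[F] Oct F => (s (x, 0)).1) h
    simp only [phiL_apply, LinearEquiv.coe_one, id] at this
    calc (A : M2 F) * x = (A : M2 F) * x * (((A⁻¹ : GL (Fin 2) F) : M2 F) * (A : M2 F)) := by simp
      _ = _ := by rw [← mul_assoc, this]
  obtain ⟨c, hc⟩ := central_scalar _ h1
  refine ⟨c, hc, ?_⟩
  have := congrArg (fun s : Oct F ≃ₗ[F] Oct F => (s (0, 1)).2) h
  simp only [phiL_apply, LinearEquiv.coe_one, id, mul_one] at this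
  rw [← hc]
  calc (B : M2 F) = (B : M2 F) * (((A⁻¹ : GL (Fin 2) F) : M2 F) * (A : M2 F)) := by simp
    _ = _ := by rw [← mul_assoc, this, one_mul]

end Cfsg.Agent.Lib.G2Oct.Phi
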