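/-
The centraliser of `τ` in the automorphism group of the double of `M₂(F)` consists of the `phiL A B`,
`det A = det B`.
-/
import Mathlib
import Cfsg.Agent.Lib.G2Oct.Phi

set_option autoImplicit false
set_option linter.all false

namespace Cfsg.Agent.Lib.G2Oct.Cent

open Cfsg.Agent.Lib.G2Oct.Oct Cfsg.Agent.Lib.G2Oct.Phi Matrix
open scoped MatrixGroups

variable {F : Type*} [Field F]

/-- Skolem-Noether for `M₂(F)`. -/
theorem skolem_M2 (s : M2 F →ₗ[F] M2 F) (hmul : ∀ x y, s (x * y) = s x * s y)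
    (hinj : Function.Injective s) :
    ∃ A : GL (Fin 2) F, ∀ x, s x = (A : M2 F) * x * ((A⁻¹ : GL (Fin 2) F) : M2 F) := by
  set E11 : M2 F := !![1, 0; 0, 0] with hE11
  set E21 : M2 F := !![0, 0; 1, 0] with hE21
  have hE : s E11 ≠ 0 := by
    intro h
    have h1 : s E11 = s 0 := by rw [h, map_zero]
    have h2 := congrFun (congrFun (hinj h1) 0) 0
    simp [hE11] at h2
  obtain ⟨w, hw⟩ : ∃ w : Fin 2 → F, s E11 *ᵥ w ≠ 0 := by
    by_contra hc
    push Not at hc
    apply hE
    ext i j
    have := congrFun (hc (Pi.single j 1)) i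
    simpa using this
  set f1 := s E11 *ᵥ w with hf1
  set f2 := s E21 *ᵥ w with hf2
  have h1 : ∀ x, s x *ᵥ f1 = x 0 0 • f1 + x 1 0 • f2 := by
    intro x
    have : x * E11 = x 0 0 • E11 + x 1 0 • E21 := by
      ext i j
      fin_cases i <;> fin_cases j <;> simp [hE11, hE21, Matrix.mul_apply, Fin.sum_univ_two]
    rw [hf1, mulVec_mulVec, ← hmul, this, map_add, map_smul, map_smul, add_mulVec, smul_mulVec, smul_mulVec]
  have h2 : ∀ x, s x *ᵥ f2 = x 0 1 • f1 + x 1 1 • f2 := by
    intro x
    have : x * E21 = x 0 1 • E11 + x 1 1 • E21 := by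
      ext i j
      fin_cases i <;> fin_cases j <;> simp [hE11, hE21, Matrix.mul_apply, Fin.sum_univ_two]
    rw [hf2, mulVec_mulVec, ← hmul, this, map_add, map_smul, map_smul, add_mulVec, smul_mulVec, smul_mulVec]
  set A : M2 F := !![f1 0, f2 0; f1 1, f2 1] with hA
  have hcomm : ∀ x, s x * A = A * x := by
    intro x
    ext i j
    fin_cases j
    · have := congrFun (h1 x) i
      simp only [mulVec, dotProduct, Fin.sum_univ_two] at this
      fin_cases i <;> simp [hA, Matrix.mul_apply, Fin.sum_univ_two] at this ⊢ <;> linear_combination this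
    · have := congrFun (h2 x) i
      simp only [mulVec, dotProduct, Fin.sum_univ_two] at this
      fin_cases i <;> simp [hA, Matrix.mul_apply, Fin.sum_univ_two] at this ⊢ <;> linear_combination this
  have hdet : A.det ≠ 0 := by
    intro h0
    obtain ⟨c, hc, hAc⟩ := Matrix.exists_mulVec_eq_zero_iff.2 h0
    have key : ∀ x : M2 F, A *ᵥ (x *ᵥ c) = 0 := by
      intro x
      rw [mulVec_mulVec, ← hcomm, ← mulVec_mulVec, hAc, mulVec_zero]
    apply hw
    obtain ⟨x, hx⟩ : ∃ x : M2 F, x *ᵥ c = ![1, 0] := by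
      by_cases h0 : c 0 = 0
      · have h1' : c 1 ≠ 0 := by
          intro h1'
          apply hc
          ext i
          fin_cases i <;> simp [h0, h1']
        refine ⟨!![0, (c 1)⁻¹; 0, 0], ?_⟩
        ext i
        fin_cases i <;> simp [mulVec, dotProduct, Fin.sum_univ_two, h1']
      · refine ⟨!![(c 0)⁻¹, 0; 0, 0], ?_⟩
        ext i
        fin_cases i <;> simp [mulVec, dotProduct, Fin.sum_univ_two, h0]
    have := key x
    rw [hx] at this
    ext i
    have h3 := congrFun this i
    fin_cases i <;> simpa [hA, mulVec, dotProduct, Fin.sum_univ_two] using h3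
  refine ⟨Matrix.GeneralLinearGroup.mkOfDetNeZero A hdet, fun x => ?_⟩
  set U := Matrix.GeneralLinearGroup.mkOfDetNeZero A hdet with hU
  have hUA : (U : M2 F) = A := rfl
  calc s x = s x * ((U : M2 F) * ((U⁻¹ : GL (Fin 2) F) : M2 F)) := by simp
    _ = (s x * (U : M2 F)) * ((U⁻¹ : GL (Fin 2) F) : M2 F) := by rw [mul_assoc]
    _ = _ := by rw [hUA, hcomm]

variable (h2 : (2 : F) ≠ 0)
include h2

lemma eq_zero_of_neg (X : M2 F) (h : - X = X) : X = 0 := by
  have h3 : (2 : F) • X = 0 := by
    rw [two_smul]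
    nth_rewrite 1 [← h]
    simp
  exact (smul_eq_zero.1 h3).resolve_left h2

/-- The centraliser of `τ`. -/
theorem cent_tau (g : Oct F ≃ₗ[F] Oct F) (hg : g ∈ AutO F)
    (hc : g * phi (tau : GL (Fin 2) F × GL (Fin 2) F) = phi (tau : GL (Fin 2) F × GL (Fin 2) F) * g) :
    ∃ p ∈ E F, g = phi p := by
  have hcomm : ∀ q : Oct F, g (q.1, - q.2) = ((g q).1, - (g q).2) := by
    intro q
    have := LinearEquiv.congr_fun hc q
    simp only [LinearEquiv.mul_apply, phi_tau_apply] at this
    exact this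
  -- `g` preserves the first summand
  have h_a : ∀ x : M2 F, (g (x, 0)).2 = 0 := by
    intro x
    have := hcomm (x, 0)
    simp only [neg_zero] at this
    have h3 := congrArg Prod.snd this
    exact eq_zero_of_neg h2 _ h3.symm
  -- the induced map on `M₂`
  let s : M2 F →ₗ[F] M2 F :=
    (LinearMap.fst F (M2 F) (M2 F)).comp (g.toLinearMap.comp (LinearMap.inl F (M2 F) (M2 F)))
  have hs : ∀ x, g (x, 0) = (s x, 0) := by
    intro x
    apply Prod.ext
    · rfl
    · exact h_a x
  have hmul : ∀ x y, s (x * y) = s x * s y := by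
    intro x y
    have h3 := hg (x, 0) (y, 0)
    have h4 : cdMul ((x, 0) : Oct F) (y, 0) = (x * y, 0) := by
      apply Prod.ext <;> simp
    rw [h4, hs, hs, hs] at h3
    have h5 := congrArg Prod.fst h3
    simpa using h5
  have hinj : Function.Injective s := by
    intro x y hxy
    have : g (x, 0) = g (y, 0) := by rw [hs, hs, hxy]
    exact congrArg Prod.fst (g.injective this)
  obtain ⟨A, hA⟩ := skolem_M2 s hmul hinj
  -- normalise
  set g' : Oct F ≃ₗ[F] Oct F := phiL A⁻¹ A⁻¹ * g with hg'
  have hg'mem : g' ∈ AutO F := (AutO F).mul_mem (phiL_mem _ _ rfl) hg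
  have hfix : ∀ x : M2 F, g' (x, 0) = (x, 0) := by
    intro x
    simp only [hg', LinearEquiv.mul_apply, hs, hA, phiL_apply]
    apply Prod.ext
    · simp [mul_assoc]
    · simp
  have hcomm' : ∀ q : Oct F, g' (q.1, - q.2) = ((g' q).1, - (g' q).2) := by
    intro q
    simp only [hg', LinearEquiv.mul_apply, hcomm, phiL_apply]
    apply Prod.ext
    · simp
    · simp
  have h_b : ∀ Y : M2 F, (g' (0, Y)).1 = 0 := by
    intro Y
    have h3 := hcomm' (0, Y)
    have h4 : ((0 : M2 F), - Y) = - ((0 : M2 F), Y) := by simp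
    simp only at h3
    rw [h4, map_neg] at h3
    have h5 := congrArg Prod.fst h3
    simp only [Prod.fst_neg] at h5
    exact eq_zero_of_neg h2 _ h5
  have hrho : ∀ V x : M2 F, (g' (0, V * x)).2 = (g' (0, V)).2 * x := by
    intro V x
    have h3 := hg'mem ((x, 0) : Oct F) (0, V)
    have h4 : cdMul ((x, 0) : Oct F) (0, V) = (0, V * x) := by
      apply Prod.ext <;> simp
    rw [h4, hfix] at h3
    have h5 := congrArg Prod.snd h3
    simpa [h_b] using h5
  set c : M2 F := (g' (0, 1)).2 with hc'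
  have hY : ∀ Y : M2 F, g' (0, Y) = (0, c * Y) := by
    intro Y
    apply Prod.ext
    · exact h_b Y
    · have := hrho 1 Y
      rw [one_mul] at this
      exact this
  have hdetc : c.det = 1 := by
    have h3 := hg'mem ((0, 1) : Oct F) (0, 1)
    have h4 : cdMul ((0, 1) : Oct F) (0, 1) = (-1, 0) := by
      apply Prod.ext <;> simp
    rw [h4, hY] at h3
    rw [hfix] at h3
    have h6 := congrArg Prod.fst h3
    simp [adjugate_mul] at h6
    have h7 := congrFun (congrFun h6 0) 0
    simp at h7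
    exact h7.symm
  have hdetc' : c.det ≠ 0 := by rw [hdetc]; exact one_ne_zero
  set C := Matrix.GeneralLinearGroup.mkOfDetNeZero c hdetc' with hC
  have hCc : (C : M2 F) = c := rfl
  have hg'eq : g' = phiL 1 C := by
    apply LinearEquiv.ext
    intro q
    have h3 : q = (q.1, 0) + (0, q.2) := by simp
    rw [h3, map_add, map_add, hfix, hY]
    simp [hCc]
  refine ⟨(A, A * C), ?_, ?_⟩
  · change ((A : M2 F)).det = (((A * C : GL (Fin 2) F)) : M2 F).det
    simp [hCc, hdetc]
  · have : g = phiL A A * g' := by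
      rw [hg', ← mul_assoc, phiL_mul]
      simp [phiL_one]
    rw [this, hg'eq, phiL_mul]
    simp

end Cfsg.Agent.Lib.G2Oct.Cent
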