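/-
The maximal torus `T = F[J]ˣ` of `GL₂(F)`, `J² = ε = ±1`, and the Sylow `2`-subgroup
`R = T₂ ∪ T₂ w` of `GL₂(F)`, `w = diag(1, -1)`, for `ε ≡ q mod 4`.
-/
import Mathlib
import Cfsg.Agent.Lib.G2Oct.Phi

set_option autoImplicit false
set_option linter.all false

namespace Cfsg.Agent.Lib.G2Oct.TorusR

open Cfsg.Agent.Lib.G2Oct.Oct Cfsg.Agent.Lib.G2Oct.Phi Matrix
open scoped MatrixGroups

variable {F : Type*} [Field F]

/-- `J`. -/
def Jm (ε : F) : M2 F := !![0, ε; 1, 0]

/-- `w`. -/
def wm (F : Type*) [Field F] : M2 F := !![1, 0; 0, -1]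

lemma Jm_mul_self (ε : F) : Jm ε * Jm ε = ε • 1 := by
  ext i j
  fin_cases i <;> fin_cases j <;> simp [Jm, Matrix.mul_apply, Fin.sum_univ_two]

lemma wm_mul_self : wm F * wm F = 1 := by
  ext i j
  fin_cases i <;> fin_cases j <;> simp [wm, Matrix.mul_apply, Fin.sum_univ_two]

/-- `J` as a unit. -/
def Ju {ε : F} (he : ε * ε = 1) : GL (Fin 2) F where
  val := Jm ε
  inv := ε • Jm ε
  val_inv := by rw [mul_smul_comm, Jm_mul_self, smul_smul, he, one_smul]
  inv_val := by rw [smul_mul_assoc, Jm_mul_self, smul_smul, he, one_smul]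

/-- `w` as a unit. -/
def wu (F : Type*) [Field F] : GL (Fin 2) F where
  val := wm F
  inv := wm F
  val_inv := wm_mul_self
  inv_val := wm_mul_self

lemma wu_mul_self : wu F * wu F = 1 := Units.ext wm_mul_self

lemma wu_inv : (wu F)⁻¹ = wu F := inv_eq_of_mul_eq_one_left wu_mul_self

variable {ε : F} (he : ε * ε = 1)
include he

/-- The torus. -/
def T : Subgroup (GL (Fin 2) F) := Subgroup.centralizer {Ju he}

lemma mem_T_iff (g : GL (Fin 2) F) :
    g ∈ T he ↔ (g : M2 F) 0 0 = (g : M2 F) 1 1 ∧ (g : M2 F) 0 1 = ε * (g : M2 F) 1 0 := by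
  have h1 : g ∈ T he ↔ (Ju he : GL (Fin 2) F) * g = g * Ju he := by
    simp [T, Subgroup.mem_centralizer_singleton_iff, eq_comm]
  rw [h1, Units.ext_iff]
  have h0 : ε ≠ 0 := by
    intro h; rw [h] at he; simp at he
  constructor
  · intro h
    have e1 := congrFun (congrFun h 0) 0
    have e2 := congrFun (congrFun h 1) 0
    simp [Ju, Jm, Matrix.mul_apply, Fin.sum_univ_two] at e1 e2
    exact ⟨e2, e1.symm ▸ by ring⟩
  · rintro ⟨h1, h2⟩
    ext i j
    fin_cases i <;> fin_cases j <;>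
      simp [Ju, Jm, Matrix.mul_apply, Fin.sum_univ_two, h1, h2, ← mul_assoc, he] <;> ring_nf


lemma T_comm {g h : GL (Fin 2) F} (hg : g ∈ T he) (hh : h ∈ T he) : g * h = h * g := by
  obtain ⟨g1, g2⟩ := (mem_T_iff he g).1 hg
  obtain ⟨h1, h2⟩ := (mem_T_iff he h).1 hh
  apply Units.ext
  ext i j
  fin_cases i <;> fin_cases j <;>
    simp [Matrix.mul_apply, Fin.sum_univ_two, g1, g2, h1, h2] <;> ring

omit he in
lemma wconj_apply (g : GL (Fin 2) F) :
    ((wu F * g * wu F : GL (Fin 2) F) : M2 F) = !![(g : M2 F) 0 0, - (g : M2 F) 0 1; - (g : M2 F) 1 0, (g : M2 F) 1 1] := by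
  ext i j
  fin_cases i <;> fin_cases j <;>
    simp [wu, wm, Matrix.mul_apply, Fin.sum_univ_two, Matrix.vecMul, dotProduct]

lemma wconj_T {g : GL (Fin 2) F} (hg : g ∈ T he) : wu F * g * wu F ∈ T he := by
  obtain ⟨g1, g2⟩ := (mem_T_iff he g).1 hg
  rw [mem_T_iff, wconj_apply]
  simp [g1, g2]

lemma wconj_adj {g : GL (Fin 2) F} (hg : g ∈ T he) :
    ((wu F * g * wu F : GL (Fin 2) F) : M2 F) = adjugate (g : M2 F) := by
  obtain ⟨g1, g2⟩ := (mem_T_iff he g).1 hg
  rw [wconj_apply, adjugate_fin_two, g1]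

/-- The `2`-elements of the torus. -/
def T2 : Subgroup (GL (Fin 2) F) where
  carrier := {g | g ∈ T he ∧ ∃ k : ℕ, g ^ (2 ^ k) = 1}
  mul_mem' {a b} ha hb := by
    obtain ⟨ha1, k, hk⟩ := ha
    obtain ⟨hb1, l, hl⟩ := hb
    refine ⟨(T he).mul_mem ha1 hb1, k + l, ?_⟩
    have hc : Commute a b := T_comm he ha1 hb1
    rw [hc.mul_pow, pow_add 2 k l, pow_mul, hk, one_pow, mul_comm (2 ^ k), pow_mul, hl, one_pow, mul_one]
  one_mem' := ⟨(T he).one_mem, 0, by simp⟩
  inv_mem' {a} ha := by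
    obtain ⟨ha1, k, hk⟩ := ha
    exact ⟨(T he).inv_mem ha1, k, by rw [inv_pow, hk, inv_one]⟩

lemma wconj_T2 {g : GL (Fin 2) F} (hg : g ∈ T2 he) : wu F * g * wu F ∈ T2 he := by
  obtain ⟨h1, k, hk⟩ := hg
  refine ⟨wconj_T he h1, k, ?_⟩
  have h3 : wu F * g * wu F = wu F * g * (wu F)⁻¹ := by rw [wu_inv]
  rw [h3, conj_pow, hk]
  simp

/-- The Sylow `2`-subgroup of `GL₂`. -/
def R : Subgroup (GL (Fin 2) F) where
  carrier := {g | g ∈ T2 he ∨ g * wu F ∈ T2 he}
  mul_mem' {a b} ha hb := by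
    have hw : wu F * wu F = 1 := wu_mul_self
    rcases ha with ha | ha <;> rcases hb with hb | hb
    · exact Or.inl ((T2 he).mul_mem ha hb)
    · right
      rw [mul_assoc]
      exact (T2 he).mul_mem ha hb
    · right
      have : a * b * wu F = (a * wu F) * (wu F * b * wu F) := by
        calc a * b * wu F = a * (wu F * wu F) * b * wu F := by rw [hw, mul_one]
          _ = _ := by group
      rw [this]
      exact (T2 he).mul_mem ha (wconj_T2 he hb)
    · left
      have : a * b = (a * wu F) * (wu F * (b * wu F) * wu F) := by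
        calc a * b = a * (wu F * wu F) * b * (wu F * wu F) := by rw [hw, mul_one, mul_one]
          _ = _ := by group
      rw [this]
      exact (T2 he).mul_mem ha (wconj_T2 he hb)
  one_mem' := Or.inl (T2 he).one_mem
  inv_mem' {a} ha := by
    have hw : wu F * wu F = 1 := wu_mul_self
    rcases ha with ha | ha
    · exact Or.inl ((T2 he).inv_mem ha)
    · right
      have : a⁻¹ * wu F = wu F * (a * wu F)⁻¹ * wu F := by
        rw [_root_.mul_inv_rev, wu_inv]
        calc a⁻¹ * wu F = (wu F * wu F) * a⁻¹ * wu F := by rw [hw, one_mul]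
          _ = _ := by group
      rw [this]
      exact wconj_T2 he ((T2 he).inv_mem ha)

lemma T2_le_R : T2 he ≤ R he := fun _ h => Or.inl h

lemma wu_T2_mem {y : GL (Fin 2) F} (hy : y ∈ T2 he) : y * wu F ∈ R he := by
  right
  rw [mul_assoc, wu_mul_self, mul_one]
  exact hy

lemma wu_mem_R : wu F ∈ R he := by
  have := wu_T2_mem he (T2 he).one_mem
  simpa using this

/-- `R` is a `2`-group. -/
lemma R_isPGroup : IsPGroup 2 (R he) := by
  rintro ⟨g, hg⟩
  rcases hg with hg | hg
  · obtain ⟨_, k, hk⟩ := hg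
    exact ⟨k, Subtype.ext (by simpa using hk)⟩
  · have h2 : g ^ 2 = (g * wu F) * (wu F * (g * wu F) * wu F) := by
      have hw : wu F * wu F = 1 := wu_mul_self
      calc g ^ 2 = g * (wu F * wu F) * g * (wu F * wu F) := by rw [hw, mul_one, mul_one, pow_two]
        _ = _ := by group
    have h3 : g ^ 2 ∈ T2 he := by
      rw [h2]
      exact (T2 he).mul_mem hg (wconj_T2 he hg)
    obtain ⟨_, k, hk⟩ := h3
    refine ⟨k + 1, Subtype.ext ?_⟩
    simp only [Subgroup.coe_pow, Subgroup.coe_one, OneMemClass.coe_one]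
    rw [pow_succ', pow_mul, hk]


/-- Coordinates on the torus. -/
noncomputable def Tequiv : T he ≃ {p : F × F // p.1 * p.1 - ε * (p.2 * p.2) ≠ 0} where
  toFun g := ⟨(((g : GL (Fin 2) F) : M2 F) 0 0, ((g : GL (Fin 2) F) : M2 F) 1 0), by
    have h := det_unit_ne (g : GL (Fin 2) F)
    obtain ⟨g1, g2⟩ := (mem_T_iff he g).1 g.2
    rw [det_fin_two, g2, ← g1] at h
    intro h0
    apply h
    dsimp only at h0
    linear_combination h0⟩
  invFun p := ⟨Matrix.GeneralLinearGroup.mkOfDetNeZero !![p.1.1, ε * p.1.2; p.1.2, p.1.1] (by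
      rw [det_fin_two_of]
      intro h
      apply p.2
      linear_combination h), by
      rw [mem_T_iff]
      simp [Matrix.GeneralLinearGroup.mkOfDetNeZero]⟩
  left_inv g := by
    apply Subtype.ext
    apply Units.ext
    obtain ⟨g1, g2⟩ := (mem_T_iff he g).1 g.2
    ext i j
    fin_cases i <;> fin_cases j <;> simp [Matrix.GeneralLinearGroup.mkOfDetNeZero, g1, g2]
  right_inv p := by
    apply Subtype.ext
    apply Prod.ext <;> simp [Matrix.GeneralLinearGroup.mkOfDetNeZero]

lemma wu_not_mem_T (h2 : (2 : F) ≠ 0) : wu F ∉ T he := by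
  intro h
  have := ((mem_T_iff he _).1 h).1
  simp only [wu, wm] at this
  simp at this
  apply h2
  linear_combination this

lemma card_R [Finite F] (h2 : (2 : F) ≠ 0) : Nat.card (R he) = 2 * Nat.card (T2 he) := by
  classical
  have hset : ((R he : Subgroup _) : Set (GL (Fin 2) F)) =
      (T2 he : Set (GL (Fin 2) F)) ∪ (fun g => g * wu F) '' (T2 he : Set (GL (Fin 2) F)) := by
    ext g
    constructor
    · rintro (h | h)
      · exact Or.inl h
      · refine Or.inr ⟨g * wu F, h, ?_⟩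
        simp only [mul_assoc, wu_mul_self, mul_one]
    · rintro (h | ⟨y, hy, rfl⟩)
      · exact Or.inl h
      · exact wu_T2_mem he hy
  have hdisj : Disjoint (T2 he : Set (GL (Fin 2) F)) ((fun g => g * wu F) '' (T2 he : Set (GL (Fin 2) F))) := by
    rw [Set.disjoint_left]
    rintro g hg ⟨y, hy, rfl⟩
    apply wu_not_mem_T he h2
    have h3 : y⁻¹ * (y * wu F) ∈ T he := (T he).mul_mem ((T he).inv_mem hy.1) hg.1
    simpa using h3
  have e1 : Nat.card (R he) = ((R he : Subgroup _) : Set (GL (Fin 2) F)).ncard := Nat.card_coe_set_eq _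
  have e2 : Nat.card (T2 he) = ((T2 he : Subgroup _) : Set (GL (Fin 2) F)).ncard := Nat.card_coe_set_eq _
  rw [e1, e2, hset, Set.ncard_union_eq hdisj (Set.toFinite _) (Set.toFinite _),
    Set.ncard_image_of_injective _ (mul_left_injective (wu F)), two_mul]

lemma card_T_eq [Finite F] : ∃ i, Nat.card (T he) = Nat.card (T2 he) * i ∧ ¬ 2 ∣ i := by
  classical
  have hfin : Finite (T he) := inferInstance
  obtain ⟨S⟩ : Nonempty (Sylow 2 (T he)) := inferInstance
  set U : Subgroup (T he) := (T2 he).subgroupOf (T he) with hU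
  have hUp : IsPGroup 2 U := by
    rintro ⟨g, hg⟩
    have h3 : (g : GL (Fin 2) F) ∈ T2 he := Subgroup.mem_subgroupOf.1 hg
    obtain ⟨_, k, hk⟩ := h3
    refine ⟨k, Subtype.ext (Subtype.ext ?_)⟩
    simpa using hk
  have hSU : (S : Subgroup (T he)) ≤ U := by
    intro g hg
    obtain ⟨k, hk⟩ := S.isPGroup' ⟨g, hg⟩
    refine Subgroup.mem_subgroupOf.2 ⟨g.2, k, ?_⟩
    have := congrArg (fun x : S => ((x : T he) : GL (Fin 2) F)) hk
    simpa using this
  have hUS : U = S := S.is_maximal' hUp hSU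
  refine ⟨U.index, ?_, ?_⟩
  · have h3 := Subgroup.card_mul_index U
    have hle : T2 he ≤ T he := fun g hg => hg.1
    have h4 : Nat.card U = Nat.card (T2 he) :=
      Nat.card_congr (Subgroup.subgroupOfEquivOfLe hle).toEquiv
    rw [← h3, h4]
  · rw [hUS]
    exact S.not_dvd_index

variable {he}

omit he in
lemma card_N_one [Fintype F] (h2 : (2 : F) ≠ 0) :
    Nat.card {p : F × F // p.1 * p.1 - (1 : F) * (p.2 * p.2) ≠ 0} = (Fintype.card F - 1) ^ 2 := by
  classical
  let e : Fˣ × Fˣ ≃ {p : F × F // p.1 * p.1 - (1 : F) * (p.2 * p.2) ≠ 0} :=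
    { toFun := fun u => ⟨(((u.1 : F) + u.2) / 2, ((u.1 : F) - u.2) / 2), by
        have h3 : ((u.1 : F) + u.2) / 2 * (((u.1 : F) + u.2) / 2) -
            (1 : F) * (((u.1 : F) - u.2) / 2 * (((u.1 : F) - u.2) / 2)) = u.1 * u.2 := by
          field_simp
          ring
        simp only [h3]
        exact mul_ne_zero u.1.ne_zero u.2.ne_zero⟩
      invFun := fun p => by
        have h3 : (p.1.1 + p.1.2) * (p.1.1 - p.1.2) ≠ 0 := by
          intro h
          apply p.2
          linear_combination h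
        exact (Units.mk0 _ (left_ne_zero_of_mul h3), Units.mk0 _ (right_ne_zero_of_mul h3))
      left_inv := fun u => by
        apply Prod.ext <;> apply Units.ext <;> simp <;> field_simp <;> ring
      right_inv := fun p => by
        apply Subtype.ext
        apply Prod.ext <;> simp <;> field_simp <;> ring }
  rw [← Nat.card_congr e, Nat.card_prod, Nat.card_units, Nat.card_eq_fintype_card]
  ring

omit he in
lemma card_N_neg [Fintype F] (hn : ¬ IsSquare (-1 : F)) :
    Nat.card {p : F × F // p.1 * p.1 - (-1 : F) * (p.2 * p.2) ≠ 0} = Fintype.card F ^ 2 - 1 := by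
  classical
  have hiff : ∀ p : F × F, p.1 * p.1 - (-1 : F) * (p.2 * p.2) ≠ 0 ↔ p ≠ 0 := by
    intro p
    constructor
    · rintro h rfl
      simp at h
    · intro hp h
      apply hp
      have hb : p.2 = 0 := by
        by_contra hb
        apply hn
        refine ⟨p.1 / p.2, ?_⟩
        field_simp
        linear_combination - h
      have ha : p.1 = 0 := by
        rw [hb] at h
        simpa using h
      exact Prod.ext ha hb
  have e : {p : F × F // p.1 * p.1 - (-1 : F) * (p.2 * p.2) ≠ 0} ≃ {p : F × F // p ≠ 0} :=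
    Equiv.subtypeEquivRight hiff
  rw [Nat.card_congr e, Nat.card_eq_fintype_card, Fintype.card_subtype_compl]
  simp [Fintype.card_prod, pow_two]

omit he in
/-- `R` has odd index in `GL₂`. -/
theorem R_index [Fintype F] (he : ε * ε = 1) (h2 : (2 : F) ≠ 0)
    (hcase : (ε = 1 ∧ Fintype.card F % 4 = 1) ∨ (ε = -1 ∧ Fintype.card F % 4 = 3)) :
    ¬ 2 ∣ (R he).index := by
  classical
  set q := Fintype.card F with hq
  have hq1 : 1 ≤ q := Fintype.card_pos
  have hGL : Nat.card (GL (Fin 2) F) = (q ^ 2 - 1) * (q ^ 2 - q) := by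
    rw [Matrix.card_GL_field]
    simp [Fin.prod_univ_two, hq]
  have hTm : ∃ m, Nat.card (GL (Fin 2) F) = Nat.card (T he) * (2 * m) ∧ ¬ 2 ∣ m := by
    rw [Nat.card_congr (Tequiv he)]
    rcases hcase with ⟨rfl, h4⟩ | ⟨rfl, h4⟩
    · rw [card_N_one h2, hGL, ← hq]
      obtain ⟨k, hk⟩ : ∃ k, q = 4 * k + 1 := ⟨q / 4, by omega⟩
      refine ⟨q * (2 * k + 1), ?_, ?_⟩
      · rw [hk]
        have e1 : (4 * k + 1) ^ 2 - 1 = 4 * k * (4 * k + 2) := by
          have : (4 * k + 1) ^ 2 = 4 * k * (4 * k + 2) + 1 := by ring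
          omega
        have e2 : (4 * k + 1) ^ 2 - (4 * k + 1) = 4 * k * (4 * k + 1) := by
          have : (4 * k + 1) ^ 2 = 4 * k * (4 * k + 1) + (4 * k + 1) := by ring
          omega
        have e3 : 4 * k + 1 - 1 = 4 * k := by omega
        rw [e1, e2, e3]
        ring
      · have h5 : Odd q := by rw [hk]; exact ⟨2 * k, by ring⟩
        have h6 : Odd (2 * k + 1) := ⟨k, rfl⟩
        have := h5.mul h6
        exact fun h => (Nat.not_even_iff_odd.2 this) (even_iff_two_dvd.2 h)
    · have hn : ¬ IsSquare (-1 : F) := by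
        rw [FiniteField.isSquare_neg_one_iff]
        simpa using h4
      rw [card_N_neg hn, hGL, ← hq]
      obtain ⟨k, hk⟩ : ∃ k, q = 4 * k + 3 := ⟨q / 4, by omega⟩
      refine ⟨q * (2 * k + 1), ?_, ?_⟩
      · have e2 : q ^ 2 - q = (q ^ 2 - 1) / (q ^ 2 - 1) * (q * (2 * (2 * k + 1))) := by
          have hpos : 0 < q ^ 2 - 1 := by
            have : 1 < q ^ 2 := by nlinarith
            omega
          rw [Nat.div_self hpos, one_mul, hk]
          have : (4 * k + 3) ^ 2 = (4 * k + 3) * (2 * (2 * k + 1)) + (4 * k + 3) := by ring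
          omega
        rw [e2, Nat.div_self (by
          have : 1 < q ^ 2 := by nlinarith
          omega), one_mul]
        ring
      · have h5 : Odd q := by rw [hk]; exact ⟨2 * k + 1, by ring⟩
        have h6 : Odd (2 * k + 1) := ⟨k, rfl⟩
        have := h5.mul h6
        exact fun h => (Nat.not_even_iff_odd.2 this) (even_iff_two_dvd.2 h)
  obtain ⟨m, hm, hm2⟩ := hTm
  obtain ⟨i, hi, hi2⟩ := card_T_eq he
  have h3 := Subgroup.card_mul_index (R he)
  rw [card_R he h2, hm, hi] at h3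
  have hpos : 0 < Nat.card (T2 he) := Nat.card_pos
  have h4 : (R he).index = i * m := by
    have h5 : Nat.card (T2 he) * 2 * (R he).index = Nat.card (T2 he) * 2 * (i * m) := by
      calc _ = 2 * Nat.card (T2 he) * (R he).index := by ring
        _ = _ := by rw [h3]; ring
    exact Nat.eq_of_mul_eq_mul_left (by positivity) h5
  rw [h4]
  intro h
  rcases (Nat.Prime.dvd_mul Nat.prime_two).1 h with h | h
  · exact hi2 h
  · exact hm2 h

end Cfsg.Agent.Lib.G2Oct.TorusR
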