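/-
Sylow `2`-subgroups of the automorphism group of the split octonions over a finite field of odd order:
squares lie in the derived subgroup.
-/
import Mathlib
import Cfsg.Agent.Lib.G2Oct.Cent
import Cfsg.Agent.Lib.G2Oct.TorusR
import Cfsg.Agent.Lib.OmegaSyl.Real
import Cfsg.Agent.Lib.SpWreath.DetW

set_option autoImplicit false
set_option linter.all false

namespace Cfsg.Agent.Lib.G2Oct.Main

open Cfsg.Agent.Lib.G2Oct.Oct Cfsg.Agent.Lib.G2Oct.Phi Cfsg.Agent.Lib.G2Oct.Cent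
  Cfsg.Agent.Lib.G2Oct.TorusR Matrix
open scoped MatrixGroups

/-- The abstract argument. -/
theorem sq_mem_of_data {G : Type*} [Group G] [Finite G] (M : Subgroup G) (τ : G) (hτ : τ ∈ M) (hτ1 : τ ≠ 1)
    (hMp : IsPGroup 2 M)
    (hmax : ∀ P : Subgroup G, IsPGroup 2 P → M ≤ P → (∀ x ∈ P, x * τ = τ * x) → P ≤ M)
    (hz : ∀ z : G, z ≠ 1 → z ^ 2 = 1 → (∀ m ∈ M, z * m = m * z) → z = τ)
    (hreal : ∀ x ∈ M, ∃ t ∈ M, t * x * t⁻¹ = x⁻¹) (P : Sylow 2 G) (x : P) :
    x ^ 2 ∈ commutator P := by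
  classical
  obtain ⟨P₀, hP₀⟩ := hMp.exists_le_sylow
  have hp : IsPGroup 2 (P₀ : Subgroup G) := P₀.isPGroup'
  haveI : Nontrivial (P₀ : Subgroup G) :=
    ⟨⟨⟨τ, hP₀ hτ⟩, 1, fun h => hτ1 (congrArg Subtype.val h)⟩⟩
  haveI := hp.center_nontrivial
  have hpc : IsPGroup 2 (Subgroup.center (P₀ : Subgroup G)) := hp.to_subgroup _
  obtain ⟨c, hc⟩ := (hpc.exists_card_eq) 
  have hdvd : 2 ∣ Nat.card (Subgroup.center (P₀ : Subgroup G)) := by
    rw [hc]
    apply dvd_pow_self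
    rintro rfl
    have : Nat.card (Subgroup.center (P₀ : Subgroup G)) = 1 := by simpa using hc
    have h3 := Finite.one_lt_card (α := Subgroup.center (P₀ : Subgroup G))
    omega
  obtain ⟨z, hzo⟩ := exists_prime_orderOf_dvd_card' 2 hdvd
  have hz1 : ((z : (P₀ : Subgroup G)) : G) ≠ 1 := by
    intro h
    have h3 : z = 1 := Subtype.ext (Subtype.ext h)
    rw [h3, orderOf_one] at hzo
    omega
  have hz2 : ((z : (P₀ : Subgroup G)) : G) ^ 2 = 1 := by
    have := pow_orderOf_eq_one z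
    rw [hzo] at this
    have h3 := congrArg (fun y : Subgroup.center (P₀ : Subgroup G) => ((y : (P₀ : Subgroup G)) : G)) this
    simpa using h3
  have hzcent : ∀ y ∈ (P₀ : Subgroup G), ((z : (P₀ : Subgroup G)) : G) * y = y * ((z : (P₀ : Subgroup G)) : G) := by
    intro y hy
    have := (Subgroup.mem_center_iff.1 z.2) ⟨y, hy⟩
    exact (congrArg Subtype.val this).symm
  have hzτ := hz _ hz1 hz2 (fun m hm => hzcent m (hP₀ hm))
  have hPle : (P₀ : Subgroup G) ≤ M := hmax _ hp hP₀ (fun y hy => by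
    rw [← hzτ]
    exact (hzcent y hy).symm)
  have hreal' : Cfsg.Agent.Lib.OmegaSyl.Real.IsReal (P₀ : Subgroup G) := by
    rintro ⟨y, hy⟩
    obtain ⟨t, ht, hty⟩ := hreal y (hPle hy)
    exact ⟨⟨t, hP₀ ht⟩, Subtype.ext hty⟩
  exact Cfsg.Agent.Lib.SpWreath.DetW.sq_of_equiv (P₀.equiv P) hreal'.sq_mem x

variable {F : Type*} [Field F]

/-- Scalars. -/
def sc : Fˣ →* GL (Fin 2) F where
  toFun c :=
    { val := (c : F) • 1
      inv := ((c⁻¹ : Fˣ) : F) • 1
      val_inv := by simp [smul_smul]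
      inv_val := by simp [smul_smul] }
  map_one' := by
    apply Units.ext
    simp
  map_mul' a b := by
    apply Units.ext
    simp [smul_smul, mul_comm]

@[simp] lemma sc_val (c : Fˣ) : ((sc c : GL (Fin 2) F) : M2 F) = (c : F) • 1 := rfl

lemma sc_comm (c : Fˣ) (g : GL (Fin 2) F) : sc c * g = g * sc c := by
  apply Units.ext
  simp

lemma phi_sc (c : Fˣ) : phi ((sc c, sc c) : GL (Fin 2) F × GL (Fin 2) F) = 1 := by
  apply LinearEquiv.ext
  intro q
  have h1 : ((sc c)⁻¹ : GL (Fin 2) F) = sc c⁻¹ := (map_inv sc c).symm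
  simp only [phi_apply, phiL_apply, h1, sc_val]
  simp [smul_smul]

lemma phiL_eq_one' {A B : GL (Fin 2) F} (h : phiL A B = 1) :
    ∃ c : Fˣ, A = sc c ∧ B = sc c := by
  obtain ⟨c, h1, h2⟩ := phiL_eq_one h
  have hc : c ≠ 0 := by
    rintro rfl
    have := det_unit_ne A
    rw [h1] at this
    simp at this
  refine ⟨Units.mk0 c hc, Units.ext ?_, Units.ext ?_⟩
  · simpa using h1
  · simpa using h2

variable {ε : F} (he : ε * ε = 1)

lemma sc_mem_T (c : Fˣ) : sc c ∈ T he := by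
  rw [mem_T_iff]
  simp

lemma sc_mem_T2 (c : Fˣ) {k : ℕ} (hk : c ^ (2 ^ k) = 1) : sc c ∈ T2 he :=
  ⟨sc_mem_T he c, k, by rw [← map_pow, hk, map_one]⟩

lemma Ju_mem_T2 : Ju he ∈ T2 he := by
  refine ⟨by simp [T, Subgroup.mem_centralizer_singleton_iff], 2, ?_⟩
  apply Units.ext
  have h1 : ((Ju he : GL (Fin 2) F) : M2 F) * (Ju he : GL (Fin 2) F) = ε • 1 := Jm_mul_self ε
  have h2 : (2 : ℕ) ^ 2 = 2 + 2 := by norm_num
  rw [h2, pow_add]
  simp only [Units.val_mul, Units.val_pow_eq_pow_val, pow_two, h1]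
  simp [smul_smul, he]

/-- `J` and the matrices `y w`. -/
lemma Ju_conj_adj {y : GL (Fin 2) F} (hy : y ∈ T he) :
    ((Ju he : GL (Fin 2) F) : M2 F) * ((y * wu F : GL (Fin 2) F) : M2 F) =
      adjugate ((y * wu F : GL (Fin 2) F) : M2 F) * ((Ju he : GL (Fin 2) F) : M2 F) := by
  obtain ⟨g1, g2⟩ := (mem_T_iff he y).1 hy
  rw [adjugate_fin_two]
  ext i j
  fin_cases i <;> fin_cases j <;>
    simp [Ju, Jm, wu, wm, Matrix.mul_apply, Fin.sum_univ_two, g1, g2, Matrix.vecMul, dotProduct] <;> ring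

lemma det_Ju : ((Ju he : GL (Fin 2) F) : M2 F).det = - ε := by
  simp [Ju, Jm, det_fin_two]

lemma det_wu : ((wu F : GL (Fin 2) F) : M2 F).det = - 1 := by
  simp [wu, wm, det_fin_two]

/-- The norm is onto on `2`-elements, for the values `±1`. -/
lemma exists_det [Fintype F] (h2 : (2 : F) ≠ 0) (c : F) (hc : c = 1 ∨ c = -1) :
    ∃ y ∈ T2 he, ((y : GL (Fin 2) F) : M2 F).det = c := by
  classical
  have h0 : ε ≠ 0 := by
    intro h; rw [h] at he; simp at he
  have hc0 : c ≠ 0 := by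
    rcases hc with rfl | rfl <;> simp
  have hodd : Fintype.card F % 2 = 1 := by
    obtain ⟨p, hp⟩ := CharP.exists F
    haveI := hp
    have h3 := FiniteField.odd_card_of_char_ne_two (F := F) (by
      intro h
      apply h2
      have : ringChar F = 2 := h
      rw [← Nat.cast_two, ← this]
      exact ringChar.Nat.cast_ringChar)
    exact h3
  obtain ⟨a, b, hab⟩ : ∃ a b : F, (Polynomial.X ^ 2 - Polynomial.C c : Polynomial F).eval a +
      (Polynomial.C (-ε) * Polynomial.X ^ 2 : Polynomial F).eval b = 0 :=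
    FiniteField.exists_root_sum_quadratic (Polynomial.degree_X_pow_sub_C (by norm_num) _)
      (Polynomial.degree_C_mul_X_pow 2 (neg_ne_zero.2 h0)) hodd
  simp only [Polynomial.eval_sub, Polynomial.eval_pow, Polynomial.eval_X, Polynomial.eval_C,
    Polynomial.eval_mul] at hab
  have hdet : (!![a, ε * b; b, a] : M2 F).det = c := by
    rw [det_fin_two_of]
    linear_combination hab
  let y : GL (Fin 2) F := Matrix.GeneralLinearGroup.mkOfDetNeZero !![a, ε * b; b, a] (by rw [hdet]; exact hc0)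
  have hyT : y ∈ T he := by
    rw [mem_T_iff]
    simp [y, Matrix.GeneralLinearGroup.mkOfDetNeZero]
  obtain ⟨i, hi, hi2⟩ := card_T_eq he
  have hT2p : IsPGroup 2 (T2 he) := by
    rintro ⟨g, hg⟩
    obtain ⟨_, k, hk⟩ := hg
    exact ⟨k, Subtype.ext (by simpa using hk)⟩
  obtain ⟨n, hn⟩ := hT2p.exists_card_eq
  refine ⟨y ^ i, ⟨(T he).pow_mem hyT i, n, ?_⟩, ?_⟩
  · rw [← pow_mul, mul_comm, ← hn, ← hi]
    have := pow_card_eq_one' (x := (⟨y, hyT⟩ : T he))
    exact congrArg Subtype.val this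
  · have h3 : ((y : GL (Fin 2) F) : M2 F).det = c := hdet
    rw [Units.val_pow_eq_pow_val, det_pow, h3]
    rcases hc with rfl | rfl
    · simp
    · have : Odd i := by
        rcases Nat.even_or_odd i with h | h
        · exact absurd (even_iff_two_dvd.1 h) hi2
        · exact h
      exact this.neg_one_pow

/-- Every element of `R` is conjugate in `R` to its adjugate, by an element of determinant `-ε`. -/
lemma exists_conj_adj {s : GL (Fin 2) F} (hs : s ∈ T2 he) (hds : ((s : GL (Fin 2) F) : M2 F).det = ε)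
    {A : GL (Fin 2) F} (hA : A ∈ R he) :
    ∃ C ∈ R he, ((C : GL (Fin 2) F) : M2 F).det = - ε ∧
      ((C * A * C⁻¹ : GL (Fin 2) F) : M2 F) = adjugate (A : M2 F) := by
  rcases hA with hA | hA
  · refine ⟨wu F * s, ?_, ?_, ?_⟩
    · have : wu F * s = (wu F * s * wu F) * wu F := by
        rw [mul_assoc, wu_mul_self, mul_one]
      rw [this]
      exact wu_T2_mem he (wconj_T2 he hs)
    · rw [Units.val_mul, det_mul, hds, det_wu]
      ring
    · have h1 : wu F * s * A * (wu F * s)⁻¹ = wu F * A * wu F := by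
        have h3 : s * A = A * s := T_comm he hs.1 hA.1
        rw [_root_.mul_inv_rev, wu_inv, mul_assoc (wu F) s A, h3]
        group
      rw [h1]
      exact wconj_adj he hA.1
  · refine ⟨Ju he, T2_le_R he (Ju_mem_T2 he), det_Ju he, ?_⟩
    have hAe : A = (A * wu F) * wu F := by
      rw [mul_assoc, wu_mul_self, mul_one]
    have h1 := Ju_conj_adj he hA.1
    rw [← hAe] at h1
    rw [Units.val_mul, Units.val_mul, h1, mul_assoc]
    simp


/-- The pairs in `R × R` of equal determinant. -/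
def E2 : Subgroup (GL (Fin 2) F × GL (Fin 2) F) := (R he).prod (R he) ⊓ E F

lemma mem_E2 {p : GL (Fin 2) F × GL (Fin 2) F} :
    p ∈ E2 he ↔ p.1 ∈ R he ∧ p.2 ∈ R he ∧ (p.1 : M2 F).det = (p.2 : M2 F).det := by
  simp only [E2, Subgroup.mem_inf, Subgroup.mem_prod, and_assoc]
  rfl

lemma E2_le_E : E2 he ≤ E F := inf_le_right

lemma phi_mem {p : GL (Fin 2) F × GL (Fin 2) F} (hp : p ∈ E F) : phi p ∈ AutO F :=
  phiL_mem _ _ hp

/-- The candidate Sylow `2`-subgroup. -/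
def M : Subgroup (AutO F) := ((E2 he).map phi).subgroupOf (AutO F)

lemma mem_M (g : AutO F) : g ∈ M he ↔ ∃ p ∈ E2 he, phi p = g.1 := by
  simp [M, Subgroup.mem_subgroupOf, Subgroup.mem_map]

/-- `τ` in the automorphism group. -/
def tauA (F : Type*) [Field F] : AutO F := ⟨phi tau, phi_mem tau_mem_E⟩

lemma tauA_ne_one (h2 : (2 : F) ≠ 0) : tauA F ≠ 1 := by
  intro h
  have h3 := congrArg (fun g : AutO F => (g.1 ((0, 1) : Oct F)).2) h
  simp only [tauA, phi_tau_apply] at h3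
  have h4 := congrFun (congrFun h3 0) 0
  simp at h4
  apply h2
  have : (-1 : F) = 1 := h4
  linear_combination - this

lemma neg_one_mem_R : (-1 : GL (Fin 2) F) ∈ R he := by
  refine T2_le_R he ⟨?_, 1, by simp⟩
  rw [mem_T_iff]
  simp

lemma tauA_mem_M : tauA F ∈ M he := by
  rw [mem_M]
  refine ⟨tau, ?_, rfl⟩
  rw [mem_E2]
  refine ⟨(R he).one_mem, neg_one_mem_R he, ?_⟩
  simp [tau, det_fin_two]

lemma M_isPGroup : IsPGroup 2 (M he) := by
  rintro ⟨g, hg⟩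
  obtain ⟨p, hp, hpg⟩ := (mem_M he g).1 hg
  obtain ⟨h1, h2, -⟩ := (mem_E2 he).1 hp
  obtain ⟨k, hk⟩ := R_isPGroup he ⟨_, h1⟩
  obtain ⟨l, hl⟩ := R_isPGroup he ⟨_, h2⟩
  have hk' : p.1 ^ (2 ^ k) = 1 := by simpa using congrArg Subtype.val hk
  have hl' : p.2 ^ (2 ^ l) = 1 := by simpa using congrArg Subtype.val hl
  refine ⟨k + l, Subtype.ext (Subtype.ext ?_)⟩
  have h3 : p ^ (2 ^ (k + l)) = 1 := by
    apply Prod.ext
    · simp only [Prod.pow_fst, Prod.fst_one]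
      rw [pow_add, pow_mul, hk', one_pow]
    · simp only [Prod.pow_snd, Prod.snd_one]
      rw [pow_add, mul_comm, pow_mul, hl', one_pow]
  have h4 : (phi p) ^ (2 ^ (k + l)) = 1 := by
    rw [← map_pow, h3, map_one]
  simpa [hpg] using h4

lemma two_elt_det {r : GL (Fin 2) F} (hr : r ∈ R he) : ∃ k : ℕ, ((r : GL (Fin 2) F) : M2 F).det ^ (2 ^ k) = 1 := by
  obtain ⟨k, hk⟩ := R_isPGroup he ⟨_, hr⟩
  have hk' : r ^ (2 ^ k) = 1 := by simpa using congrArg Subtype.val hk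
  refine ⟨k, ?_⟩
  rw [← det_pow, ← Units.val_pow_eq_pow_val, hk']
  simp

/-- Reality of `M`. -/
lemma M_real {s : GL (Fin 2) F} (hs : s ∈ T2 he) (hds : ((s : GL (Fin 2) F) : M2 F).det = ε) :
    ∀ x ∈ M he, ∃ t ∈ M he, t * x * t⁻¹ = x⁻¹ := by
  intro x hx
  obtain ⟨p, hp, hpx⟩ := (mem_M he x).1 hx
  obtain ⟨h1, h2, h3⟩ := (mem_E2 he).1 hp
  obtain ⟨C, hC, hdC, hCA⟩ := exists_conj_adj he hs hds h1
  obtain ⟨D, hD, hdD, hDB⟩ := exists_conj_adj he hs hds h2
  have hCD : (C, D) ∈ E2 he := (mem_E2 he).2 ⟨hC, hD, by simp [hdC, hdD]⟩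
  refine ⟨⟨phi (C, D), phi_mem (E2_le_E he hCD)⟩, (mem_M he _).2 ⟨_, hCD, rfl⟩, ?_⟩
  apply Subtype.ext
  simp only [Subgroup.coe_mul, InvMemClass.coe_inv, ← hpx]
  rw [← map_inv, ← map_inv, ← map_mul, ← map_mul]
  set d : Fˣ := Units.mk0 (p.1 : M2 F).det (det_unit_ne _) with hd
  have hdv : ((d : Fˣ) : F) = (p.1 : M2 F).det := rfl
  have e1 : C * p.1 * C⁻¹ = p.1⁻¹ * sc d := by
    apply Units.ext
    rw [hCA, adj_unit]
    simp [hdv]
  have e2 : D * p.2 * D⁻¹ = p.2⁻¹ * sc d := by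
    apply Units.ext
    rw [hDB, adj_unit, ← h3]
    simp [hdv]
  have e3 : (C, D) * p * (C, D)⁻¹ = p⁻¹ * (sc d, sc d) := by
    apply Prod.ext
    · exact e1
    · exact e2
  rw [e3, map_mul, phi_sc, mul_one]

variable [Finite F]

/-- Maximality of `R` modulo scalars. -/
lemma mem_R_Z [Fintype F] (h2 : (2 : F) ≠ 0)
    (hcase : (ε = 1 ∧ Fintype.card F % 4 = 1) ∨ (ε = -1 ∧ Fintype.card F % 4 = 3))
    (W : Subgroup (GL (Fin 2) F)) (hRW : R he ≤ W)
    (hW : ∀ A ∈ W, ∃ (k : ℕ) (c : Fˣ), A ^ (2 ^ k) = sc c) :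
    ∀ A ∈ W, ∃ r ∈ R he, ∃ c : Fˣ, A = r * sc c := by
  classical
  let ψ : GL (Fin 2) F →* (Oct F ≃ₗ[F] Oct F) :=
    phi.comp (MonoidHom.prod (MonoidHom.id _) (MonoidHom.id _))
  have hψ : ∀ A, ψ A = phiL A A := fun A => rfl
  let ψ' := ψ.rangeRestrict
  have hsurj : Function.Surjective ψ' := ψ.rangeRestrict_surjective
  let S : Sylow 2 (GL (Fin 2) F) := (R_isPGroup he).toSylow (R_index he h2 hcase)
  have hS : (S : Subgroup (GL (Fin 2) F)) = R he := rfl
  let S' : Sylow 2 ψ.range := S.mapSurjective hsurj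
  have hS' : (S' : Subgroup ψ.range) = (R he).map ψ' := by
    rw [Sylow.coe_mapSurjective]
    rfl
  have hWp : IsPGroup 2 (W.map ψ') := by
    rintro ⟨_, A, hA, rfl⟩
    obtain ⟨k, c, hk⟩ := hW A hA
    refine ⟨k, Subtype.ext ?_⟩
    have h3 : ψ' A ^ (2 ^ k) = 1 := by
      rw [← map_pow, hk]
      apply Subtype.ext
      exact phi_sc c
    exact h3
  have hle : (S' : Subgroup ψ.range) ≤ W.map ψ' := by
    rw [hS']
    exact Subgroup.map_mono hRW
  have heq := S'.is_maximal' hWp hle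
  intro A hA
  have h3 : ψ' A ∈ (S' : Subgroup ψ.range) := by
    rw [← heq]
    exact ⟨A, hA, rfl⟩
  rw [hS'] at h3
  obtain ⟨r, hr, hrA⟩ := h3
  have h4 : ψ (r⁻¹ * A) = 1 := by
    have h5 : ψ r = ψ A := congrArg Subtype.val hrA
    rw [map_mul, map_inv, h5, inv_mul_cancel]
  rw [hψ] at h4
  obtain ⟨c, hc, -⟩ := phiL_eq_one' h4
  refine ⟨r, hr, c, ?_⟩
  rw [← hc]
  group

/-- A `2`-subgroup commuting with `τ` and containing `M` lies in `M`. -/
lemma M_max [Fintype F] (h2 : (2 : F) ≠ 0)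
    (hcase : (ε = 1 ∧ Fintype.card F % 4 = 1) ∨ (ε = -1 ∧ Fintype.card F % 4 = 3))
    (P : Subgroup (AutO F)) (hP : IsPGroup 2 P) (hMP : M he ≤ P)
    (hc : ∀ x ∈ P, x * tauA F = tauA F * x) : P ≤ M he := by
  classical
  -- the preimage of `P`
  let Q : Subgroup (GL (Fin 2) F × GL (Fin 2) F) :=
    ((P.map (AutO F).subtype).comap phi) ⊓ E F
  have hQ : ∀ p ∈ Q, ∃ (k : ℕ) (c : Fˣ), p.1 ^ (2 ^ k) = sc c ∧ p.2 ^ (2 ^ k) = sc c := by
    rintro p ⟨⟨g, hg, hgp⟩, hpE⟩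
    obtain ⟨k, hk⟩ := hP ⟨g, hg⟩
    have h3 : g ^ (2 ^ k) = 1 := by simpa using congrArg Subtype.val hk
    have h4 : (phi p) ^ (2 ^ k) = 1 := by
      have h5 : phi p = g.1 := hgp.symm
      rw [h5]
      simpa using congrArg Subtype.val h3
    rw [← map_pow] at h4
    obtain ⟨c, h5, h6⟩ := phiL_eq_one' h4
    exact ⟨k, c, h5, h6⟩
  have hRQ : ∀ r ∈ R he, (r, r) ∈ Q := by
    intro r hr
    have hE2 : (r, r) ∈ E2 he := (mem_E2 he).2 ⟨hr, hr, rfl⟩
    refine ⟨?_, E2_le_E he hE2⟩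
    refine ⟨⟨phi (r, r), phi_mem (E2_le_E he hE2)⟩, hMP ((mem_M he _).2 ⟨_, hE2, rfl⟩), rfl⟩
  have h1 := mem_R_Z he h2 hcase (Q.map (MonoidHom.fst _ _))
    (fun r hr => ⟨(r, r), hRQ r hr, rfl⟩)
    (by
      rintro _ ⟨p, hp, rfl⟩
      obtain ⟨k, c, h5, -⟩ := hQ p hp
      exact ⟨k, c, h5⟩)
  have h2' := mem_R_Z he h2 hcase (Q.map (MonoidHom.snd _ _))
    (fun r hr => ⟨(r, r), hRQ r hr, rfl⟩)
    (by
      rintro _ ⟨p, hp, rfl⟩
      obtain ⟨k, c, -, h5⟩ := hQ p hp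
      exact ⟨k, c, h5⟩)
  intro x hx
  obtain ⟨p, hpE, hxp⟩ := cent_tau h2 x.1 x.2 (by
    have := hc x hx
    exact congrArg Subtype.val this)
  have hpQ : p ∈ Q := by
    refine ⟨⟨x, hx, hxp⟩, hpE⟩
  obtain ⟨r₁, hr₁, c₁, h3⟩ := h1 p.1 ⟨p, hpQ, rfl⟩
  obtain ⟨r₂, hr₂, c₂, h4⟩ := h2' p.2 ⟨p, hpQ, rfl⟩
  -- the determinant condition
  have hdet : (p.1 : M2 F).det = (p.2 : M2 F).det := hpE
  have hdr₁ : (p.1 : M2 F).det = (c₁ : F) ^ 2 * (r₁ : M2 F).det := by
    rw [h3]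
    simp [det_fin_two, Matrix.mul_apply, Fin.sum_univ_two]
  have hdr₂ : (p.2 : M2 F).det = (c₂ : F) ^ 2 * (r₂ : M2 F).det := by
    rw [h4]
    simp [det_fin_two, Matrix.mul_apply, Fin.sum_univ_two]
  set ν : Fˣ := c₂ * c₁⁻¹ with hν
  have hνc : ν * c₁ = c₂ := by rw [hν]; group
  have hdr₂₀ : (r₂ : M2 F).det ≠ 0 := det_unit_ne _
  have hdr₁₀ : (r₁ : M2 F).det ≠ 0 := det_unit_ne _
  have hν2 : (ν : F) ^ 2 * (r₂ : M2 F).det = (r₁ : M2 F).det := by
    have h5 : ((c₁ : F)) ^ 2 * (r₁ : M2 F).det = (c₂ : F) ^ 2 * (r₂ : M2 F).det := by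
      rw [← hdr₁, ← hdr₂, hdet]
    have hc₁ : (c₁ : F) ≠ 0 := c₁.ne_zero
    have h6 : (ν : F) = c₂ / c₁ := by
      rw [hν]
      simp [div_eq_mul_inv]
    rw [h6]
    field_simp
    linear_combination -h5
  obtain ⟨k₁, hk₁⟩ := two_elt_det he hr₁
  obtain ⟨k₂, hk₂⟩ := two_elt_det he hr₂
  have hνpow : ν ^ (2 ^ (k₁ + k₂ + 1)) = 1 := by
    apply Units.ext
    simp only [Units.val_pow_eq_pow_val, Units.val_one]
    have h5 : ((ν : F) ^ 2) ^ (2 ^ (k₁ + k₂)) = 1 := by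
      have h6 : (ν : F) ^ 2 = (r₁ : M2 F).det / (r₂ : M2 F).det := by
        rw [← hν2]
        field_simp
      rw [h6, div_pow]
      have e1 : (r₁ : M2 F).det ^ (2 ^ (k₁ + k₂)) = 1 := by
        rw [pow_add, pow_mul, hk₁, one_pow]
      have e2 : (r₂ : M2 F).det ^ (2 ^ (k₁ + k₂)) = 1 := by
        rw [pow_add, mul_comm, pow_mul, hk₂, one_pow]
      rw [e1, e2, one_div_one]
    rw [pow_succ, mul_comm, pow_mul]
    exact h5
  have hscν : sc ν ∈ R he := T2_le_R he (sc_mem_T2 he ν hνpow)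
  have hE2 : (r₁, r₂ * sc ν) ∈ E2 he := by
    rw [mem_E2]
    refine ⟨hr₁, (R he).mul_mem hr₂ hscν, ?_⟩
    simp only [Units.val_mul, det_mul, sc_val]
    rw [← hν2]
    simp [det_fin_two]
    ring
  rw [mem_M]
  refine ⟨_, hE2, ?_⟩
  rw [hxp]
  have h5 : p = (r₁, r₂ * sc ν) * (sc c₁, sc c₁) := by
    apply Prod.ext
    · exact h3
    · change p.2 = r₂ * sc ν * sc c₁
      rw [h4, mul_assoc, ← map_mul, hνc]
  conv_rhs => rw [h5]
  rw [show phi ((r₁, r₂ * sc ν) * (sc c₁, sc c₁)) = phi (r₁, r₂ * sc ν) * phi (sc c₁, sc c₁) from map_mul phi _ _,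
    phi_sc, mul_one]


omit [Finite F] in
/-- From commuting `phi`s to commuting matrices. -/
lemma comm_left {A B X : GL (Fin 2) F} (h : phiL A B * phiL X 1 = phiL X 1 * phiL A B) : A * X = X * A := by
  rw [phiL_mul, phiL_mul, mul_one, one_mul] at h
  have h3 : phiL (A * X * (X * A)⁻¹) 1 = 1 := by
    have e1 := phiL_mul (A * X) B (X * A)⁻¹ B⁻¹
    have e2 := phiL_mul (X * A) B (X * A)⁻¹ B⁻¹
    rw [mul_inv_cancel] at e1
    rw [mul_inv_cancel, mul_inv_cancel] at e2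
    rw [← e1, h, e2, phiL_one]
  obtain ⟨c, h5, h6⟩ := phiL_eq_one' h3
  have h7 : c = 1 := by
    apply Units.ext
    have := congrFun (congrFun (congrArg (fun g : GL (Fin 2) F => (g : M2 F)) h6) 0) 0
    simpa using this.symm
  rw [h7, map_one] at h5
  exact mul_inv_eq_one.1 h5

omit [Finite F] in
lemma comm_right {A B X : GL (Fin 2) F} (h : phiL A B * phiL 1 X = phiL 1 X * phiL A B) : B * X = X * B := by
  rw [phiL_mul, phiL_mul, mul_one, one_mul] at h
  have h3 : phiL 1 (B * X * (X * B)⁻¹) = 1 := by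
    have e1 := phiL_mul A (B * X) A⁻¹ (X * B)⁻¹
    have e2 := phiL_mul A (X * B) A⁻¹ (X * B)⁻¹
    rw [mul_inv_cancel] at e1
    rw [mul_inv_cancel, mul_inv_cancel] at e2
    rw [← e1, h, e2, phiL_one]
  obtain ⟨c, h5, h6⟩ := phiL_eq_one' h3
  have h7 : c = 1 := by
    apply Units.ext
    have := congrFun (congrFun (congrArg (fun g : GL (Fin 2) F => (g : M2 F)) h5) 0) 0
    simpa using this.symm
  rw [h7, map_one] at h6
  exact mul_inv_eq_one.1 h6

omit [Finite F] in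
/-- A matrix commuting with `X₁ = ρ J` and `X₂ = y₀ w` is scalar. -/
lemma scalar_of_comm (h2c : (2 : F) ≠ 0) {A y₀ : GL (Fin 2) F} {ρ : Fˣ} (hy₀ : y₀ ∈ T he)
    (h1 : A * (sc ρ * Ju he) = (sc ρ * Ju he) * A) (h2 : A * (y₀ * wu F) = (y₀ * wu F) * A) :
    ∃ c : Fˣ, A = sc c := by
  have h3 : A ∈ T he := by
    rw [T, Subgroup.mem_centralizer_singleton_iff]
    have h4 : sc ρ * (A * Ju he) = sc ρ * (Ju he * A) := by
      calc sc ρ * (A * Ju he) = A * (sc ρ * Ju he) := by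
            rw [← mul_assoc, sc_comm, mul_assoc]
        _ = _ := by rw [h1, mul_assoc]
    exact (mul_left_cancel h4)
  have h4 : A * wu F = wu F * A := by
    have h5 : y₀ * (A * wu F) = y₀ * (wu F * A) := by
      calc y₀ * (A * wu F) = A * (y₀ * wu F) := by
            rw [← mul_assoc, T_comm he hy₀ h3, mul_assoc]
        _ = _ := by rw [h2, mul_assoc]
    exact mul_left_cancel h5
  obtain ⟨g1, g2⟩ := (mem_T_iff he A).1 h3
  have h5 := congrFun (congrFun (congrArg (fun g : GL (Fin 2) F => (g : M2 F)) h4) 1) 0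
  simp [wu, wm, Matrix.mul_apply, Fin.sum_univ_two, Matrix.vecMul, dotProduct] at h5
  have h6 : (A : M2 F) 1 0 = 0 := by
    have : (2 : F) * (A : M2 F) 1 0 = 0 := by linear_combination h5
    exact (mul_eq_zero.1 this).resolve_left h2c
  have h7 : (A : M2 F) 0 1 = 0 := by rw [g2, h6, mul_zero]
  have h8 : (A : M2 F) 0 0 ≠ 0 := by
    intro h9
    have := det_unit_ne A
    rw [det_fin_two, h9, h7] at this
    simp at this
  refine ⟨Units.mk0 _ h8, Units.ext ?_⟩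
  ext i j
  fin_cases i <;> fin_cases j <;> simp [h6, h7, ← g1]

/-- An involution commuting with `M` is `τ`. -/
lemma M_inv (h2 : (2 : F) ≠ 0) {y₀ : GL (Fin 2) F} {ρ : Fˣ} (hy₀ : y₀ ∈ T2 he)
    (hdy : ((y₀ : GL (Fin 2) F) : M2 F).det = -1) (hρ : (ρ : F) * ρ = - ε) (hρk : ∃ k : ℕ, ρ ^ (2 ^ k) = 1)
    (z : AutO F) (hz1 : z ≠ 1) (hz : ∀ m ∈ M he, z * m = m * z) : z = tauA F := by
  obtain ⟨k, hk⟩ := hρk
  obtain ⟨p, hpE, hzp⟩ := cent_tau h2 z.1 z.2 (by
    exact congrArg Subtype.val (hz _ (tauA_mem_M he)))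
  have hX1R : sc ρ * Ju he ∈ R he :=
    (R he).mul_mem (T2_le_R he (sc_mem_T2 he ρ hk)) (T2_le_R he (Ju_mem_T2 he))
  have hdX1 : ((sc ρ * Ju he : GL (Fin 2) F) : M2 F).det = 1 := by
    rw [Units.val_mul, det_mul, det_Ju, sc_val]
    simp only [det_smul, det_one, Fintype.card_fin, mul_one]
    have hee : ε * ε = 1 := he
    linear_combination (- ε) * hρ + hee
  have hX2R : y₀ * wu F ∈ R he := wu_T2_mem he hy₀
  have hdX2 : ((y₀ * wu F : GL (Fin 2) F) : M2 F).det = 1 := by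
    rw [Units.val_mul, det_mul, hdy, det_wu]
    ring
  have hE {X : GL (Fin 2) F} (hX : X ∈ R he) (hd : ((X : GL (Fin 2) F) : M2 F).det = 1) :
      (X, (1 : GL (Fin 2) F)) ∈ E2 he :=
    (mem_E2 he).2 ⟨hX, (R he).one_mem, by simp [hd]⟩
  have hE' {X : GL (Fin 2) F} (hX : X ∈ R he) (hd : ((X : GL (Fin 2) F) : M2 F).det = 1) :
      ((1 : GL (Fin 2) F), X) ∈ E2 he :=
    (mem_E2 he).2 ⟨(R he).one_mem, hX, by simp [hd]⟩
  have hcL {X : GL (Fin 2) F} (hX : X ∈ R he) (hd : ((X : GL (Fin 2) F) : M2 F).det = 1) :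
      p.1 * X = X * p.1 := by
    have hm : (⟨phi (X, 1), phi_mem (E2_le_E he (hE hX hd))⟩ : AutO F) ∈ M he :=
      (mem_M he _).2 ⟨_, hE hX hd, rfl⟩
    have := congrArg Subtype.val (hz _ hm)
    simp only [Subgroup.coe_mul, hzp] at this
    exact comm_left this
  have hcR {X : GL (Fin 2) F} (hX : X ∈ R he) (hd : ((X : GL (Fin 2) F) : M2 F).det = 1) :
      p.2 * X = X * p.2 := by
    have hm : (⟨phi (1, X), phi_mem (E2_le_E he (hE' hX hd))⟩ : AutO F) ∈ M he :=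
      (mem_M he _).2 ⟨_, hE' hX hd, rfl⟩
    have := congrArg Subtype.val (hz _ hm)
    simp only [Subgroup.coe_mul, hzp] at this
    exact comm_right this
  obtain ⟨a, ha⟩ := scalar_of_comm he h2 hy₀.1 (hcL hX1R hdX1) (hcL hX2R hdX2)
  obtain ⟨b, hb⟩ := scalar_of_comm he h2 hy₀.1 (hcR hX1R hdX1) (hcR hX2R hdX2)
  have hdet : (p.1 : M2 F).det = (p.2 : M2 F).det := hpE
  rw [ha, hb] at hdet
  simp only [sc_val, det_smul, det_one, Fintype.card_fin, mul_one] at hdet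
  have hab : ((b : F) - a) * ((b : F) + a) = 0 := by linear_combination - hdet
  have hp : p = (sc a, sc a) * ((1 : GL (Fin 2) F), sc (b * a⁻¹)) := by
    apply Prod.ext
    · simpa using ha
    · change p.2 = sc a * sc (b * a⁻¹)
      rw [hb, ← map_mul]
      congr 1
      rw [mul_comm b, mul_inv_cancel_left]
  have hzp' : z.1 = phiL 1 (sc (b * a⁻¹)) := by
    rw [hzp]
    conv_lhs => rw [hp]
    rw [map_mul, phi_sc, one_mul]
    rfl
  rcases mul_eq_zero.1 hab with h3 | h3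
  · exfalso
    apply hz1
    apply Subtype.ext
    have h4 : b * a⁻¹ = 1 := by
      have : b = a := Units.ext (sub_eq_zero.1 h3)
      rw [this, mul_inv_cancel]
    rw [hzp', h4, map_one, phiL_one]
    rfl
  · apply Subtype.ext
    have h4 : sc (b * a⁻¹) = (-1 : GL (Fin 2) F) := by
      apply Units.ext
      have h5 : (b : F) = - a := by linear_combination h3
      have ha0 : (a : F) ≠ 0 := a.ne_zero
      have hval : ((b * a⁻¹ : Fˣ) : F) = -1 := by
        rw [Units.val_mul, h5, Units.val_inv_eq_inv_val]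
        field_simp
      rw [sc_val, hval, neg_one_smul]
      simp
    rw [hzp', h4]
    rfl


omit [Finite F] in
/-- The theorem on the double, for a given `ε`. -/
theorem main_of_eps [Fintype F] (he : ε * ε = 1) (h2 : (2 : F) ≠ 0)
    (hcase : (ε = 1 ∧ Fintype.card F % 4 = 1) ∨ (ε = -1 ∧ Fintype.card F % 4 = 3))
    {ρ : Fˣ} (hρ : (ρ : F) * ρ = - ε) (hρk : ∃ k : ℕ, ρ ^ (2 ^ k) = 1)
    [Finite (AutO F)] (P : Sylow 2 (AutO F)) (x : P) : x ^ 2 ∈ commutator P := by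
  have hc : ε = 1 ∨ ε = -1 := hcase.imp (fun h => h.1) (fun h => h.1)
  obtain ⟨s, hs, hds⟩ := exists_det he h2 ε hc
  obtain ⟨y₀, hy₀, hdy⟩ := exists_det he h2 (-1) (Or.inr rfl)
  exact sq_mem_of_data (M he) (tauA F) (tauA_mem_M he) (tauA_ne_one h2) (M_isPGroup he)
    (fun Q hQ hMQ hcQ => M_max he h2 hcase Q hQ hMQ hcQ)
    (fun z hz1 _ hz => M_inv he h2 hy₀ hdy hρ hρk z hz1 hz)
    (M_real he hs hds) P x

omit [Finite F] in
/-- The theorem on the double. -/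
theorem main_AutO [Fintype F] (hF : Odd (Fintype.card F)) [Finite (AutO F)] (P : Sylow 2 (AutO F)) (x : P) :
    x ^ 2 ∈ commutator P := by
  have h2 : (2 : F) ≠ 0 := by
    intro h
    have h3 : ringChar F = 2 := by
      have := ringChar.spec F 2
      have h4 := (CharP.cast_eq_zero_iff F (ringChar F) 2)
      have h5 : ringChar F ∣ 2 := h4.1 (by exact_mod_cast h)
      rcases (Nat.dvd_prime Nat.prime_two).1 h5 with h6 | h6
      · exfalso
        have := CharP.ringChar_ne_one (R := F)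
        exact this h6
      · exact h6
    have h4 := FiniteField.even_card_iff_char_two.1 h3
    have h5 := Nat.odd_iff.1 hF
    omega
  have h4 : Fintype.card F % 4 = 1 ∨ Fintype.card F % 4 = 3 := by
    have h5 := Nat.odd_iff.1 hF
    omega
  rcases h4 with h4 | h4
  · have hsq : IsSquare (-1 : F) := by
      rw [FiniteField.isSquare_neg_one_iff]
      omega
    obtain ⟨i, hi⟩ := hsq
    have hi0 : i ≠ 0 := by
      rintro rfl
      simp at hi
    refine main_of_eps (ε := (1 : F)) (by norm_num) h2 (Or.inl ⟨rfl, h4⟩) (ρ := Units.mk0 i hi0) ?_ ?_ P x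
    · simpa using hi.symm
    · refine ⟨2, Units.ext ?_⟩
      simp only [Units.val_pow_eq_pow_val, Units.val_mk0, Units.val_one]
      have : i ^ (2 ^ 2) = (i * i) * (i * i) := by ring
      rw [this, ← hi]
      ring
  · refine main_of_eps (ε := (-1 : F)) (by norm_num) h2 (Or.inr ⟨rfl, h4⟩) (ρ := 1) ?_ (⟨0, by simp⟩) P x
    simp

/-- The theorem for `G₂(F)`. -/
theorem main [Fintype F] (hF : Odd (Fintype.card F)) (P : Sylow 2 (Cfsg.Lie.G2 F)) (x : P) :
    x ^ 2 ∈ commutator P := by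
  classical
  haveI : Finite (Cfsg.Lie.G2 F) := inferInstance
  haveI : Finite (AutO F) := Finite.of_equiv _ (g2Equiv (F := F)).toEquiv
  let e := g2Equiv (F := F)
  have hs : Function.Surjective (e.toMonoidHom) := e.surjective
  let P' : Sylow 2 (AutO F) := P.mapSurjective hs
  have key : ∀ y : (P' : Subgroup (AutO F)), y ^ 2 ∈ commutator (P' : Subgroup (AutO F)) :=
    fun y => main_AutO hF P' y
  have hP' : (P' : Subgroup (AutO F)) = (P : Subgroup (Cfsg.Lie.G2 F)).map e.toMonoidHom :=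
    Sylow.coe_mapSurjective hs P
  let E1 : (P : Subgroup (Cfsg.Lie.G2 F)) ≃* (P' : Subgroup (AutO F)) :=
    (e.subgroupMap (P : Subgroup (Cfsg.Lie.G2 F))).trans (MulEquiv.subgroupCongr hP'.symm)
  exact Cfsg.Agent.Lib.SpWreath.DetW.sq_of_equiv E1.symm key x

end Cfsg.Agent.Lib.G2Oct.Main
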