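/-
Elements of the automorphism group of Zorn's algebra fixing a separable element of the algebra: their order
divides a torus exponent.
-/
import Cfsg.Agent.Lib.G2Oct.BaseCh
import Cfsg.Agent.Lib.G2Oct.Eigen

set_option autoImplicit false
set_option linter.all false

namespace Cfsg.Agent.Lib.G2Oct.S2

open Cfsg.Lie Matrix Module
open Cfsg.Agent.Lib.G2Oct.Aut8 Cfsg.Agent.Lib.G2Oct.Stab Cfsg.Agent.Lib.G2Oct.Count
  Cfsg.Agent.Lib.G2Oct.Invol Cfsg.Agent.Lib.G2Oct.BaseCh Cfsg.Agent.Lib.G2Oct.Eigen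
open scoped MatrixGroups

section ch

variable {K : Type*} [Field K]

/-- Cayley-Hamilton in dimension three. -/
lemma ch3 (A : Matrix (Fin 3) (Fin 3) K) :
    A ^ 3 - A.trace • A ^ 2 + (cof A).trace • A - A.det • 1 = 0 := by
  ext i j
  fin_cases i <;> fin_cases j <;>
    simp [pow_succ, Matrix.mul_apply, Fin.sum_univ_three, Matrix.trace, cof, Matrix.adjugate_fin_three,
      Matrix.det_fin_three, Matrix.sub_apply, Matrix.add_apply, Matrix.smul_apply, Matrix.one_apply] <;> ring

lemma sl_pow (A : SL(3, K)) (m : ℕ) (h : Pc A.1.trace (cof A.1).trace ∣ Polynomial.X ^ m - 1) : sl3Hom A ^ m = 1 := by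
  rw [← map_pow]
  have h1 : (A ^ m).1 = 1 := by
    rw [Matrix.SpecialLinearGroup.coe_pow]
    apply mat_pow A.1 _ _ _ m h
    have := ch3 A.1
    rwa [A.2, one_smul] at this
  have h2 : A ^ m = 1 := Subtype.ext h1
  rw [h2, map_one]

/-- The element `e` attached to a root. -/
noncomputable def eOf (x : V K) (r r' : K) : V K := (r - r')⁻¹ • (x - r' • one8)

lemma eOf_idem {x : V K} {r r' : K} (h1 : r + r' = tr8 x) (h2 : r * r' = nm8 x) (h3 : r ≠ r') :
    eOf x r r' ∈ Idem K := by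
  have h4 : r - r' ≠ 0 := sub_ne_zero.2 h3
  apply idem_of_char
  · simp only [eOf, tr8] at h1 ⊢
    simp only [one8, Pi.smul_apply, Pi.sub_apply, smul_eq_mul]
    simp
    field_simp
    linear_combination -h1
  · rw [eOf, nm8_smul]
    have : nm8 (x - r' • one8) = nm8 x - r' * tr8 x + r' ^ 2 := by
      simp [nm8, tr8, one8]
      ring
    rw [this, ← h1, ← h2]
    ring

lemma eOf_eq {x : V K} {r r' : K} (h3 : r ≠ r') : x = (r - r') • eOf x r r' + r' • one8 := by
  have h4 : r - r' ≠ 0 := sub_ne_zero.2 h3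
  rw [eOf, smul_smul, mul_inv_cancel₀ h4, one_smul]
  abel

/-- Conjugate to the stabiliser. -/
lemma conj_sl (t y : Aut8 K) (h : (y : V K ≃ₗ[K] V K) ((t : V K ≃ₗ[K] V K) (E 0)) = (t : V K ≃ₗ[K] V K) (E 0)) :
    ∃ A : SL(3, K), y = t * sl3Hom A * t⁻¹ := by
  have h1 : ((t⁻¹ * y * t : Aut8 K) : V K ≃ₗ[K] V K) (E 0) = E 0 := by
    change ((t⁻¹ : Aut8 K) : V K ≃ₗ[K] V K) ((y : V K ≃ₗ[K] V K) ((t : V K ≃ₗ[K] V K) (E 0))) = E 0
    rw [h]
    change ((t⁻¹ * t : Aut8 K) : V K ≃ₗ[K] V K) (E 0) = E 0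
    simp
  obtain ⟨A, hA⟩ := stab_range _ h1
  refine ⟨A, ?_⟩
  rw [← hA]
  group

end ch

section split

variable {F : Type*} [Field F] [Fintype F] {p : ℕ} [hp : Fact p.Prime] [CharP F p] {n : ℕ}

/-- The split case. -/
theorem s2_split (hF : Fintype.card F = p ^ n) (g : Aut8 F) (x : V F) (hx : (g : V F ≃ₗ[F] V F) x = x) (r r' : F)
    (h1 : r + r' = tr8 x) (h2 : r * r' = nm8 x) (h3 : r ≠ r') :
    g ^ ((p ^ n) ^ 2 + p ^ n + 1) = 1 ∨ g ^ ((p ^ n) ^ 2 - 1) = 1 ∨ g ^ (p * (p ^ n - 1)) = 1 ∨ (p = 2 ∧ g ^ 12 = 1) := by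
  have he := eOf_idem h1 h2 h3
  have hge : (g : V F ≃ₗ[F] V F) (eOf x r r') = eOf x r r' := by
    simp only [eOf, map_smul, map_sub, hx, aut_one]
  obtain ⟨t, ht⟩ := idem_trans he
  obtain ⟨A, hA⟩ := conj_sl t g (by rw [ht, hge])
  have hc : A.1.trace ^ p ^ n = A.1.trace := by rw [← hF, FiniteField.pow_card]
  have hd : (cof A.1).trace ^ p ^ n = (cof A.1).trace := by rw [← hF, FiniteField.pow_card]
  have hpow : ∀ m, sl3Hom A ^ m = 1 → g ^ m = 1 := by
    intro m hm
    rw [hA, conj_pow, hm]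
    simp
  rcases cubic_split A.1.trace (cof A.1).trace n hc hd with h | h | h | ⟨h0, h⟩
  · exact Or.inl (hpow _ (sl_pow A _ h))
  · exact Or.inr (Or.inl (hpow _ (sl_pow A _ h)))
  · exact Or.inr (Or.inr (Or.inl (hpow _ (sl_pow A _ h))))
  · exact Or.inr (Or.inr (Or.inr ⟨h0, hpow _ (sl_pow A _ h)⟩))

end split

section traces

variable {K : Type*} [Field K]

lemma trace_sl (A : SL(3, K)) :
    LinearMap.trace K (V K) ((sl3Hom A : V K ≃ₗ[K] V K) : V K →ₗ[K] V K) = 2 + A.1.trace + (cof A.1).trace := by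
  rw [BaseCh.trace_sum, Fin.sum_univ_eight]
  simp only [LinearEquiv.coe_coe, sl3Hom_apply]
  simp [sv, E_apply, Matrix.trace, Fin.sum_univ_three]
  ring

/-- The element `diag(r, r')`. -/
def dg (r r' : K) : V K := ![r, 0, 0, 0, 0, 0, 0, r']

lemma zorn_dg (r r' : K) (v : V K) :
    zornMul (dg r r') v = ![r * v 0, r * v 1, r * v 2, r * v 3, r' * v 4, r' * v 5, r' * v 6, r' * v 7] := by
  ext i
  fin_cases i <;> simp [zornMul, dg, dot3, cross3, zA, zB]

lemma trace_sl_mul (A : SL(3, K)) (r r' : K) :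
    LinearMap.trace K (V K) (((sl3Hom A : V K ≃ₗ[K] V K) : V K →ₗ[K] V K) ∘ₗ mulL (dg r r')) =
      r + r' + r * A.1.trace + r' * (cof A.1).trace := by
  rw [BaseCh.trace_sum, Fin.sum_univ_eight]
  simp only [LinearMap.comp_apply, LinearEquiv.coe_coe, sl3Hom_apply, mulL_apply, zorn_dg]
  simp [sv, E_apply, Matrix.trace, Fin.sum_univ_three]
  ring

lemma frob_step (φ : K →+* K) (r r' c d f1 f2 : K) (h3 : r ≠ r') (hr : φ r = r') (hr' : φ r' = r)
    (hf1 : φ f1 = f1) (hf2 : φ f2 = f2) (e2 : 2 + c + d = f2) (e1 : r + r' + r * c + r' * d = f1) :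
    φ c = d ∧ φ d = c := by
  have e2' := congrArg φ e2
  have e1' := congrArg φ e1
  simp only [map_add, map_mul, hr, hr', hf1, hf2, map_ofNat] at e1' e2'
  have h4 : (r - r') * (c - φ d) = 0 := by
    linear_combination e1 - e1' - r' * e2 + r' * e2'
  have h5 : c = φ d := sub_eq_zero.1 ((mul_eq_zero.1 h4).resolve_left (sub_ne_zero.2 h3))
  have h6 : φ c = d := by
    linear_combination e2' - e2 + h5
  exact ⟨h6, h5.symm⟩

end traces

section nonsplit

variable {F K : Type*} [Field F] [Fintype F] [Field K] [Fintype K] [Algebra F K] {p : ℕ}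
  [hp : Fact p.Prime] [CharP F p] {n : ℕ}

/-- The nonsplit case. -/
theorem s2_nonsplit (g : Aut8 F) (x : V F) (hx : (g : V F ≃ₗ[F] V F) x = x) (r r' : K)
    (h1 : r + r' = algebraMap F K (tr8 x)) (h2 : r * r' = algebraMap F K (nm8 x)) (h3 : r ≠ r')
    (hF : Fintype.card F = p ^ n) (hr : r ^ p ^ n = r') (hr' : r' ^ p ^ n = r) :
    g ^ ((p ^ n) ^ 2 - p ^ n + 1) = 1 ∨ g ^ ((p ^ n) ^ 2 - 1) = 1 ∨ g ^ (p * (p ^ n + 1)) = 1 ∨ (p = 2 ∧ g ^ 12 = 1) := by
  let ι : F →+* K := algebraMap F K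
  haveI : CharP K p := charP_of_injective_algebraMap ι.injective p
  haveI : ExpChar K p := ExpChar.prime hp.out
  set x' : V K := mv ι x with hx'
  have htr : tr8 x' = ι (tr8 x) := tr8_mv ι x
  have hnm : nm8 x' = ι (nm8 x) := nm8_mv ι x
  have he := eOf_idem (x := x') (r := r) (r' := r') (h1.trans htr.symm) (h2.trans hnm.symm) h3
  set y : Aut8 K := bc ι g with hy
  have hyx : (y : V K ≃ₗ[K] V K) x' = x' := by
    rw [hy, hx', bc_mv, hx]
  have hge : (y : V K ≃ₗ[K] V K) (eOf x' r r') = eOf x' r r' := by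
    simp only [eOf, map_smul, map_sub, hyx, aut_one]
  obtain ⟨t, ht⟩ := idem_trans he
  obtain ⟨A, hA⟩ := conj_sl t y (by rw [ht, hge])
  have hpow : ∀ m, sl3Hom A ^ m = 1 → g ^ m = 1 := by
    intro m hm
    apply bc_inj ι
    rw [map_pow, map_one, ← hy, hA, conj_pow, hm]
    simp
  set c := A.1.trace with hc
  set d := (cof A.1).trace with hd
  let φ : K →+* K := iterateFrobenius K p n
  have hφ : ∀ a, φ a = a ^ p ^ n := fun a => iterateFrobenius_def p n a
  have hφι : ∀ a : F, φ (ι a) = ι a := by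
    intro a
    rw [hφ, ← map_pow, ← hF, FiniteField.pow_card]
  -- traces
  have hconj : ((y : V K ≃ₗ[K] V K) : V K →ₗ[K] V K) =
      (t : V K ≃ₗ[K] V K).conj ((sl3Hom A : V K ≃ₗ[K] V K) : V K →ₗ[K] V K) := by
    rw [hA]
    rfl
  have e2 : 2 + c + d = ι (LinearMap.trace F (V F) ((g : V F ≃ₗ[F] V F) : V F →ₗ[F] V F)) := by
    rw [← bcM_trace, ← bc_toLin, ← hy, hconj, LinearMap.trace_conj', trace_sl]
  set u₀ : V K := dg r r' with hu₀
  have hu : ((t⁻¹ : Aut8 K) : V K ≃ₗ[K] V K) x' = u₀ := by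
    rw [eOf_eq (x := x') (r := r) (r' := r') h3, map_add, map_smul, map_smul, aut_one, ← ht]
    have : ((t⁻¹ : Aut8 K) : V K ≃ₗ[K] V K) ((t : V K ≃ₗ[K] V K) (E 0)) = E 0 := by
      change ((t⁻¹ * t : Aut8 K) : V K ≃ₗ[K] V K) (E 0) = E 0
      simp
    rw [this]
    ext i
    fin_cases i <;> simp [dg, hu₀, E_apply, one8]
  have hconj2 : ((y : V K ≃ₗ[K] V K) : V K →ₗ[K] V K) ∘ₗ mulL x' =
      (t : V K ≃ₗ[K] V K).conj (((sl3Hom A : V K ≃ₗ[K] V K) : V K →ₗ[K] V K) ∘ₗ mulL u₀) := by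
    apply LinearMap.ext
    intro v
    rw [hA, ← hu]
    change (t : V K ≃ₗ[K] V K) ((sl3Hom A : V K ≃ₗ[K] V K) (((t⁻¹ : Aut8 K) : V K ≃ₗ[K] V K) (zornMul x' v))) =
      (t : V K ≃ₗ[K] V K) ((sl3Hom A : V K ≃ₗ[K] V K)
        (zornMul (((t⁻¹ : Aut8 K) : V K ≃ₗ[K] V K) x') (((t⁻¹ : Aut8 K) : V K ≃ₗ[K] V K) v)))
    rw [Aut8_mul]
  have e1 : r + r' + r * c + r' * d = ι (LinearMap.trace F (V F)
      (((g : V F ≃ₗ[F] V F) : V F →ₗ[F] V F) ∘ₗ mulL x)) := by
    rw [← bcM_trace, bcM_comp, bcM_mulL, ← hx', ← bc_toLin, ← hy, hconj2, LinearMap.trace_conj', hu₀, trace_sl_mul]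
  obtain ⟨h4, h5⟩ := frob_step φ r r' c d _ _ h3 (by rw [hφ, hr]) (by rw [hφ, hr']) (hφι _) (hφι _) e2 e1
  rw [hφ] at h4 h5
  rcases cubic_nonsplit c d n h4 h5 with h | h | h | ⟨h0, h⟩
  · exact Or.inl (hpow _ (sl_pow A _ h))
  · exact Or.inr (Or.inl (hpow _ (sl_pow A _ h)))
  · exact Or.inr (Or.inr (Or.inl (hpow _ (sl_pow A _ h))))
  · exact Or.inr (Or.inr (Or.inr ⟨h0, hpow _ (sl_pow A _ h)⟩))

end nonsplit

section main

open Polynomial

theorem fix_mem {F L : Type*} [Field F] [Fintype F] [Field L] [Algebra F L] {x : L} (hx : x ^ Fintype.card F = x) :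
    ∃ a : F, algebraMap F L a = x := by
  classical
  by_contra hno
  push Not at hno
  have hc : 1 < Fintype.card F := Fintype.one_lt_card
  have hP0 : (Polynomial.X ^ Fintype.card F - Polynomial.X : L[X]) ≠ 0 := FiniteField.X_pow_card_sub_X_ne_zero L hc
  have hdeg := FiniteField.X_pow_card_sub_X_natDegree_eq L hc
  let S : Finset L := insert x (Finset.univ.image (algebraMap F L))
  have hS : S.card = Fintype.card F + 1 := by
    rw [Finset.card_insert_of_notMem, Finset.card_image_of_injective _ (algebraMap F L).injective,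
      Finset.card_univ]
    intro h
    obtain ⟨a, _, ha⟩ := Finset.mem_image.1 h
    exact hno a ha
  have hsub : S ⊆ (Polynomial.X ^ Fintype.card F - Polynomial.X : L[X]).roots.toFinset := by
    intro y hy
    rw [Multiset.mem_toFinset, mem_roots hP0, IsRoot.def]
    simp only [eval_sub, eval_pow, eval_X]
    rcases Finset.mem_insert.1 hy with rfl | hy
    · rw [hx, sub_self]
    · obtain ⟨a, _, rfl⟩ := Finset.mem_image.1 hy
      rw [← map_pow, FiniteField.pow_card, sub_self]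
  have h1 := Finset.card_le_card hsub
  have h2 := Multiset.toFinset_card_le (Polynomial.X ^ Fintype.card F - Polynomial.X : L[X]).roots
  have h3 := card_roots' (Polynomial.X ^ Fintype.card F - Polynomial.X : L[X])
  rw [hdeg] at h3
  omega

variable {F : Type*} [Field F] [Fintype F] {p : ℕ} [hp : Fact p.Prime] [CharP F p] {n : ℕ}

/-- Elements fixing a separable element. -/
theorem s2_bound (hF : Fintype.card F = p ^ n) (g : Aut8 F) (x : V F) (hx : (g : V F ≃ₗ[F] V F) x = x)
    (hd : (tr8 x) ^ 2 - 4 * nm8 x ≠ 0) :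
    g ^ ((p ^ n) ^ 2 + p ^ n + 1) = 1 ∨ g ^ ((p ^ n) ^ 2 - p ^ n + 1) = 1 ∨ g ^ ((p ^ n) ^ 2 - 1) = 1 ∨
      g ^ (p * (p ^ n - 1)) = 1 ∨ g ^ (p * (p ^ n + 1)) = 1 ∨ (p = 2 ∧ g ^ 12 = 1) := by
  classical
  set t := tr8 x with ht
  set m := nm8 x with hm
  by_cases h : ∃ r : F, r ^ 2 - t * r + m = 0
  · obtain ⟨r, hr⟩ := h
    have h3 : r ≠ t - r := by
      intro h4
      apply hd
      have h5 : t = 2 * r := by linear_combination -h4
      rw [h5] at hr ⊢
      linear_combination -4 * hr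
    rcases s2_split hF g x hx r (t - r) (by ring) (by linear_combination -hr) h3 with h | h | h | h
    · exact Or.inl h
    · exact Or.inr (Or.inr (Or.inl h))
    · exact Or.inr (Or.inr (Or.inr (Or.inl h)))
    · exact Or.inr (Or.inr (Or.inr (Or.inr (Or.inr h))))
  · push Not at h
    let f : F[X] := X ^ 2 - C t * X + C m
    have hfm : f.Monic := by
      simp only [f]
      monicity!
    have hfd : f.natDegree = 2 := by
      simp only [f]
      compute_degree!
    have hfr : f.roots = 0 := by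
      rw [Multiset.eq_zero_iff_forall_notMem]
      intro a ha
      have := (mem_roots hfm.ne_zero).1 ha
      simp only [f, IsRoot.def, eval_add, eval_sub, eval_pow, eval_X, eval_mul, eval_C] at this
      exact h a this
    have hirr : Irreducible f := by
      rw [hfm.irreducible_iff_roots_eq_zero_of_degree_le_three (by omega) (by omega)]
      exact hfr
    haveI : Fact (Irreducible f) := ⟨hirr⟩
    let K := AdjoinRoot f
    haveI : Module.Finite F K := (AdjoinRoot.powerBasis hfm.ne_zero).finite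
    haveI : Finite K := Module.finite_of_finite F
    letI : Fintype K := Fintype.ofFinite K
    let ι : F →+* K := algebraMap F K
    haveI : CharP K p := charP_of_injective_algebraMap ι.injective p
    haveI : ExpChar K p := ExpChar.prime hp.out
    let r : K := AdjoinRoot.root f
    have hr0 : r ^ 2 - ι t * r + ι m = 0 := by
      have h4 : aeval r f = 0 := (AdjoinRoot.aeval_eq f).trans (by simp [AdjoinRoot.mk_self])
      simpa [f, ι] using h4
    set r' : K := ι t - r with hr'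
    have h3 : r ≠ r' := by
      intro h4
      apply hd
      apply ι.injective
      simp only [map_sub, map_mul, map_pow, map_zero, map_ofNat]
      have h5 : ι t = 2 * r := by
        rw [hr'] at h4
        linear_combination -h4
      rw [h5] at hr0 ⊢
      linear_combination -4 * hr0
    let φ : K →+* K := iterateFrobenius K p n
    have hφ : ∀ a, φ a = a ^ p ^ n := fun a => iterateFrobenius_def p n a
    have hφι : ∀ a : F, φ (ι a) = ι a := by
      intro a
      rw [hφ, ← map_pow, ← hF, FiniteField.pow_card]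
    have hw : (φ r - r) * (φ r - r') = 0 := by
      have h4 := congrArg φ hr0
      simp only [map_add, map_sub, map_mul, map_pow, hφι, map_zero] at h4
      rw [hr']
      linear_combination h4 - hr0
    have hw' : φ r = r' := by
      rcases mul_eq_zero.1 hw with h4 | h4
      · exfalso
        have h5 : r ^ Fintype.card F = r := by
          rw [hF, ← hφ]
          exact sub_eq_zero.1 h4
        obtain ⟨a, ha⟩ := fix_mem h5
        have h6 : ι (a ^ 2 - t * a + m) = 0 := by
          simp only [map_add, map_sub, map_mul, map_pow]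
          change ι a ^ 2 - ι t * ι a + ι m = 0
          rw [show ι a = r from ha]
          exact hr0
        exact h a (ι.injective (h6.trans (map_zero ι).symm))
      · exact sub_eq_zero.1 h4
    have hw'' : φ r' = r := by
      rw [hr', map_sub, hφι, hw', hr']
      ring
    rw [hφ] at hw' hw''
    rcases s2_nonsplit g x hx r r' (by rw [hr']; ring) (by
        change r * r' = ι m
        rw [hr']
        linear_combination -hr0) h3 hF hw' hw'' with h | h | h | h
    · exact Or.inr (Or.inl h)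
    · exact Or.inr (Or.inr (Or.inl h))
    · exact Or.inr (Or.inr (Or.inr (Or.inr (Or.inl h))))
    · exact Or.inr (Or.inr (Or.inr (Or.inr (Or.inr h))))

end main

end Cfsg.Agent.Lib.G2Oct.S2
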