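/-
Automorphisms of the double of `M₂(F)` preserving `M₂(F) × 0`, and the exponents of the elements `phiL A B`.
-/
import Cfsg.Agent.Lib.G2Oct.S2
import Cfsg.Agent.Lib.G2Oct.Main

set_option autoImplicit false
set_option linter.all false

namespace Cfsg.Agent.Lib.G2Oct.S3

open Cfsg.Lie Matrix Module Polynomial
open Cfsg.Agent.Lib.G2Oct.Oct Cfsg.Agent.Lib.G2Oct.Phi Cfsg.Agent.Lib.G2Oct.Cent Cfsg.Agent.Lib.G2Oct.Main
open scoped MatrixGroups

variable {F : Type*} [Field F]

/-- Automorphisms preserving the first summand. -/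
theorem preserves_M2 (g : Oct F ≃ₗ[F] Oct F) (hg : g ∈ AutO F) (h_a : ∀ x : M2 F, (g (x, 0)).2 = 0) :
    ∃ p ∈ E F, g = phi p := by
  -- the induced map on `M₂`
  let s : M2 F →ₗ[F] M2 F :=
    (LinearMap.fst F (M2 F) (M2 F)).comp (g.toLinearMap.comp (LinearMap.inl F (M2 F) (M2 F)))
  have hs : ∀ x, g (x, 0) = (s x, 0) := by
    intro x
    apply Prod.ext
    · rfl
    · exact h_a x
  have hmul : ∀ x y, s (x * y) = s x * s y := by
    intro x y
    have h3 := hg (x, 0) (y, 0)
    have h4 : cdMul ((x, 0) : Oct F) (y, 0) = (x * y, 0) := by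
      apply Prod.ext <;> simp
    rw [h4, hs, hs, hs] at h3
    have h5 := congrArg Prod.fst h3
    simpa using h5
  have hinj : Function.Injective s := by
    intro x y hxy
    have : g (x, 0) = g (y, 0) := by rw [hs, hs, hxy]
    exact congrArg Prod.fst (g.injective this)
  obtain ⟨A, hA⟩ := skolem_M2 s hmul hinj
  -- normalise
  set g' : Oct F ≃ₗ[F] Oct F := phiL A⁻¹ A⁻¹ * g with hg'
  have hg'mem : g' ∈ AutO F := (AutO F).mul_mem (phiL_mem _ _ rfl) hg
  have hfix : ∀ x : M2 F, g' (x, 0) = (x, 0) := by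
    intro x
    simp only [hg', LinearEquiv.mul_apply, hs, hA, phiL_apply]
    apply Prod.ext
    · simp [mul_assoc]
    · simp
  have h1 : ∀ V x : M2 F, g' (0, V * x) = cdMul ((x, 0) : Oct F) (g' (0, V)) := by
    intro V x
    have h3 := hg'mem ((x, 0) : Oct F) (0, V)
    have h4 : cdMul ((x, 0) : Oct F) (0, V) = (0, V * x) := by
      apply Prod.ext <;> simp
    rw [h4, hfix] at h3
    exact h3
  have h2 : ∀ V x : M2 F, g' (0, V * adjugate x) = cdMul (g' (0, V)) ((x, 0) : Oct F) := by
    intro V x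
    have h3 := hg'mem ((0, V) : Oct F) (x, 0)
    have h4 : cdMul ((0, V) : Oct F) (x, 0) = (0, V * adjugate x) := by
      apply Prod.ext <;> simp
    rw [h4, hfix] at h3
    exact h3
  have h_b : ∀ Y : M2 F, (g' (0, Y)).1 = 0 := by
    intro Y
    set a := (g' (0, Y)).1 with ha
    have key : ∀ x : M2 F, adjugate x * a = a * x := by
      intro x
      have e1 := congrArg Prod.fst (h1 Y (adjugate x))
      have e2 := congrArg Prod.fst (h2 Y x)
      simp only [cdMul_fst] at e1 e2
      rw [e1] at e2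
      simpa using e2
    have k1 := key !![1, 0; 0, 0]
    have k2 := key !![0, 1; 0, 0]
    have k3 := key !![0, 0; 1, 0]
    simp only [Matrix.adjugate_fin_two, Matrix.of_apply] at k1 k2 k3
    have e00 := congrFun (congrFun k1 0) 0
    have e11 := congrFun (congrFun k1 1) 1
    have e10 := congrFun (congrFun k2 0) 0
    have e01 := congrFun (congrFun k3 1) 1
    simp [Matrix.mul_apply, Fin.sum_univ_two] at e00 e11 e10 e01
    ext i j
    fin_cases i <;> fin_cases j <;> simp_all
  have hrho : ∀ V x : M2 F, (g' (0, V * x)).2 = (g' (0, V)).2 * x := by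
    intro V x
    have h5 := congrArg Prod.snd (h1 V x)
    simpa [h_b] using h5
  set c : M2 F := (g' (0, 1)).2 with hc'
  have hY : ∀ Y : M2 F, g' (0, Y) = (0, c * Y) := by
    intro Y
    apply Prod.ext
    · exact h_b Y
    · have := hrho 1 Y
      rw [one_mul] at this
      exact this
  have hdetc : c.det = 1 := by
    have h3 := hg'mem ((0, 1) : Oct F) (0, 1)
    have h4 : cdMul ((0, 1) : Oct F) (0, 1) = (-1, 0) := by
      apply Prod.ext <;> simp
    rw [h4, hY] at h3
    rw [hfix] at h3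
    have h6 := congrArg Prod.fst h3
    simp [adjugate_mul] at h6
    have h7 := congrFun (congrFun h6 0) 0
    simp at h7
    exact h7.symm
  have hdetc' : c.det ≠ 0 := by rw [hdetc]; exact one_ne_zero
  set C := Matrix.GeneralLinearGroup.mkOfDetNeZero c hdetc' with hC
  have hCc : (C : M2 F) = c := rfl
  have hg'eq : g' = phiL 1 C := by
    apply LinearEquiv.ext
    intro q
    have h3 : q = (q.1, 0) + (0, q.2) := by simp
    rw [h3, map_add, map_add, hfix, hY]
    simp [hCc]
  refine ⟨(A, A * C), ?_, ?_⟩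
  · change ((A : M2 F)).det = (((A * C : GL (Fin 2) F)) : M2 F).det
    simp [hCc, hdetc]
  · have : g = phiL A A * g' := by
      rw [hg', ← mul_assoc, phiL_mul]
      simp [phiL_one]
    rw [this, hg'eq, phiL_mul]
    simp

lemma phiL_pow (A B : GL (Fin 2) F) (k : ℕ) : phiL A B ^ k = phiL (A ^ k) (B ^ k) := by
  have := map_pow (phi (F := F)) (A, B) k
  simpa using this.symm

lemma phiL_scalar (A B : GL (Fin 2) F) (c : F) (hA : (A : M2 F) = c • 1) (hB : (B : M2 F) = c • 1) : phiL A B = 1 := by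
  have hc : c ≠ 0 := by
    rintro rfl
    have := det_unit_ne A
    rw [hA] at this
    simp at this
  have h1 : A = sc (Units.mk0 c hc) := Units.ext (by simpa using hA)
  have h2 : B = sc (Units.mk0 c hc) := Units.ext (by simpa using hB)
  rw [h1, h2]
  exact phi_sc _

section two

lemma ch2 (M : M2 F) : M ^ 2 - M.trace • M + M.det • 1 = 0 := by
  ext i j
  fin_cases i <;> fin_cases j <;>
    simp [pow_succ, Matrix.mul_apply, Fin.sum_univ_two, Matrix.trace, Matrix.det_fin_two,
      Matrix.sub_apply, Matrix.add_apply, Matrix.smul_apply, Matrix.one_apply] <;> ring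

/-- The quadratic. -/
noncomputable def Pq (t d : F) : F[X] := X ^ 2 - C t * X + C d

lemma Pq_natDegree (t d : F) : (Pq t d).natDegree = 2 := by
  unfold Pq
  compute_degree!

lemma Pq_monic (t d : F) : (Pq t d).Monic := by
  unfold Pq
  monicity!

lemma aeval_Pq (M : M2 F) : aeval M (Pq M.trace M.det) = 0 := by
  have h := ch2 M
  simp only [Pq, map_sub, map_add, map_mul, map_pow, aeval_X, aeval_C]
  simpa [Algebra.smul_def] using h

lemma coeffs2 {E : Type*} [Field E] {A B c d : E}
    (h : (X ^ 2 - C c * X + C d : E[X]) = X ^ 2 - C A * X + C B) : A = c ∧ B = d := by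
  have h1 := congrArg (fun f => coeff f 1) h
  have h0 := congrArg (fun f => coeff f 0) h
  simp [coeff_X_pow, coeff_X] at h1 h0
  exact ⟨h1.symm, h0.symm⟩

lemma exists_roots2 {E : Type*} [Field E] [Algebra F E] [IsAlgClosed E] (t d : F) :
    ∃ x y : E, (Pq t d).map (algebraMap F E) = (X - C x) * (X - C y) ∧
      x + y = algebraMap F E t ∧ x * y = algebraMap F E d := by
  set f := (Pq t d).map (algebraMap F E) with hf
  have hs : f.Splits := IsAlgClosed.splits f
  have hm : f.Monic := (Pq_monic t d).map _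
  have h1 := hs.eq_prod_roots_of_monic hm
  have hdeg : f.natDegree = 2 := by
    rw [hf, natDegree_map, Pq_natDegree]
  have hcard : f.roots.card = 2 := by
    rw [← hs.natDegree_eq_card_roots, hdeg]
  obtain ⟨x, y, hr⟩ := Multiset.card_eq_two.1 hcard
  have h2 : f = (X - C x) * (X - C y) := by
    rw [h1, hr]
    simp
  refine ⟨x, y, h2, ?_⟩
  have h3 : f = X ^ 2 - C (algebraMap F E t) * X + C (algebraMap F E d) := by
    simp [hf, Pq, Polynomial.map_sub, Polynomial.map_add, Polynomial.map_mul]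
  rw [h2] at h3
  have h4 : (X - C x) * (X - C y) = (X ^ 2 - C (x + y) * X + C (x * y) : E[X]) := by
    simp only [map_add, map_mul]
    ring
  rw [h4] at h3
  exact coeffs2 h3.symm

variable [Fintype F] {p : ℕ} [hp : Fact p.Prime] [CharP F p] {n : ℕ}

/-- The three kinds of two by two matrices. -/
theorem m2_class (hF : Fintype.card F = p ^ n) (M : M2 F) (hdet : M.det ≠ 0) :
    M ^ (p ^ n - 1) = 1 ∨ M ^ (p ^ n + 1) = M.det • 1 ∨
      ∃ a : F, a ≠ 0 ∧ (M - a • 1) ^ 2 = 0 ∧ M.det = a ^ 2 := by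
  let E := AlgebraicClosure F
  haveI : CharP E p := charP_of_injective_algebraMap (algebraMap F E).injective p
  haveI : ExpChar E p := ExpChar.prime hp.out
  set q := p ^ n with hq
  have hq1 : 1 ≤ q := Nat.one_le_pow _ _ hp.out.pos
  let ι : F →+* E := algebraMap F E
  let φ : E →+* E := iterateFrobenius E p n
  have hφ : ∀ x, φ x = x ^ q := fun x => iterateFrobenius_def p n x
  have hφι : ∀ a : F, φ (ι a) = ι a := by
    intro a
    rw [hφ, ← map_pow, ← hF, FiniteField.pow_card]
  obtain ⟨x, y, h1, h2, h3⟩ := exists_roots2 (E := E) M.trace M.det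
  change x + y = ι M.trace at h2
  change x * y = ι M.det at h3
  have hd0 : ι M.det ≠ 0 := (map_ne_zero ι).2 hdet
  have hx0 : x ≠ 0 := by
    rintro rfl
    rw [zero_mul] at h3
    exact hd0 h3.symm
  have hy0 : y ≠ 0 := by
    rintro rfl
    rw [mul_zero] at h3
    exact hd0 h3.symm
  have hroot : ∀ w : E, (w - x) * (w - y) = 0 → (φ w - x) * (φ w - y) = 0 := by
    intro w hw
    have h4 := congrArg φ hw
    have h5 : (w - x) * (w - y) = w ^ 2 - ι M.trace * w + ι M.det := by
      rw [← h2, ← h3]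
      ring
    rw [h5] at h4
    simp only [map_add, map_sub, map_mul, map_pow, hφι, map_zero] at h4
    rw [← h4, ← h2, ← h3]
    ring
  have hxr := hroot x (by simp)
  have hyr := hroot y (by simp)
  have hdesc : ∀ f : F[X], (X - C x) * (X - C y) ∣ f.map ι → aeval M f = 0 := by
    intro f hf
    rw [← h1] at hf
    have h4 := (map_dvd_map ι ι.injective (Pq_monic _ _)).1 hf
    obtain ⟨Q, rfl⟩ := h4
    rw [map_mul, aeval_Pq, zero_mul]
  by_cases hxy : x = y
  · -- the double root
    subst hxy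
    have hfx : φ x = x := by
      have : (φ x - x) ^ 2 = 0 := by
        rw [pow_two]
        exact hxr
      exact sub_eq_zero.1 (pow_eq_zero_iff (by norm_num) |>.1 this)
    have hfx' : x ^ Fintype.card F = x := by
      rw [hF, ← hφ]
      exact hfx
    obtain ⟨a, ha⟩ := S2.fix_mem hfx'
    change ι a = x at ha
    refine Or.inr (Or.inr ⟨a, ?_, ?_, ?_⟩)
    · rintro rfl
      rw [map_zero] at ha
      exact hx0 ha.symm
    · have ht : M.trace = 2 * a := by
        apply ι.injective
        rw [← h2, map_mul, map_ofNat, ha]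
        ring
      have hd : M.det = a ^ 2 := by
        apply ι.injective
        rw [← h3, map_pow, ha]
        ring
      have h4 := ch2 M
      rw [ht, hd] at h4
      rw [← h4, pow_two (M - a • 1), sub_mul, mul_sub, mul_sub]
      simp only [Matrix.smul_mul, Matrix.mul_smul, Matrix.one_mul, Matrix.mul_one, pow_two, smul_smul, two_mul, add_smul,
        one_smul]
      abel
    · apply ι.injective
      rw [← h3, map_pow, ha]
      ring
  · rcases mul_eq_zero.1 hxr with h4 | h4
    · -- both fixed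
      have hfx : φ x = x := sub_eq_zero.1 h4
      have hfy : φ y = y := by
        rcases mul_eq_zero.1 hyr with h5 | h5
        · exact absurd (φ.injective (hfx.trans (sub_eq_zero.1 h5).symm)) hxy
        · exact sub_eq_zero.1 h5
      left
      have e1 : x ^ (q - 1) = 1 := by
        have : x ^ (q - 1) * x = x ^ q := pow_sub_one_mul (by omega) x
        rw [← hφ, hfx] at this
        exact mul_right_cancel₀ hx0 (this.trans (one_mul x).symm)
      have e2 : y ^ (q - 1) = 1 := by
        have : y ^ (q - 1) * y = y ^ q := pow_sub_one_mul (by omega) y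
        rw [← hφ, hfy] at this
        exact mul_right_cancel₀ hy0 (this.trans (one_mul y).symm)
      have h5 := hdesc (X ^ (q - 1) - 1) (by
        simpa [Polynomial.map_sub] using Eigen.dvd_two hxy (Eigen.isRoot_pow_sub_one e1) (Eigen.isRoot_pow_sub_one e2))
      simpa [sub_eq_zero] using h5
    · -- swapped
      have hfx : φ x = y := sub_eq_zero.1 h4
      have hfy : φ y = x := by
        rcases mul_eq_zero.1 hyr with h5 | h5
        · exact sub_eq_zero.1 h5
        · exact absurd (φ.injective (hfx.trans (sub_eq_zero.1 h5).symm)) hxy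
      right; left
      have e1 : x ^ (q + 1) = ι M.det := by
        rw [pow_succ, ← hφ, hfx, ← h3]
        ring
      have e2 : y ^ (q + 1) = ι M.det := by
        rw [pow_succ, ← hφ, hfy, ← h3]
      have h5 := hdesc (X ^ (q + 1) - C M.det) (by
        have h6 : ((X : F[X]) ^ (q + 1) - C M.det).map ι = X ^ (q + 1) - C (ι M.det) := by
          simp [Polynomial.map_sub]
        rw [h6]
        apply Eigen.dvd_two hxy <;> simp [IsRoot, e1, e2])
      have h6 : aeval M ((X : F[X]) ^ (q + 1) - C M.det) = M ^ (q + 1) - M.det • 1 := by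
        simp [Algebra.smul_def]
      rw [h6] at h5
      exact sub_eq_zero.1 h5

lemma pow_of_nil (M : M2 F) (a : F) (h : (M - a • 1) ^ 2 = 0) : M ^ p = a ^ p • 1 := by
  haveI : CharP (M2 F) p := Matrix.charP p
  have h1 : (M - a • 1) ^ p = M ^ p - (a • 1) ^ p :=
    sub_pow_char_of_commute (R := M2 F) p (by
      simp [Commute, SemiconjBy, Matrix.mul_smul, Matrix.smul_mul])
  have h2 : (M - a • 1) ^ p = 0 := by
    obtain ⟨k, hk⟩ : ∃ k, p = 2 + k := ⟨p - 2, by have := hp.out.two_le; omega⟩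
    rw [hk, pow_add, h, zero_mul]
  rw [h2] at h1
  have h3 : ((a • 1 : M2 F)) ^ p = a ^ p • 1 := by
    rw [_root_.smul_pow, one_pow]
  rw [h3] at h1
  exact (sub_eq_zero.1 h1.symm)

/-- The bound when one of the matrices is a scalar times a unipotent one. -/
lemma third_bound (hF : Fintype.card F = p ^ n) (M M' : M2 F) (a : F) (ha : a ≠ 0) (hM : (M - a • 1) ^ 2 = 0)
    (hdet : M'.det = a ^ 2) :
    ∃ N, (N = p * (p ^ n - 1) ∨ N = p * (p ^ n + 1)) ∧ M ^ N = a ^ N • 1 ∧ M' ^ N = a ^ N • 1 := by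
  have hMp : ∀ k, M ^ (p * k) = a ^ (p * k) • 1 := by
    intro k
    rw [pow_mul, pow_of_nil M a hM, _root_.smul_pow, one_pow, pow_mul]
  set M'' : M2 F := a⁻¹ • M' with hM''
  have hMM : M' = a • M'' := by
    rw [hM'', smul_smul, mul_inv_cancel₀ ha, one_smul]
  have hdet'' : M''.det = 1 := by
    rw [hM'', Matrix.det_smul, hdet]
    simp
    field_simp
  have hM'p : ∀ N, M'' ^ N = 1 → M' ^ N = a ^ N • 1 := by
    intro N hN
    rw [hMM, _root_.smul_pow, hN]
  rcases m2_class hF M'' (by rw [hdet'']; exact one_ne_zero) with h | h | ⟨b, hb, h1, h2⟩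
  · refine ⟨_, Or.inl rfl, hMp _, hM'p _ ?_⟩
    rw [mul_comm, pow_mul, h, one_pow]
  · refine ⟨_, Or.inr rfl, hMp _, hM'p _ ?_⟩
    rw [hdet'', one_smul] at h
    rw [mul_comm, pow_mul, h, one_pow]
  · refine ⟨_, Or.inl rfl, hMp _, hM'p _ ?_⟩
    rw [pow_mul, pow_of_nil M'' b h1, _root_.smul_pow, one_pow]
    have h3 : b ^ (p ^ n - 1) = 1 := by
      rw [← hF]
      exact FiniteField.pow_card_sub_one_eq_one b hb
    rw [← pow_mul, mul_comm, pow_mul, h3, one_pow, one_smul]

/-- The exponents of the elements of the centraliser of `τ`. -/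
theorem phi_bound (hF : Fintype.card F = p ^ n) (A B : GL (Fin 2) F) (hdet : (A : M2 F).det = (B : M2 F).det) :
    phiL A B ^ ((p ^ n) ^ 2 - 1) = 1 ∨ phiL A B ^ (p * (p ^ n - 1)) = 1 ∨ phiL A B ^ (p * (p ^ n + 1)) = 1 := by
  have hconc : ∀ (N : ℕ) (c : F), (A : M2 F) ^ N = c • 1 → (B : M2 F) ^ N = c • 1 → phiL A B ^ N = 1 := by
    intro N c h1 h2
    rw [phiL_pow]
    apply phiL_scalar _ _ c
    · simpa using h1
    · simpa using h2
  have hq1 : 1 ≤ p ^ n := Nat.one_le_pow _ _ hp.out.pos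
  have hfac : (p ^ n) ^ 2 - 1 = (p ^ n - 1) * (p ^ n + 1) := by
    obtain ⟨t, ht⟩ : ∃ t, p ^ n = t + 1 := ⟨p ^ n - 1, by omega⟩
    rw [ht]
    simp only [Nat.add_sub_cancel]
    have : (t + 1) ^ 2 = t * (t + 1 + 1) + 1 := by ring
    omega
  have hsemi : ∀ M : M2 F, M.det ≠ 0 → (M ^ (p ^ n - 1) = 1 ∨ M ^ (p ^ n + 1) = M.det • 1) → M ^ ((p ^ n) ^ 2 - 1) = 1 := by
    intro M hM h
    rw [hfac]
    rcases h with h | h
    · rw [pow_mul, h, one_pow]
    · rw [mul_comm, pow_mul, h, _root_.smul_pow, one_pow]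
      have h3 : M.det ^ (p ^ n - 1) = 1 := by
        rw [← hF]
        exact FiniteField.pow_card_sub_one_eq_one _ hM
      rw [h3, one_smul]
  have hA0 := det_unit_ne A
  have hB0 := det_unit_ne B
  rcases m2_class hF (A : M2 F) hA0 with h1 | h1 | ⟨a, ha, h1, h2⟩
  · rcases m2_class hF (B : M2 F) hB0 with h3 | h3 | ⟨a, ha, h3, h4⟩
    · exact Or.inl (hconc _ 1 (by rw [hsemi _ hA0 (Or.inl h1), one_smul]) (by rw [hsemi _ hB0 (Or.inl h3), one_smul]))
    · exact Or.inl (hconc _ 1 (by rw [hsemi _ hA0 (Or.inl h1), one_smul]) (by rw [hsemi _ hB0 (Or.inr h3), one_smul]))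
    · obtain ⟨N, hN, h5, h6⟩ := third_bound hF (B : M2 F) (A : M2 F) a ha h3 (hdet.trans h4)
      rcases hN with rfl | rfl
      · exact Or.inr (Or.inl (hconc _ _ h6 h5))
      · exact Or.inr (Or.inr (hconc _ _ h6 h5))
  · rcases m2_class hF (B : M2 F) hB0 with h3 | h3 | ⟨a, ha, h3, h4⟩
    · exact Or.inl (hconc _ 1 (by rw [hsemi _ hA0 (Or.inr h1), one_smul]) (by rw [hsemi _ hB0 (Or.inl h3), one_smul]))
    · exact Or.inl (hconc _ 1 (by rw [hsemi _ hA0 (Or.inr h1), one_smul]) (by rw [hsemi _ hB0 (Or.inr h3), one_smul]))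
    · obtain ⟨N, hN, h5, h6⟩ := third_bound hF (B : M2 F) (A : M2 F) a ha h3 (hdet.trans h4)
      rcases hN with rfl | rfl
      · exact Or.inr (Or.inl (hconc _ _ h6 h5))
      · exact Or.inr (Or.inr (hconc _ _ h6 h5))
  · obtain ⟨N, hN, h5, h6⟩ := third_bound hF (A : M2 F) (B : M2 F) a ha h1 (hdet.symm.trans h2)
    rcases hN with rfl | rfl
    · exact Or.inr (Or.inl (hconc _ _ h5 h6))
    · exact Or.inr (Or.inr (hconc _ _ h5 h6))

end two

end Cfsg.Agent.Lib.G2Oct.S3
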