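/-
Elements commuting with a semisimple element whose fixed algebra contains an idempotent and is larger than the
span of this idempotent lie, up to conjugation, in the group of the `phiL A B`.
-/
import Cfsg.Agent.Lib.G2Oct.S3

set_option autoImplicit false
set_option linter.all false

namespace Cfsg.Agent.Lib.G2Oct.LemmaM

open Cfsg.Lie Matrix Module
open Cfsg.Agent.Lib.G2Oct.Oct Cfsg.Agent.Lib.G2Oct.Phi
open Cfsg.Agent.Lib.G2Oct.Aut8 Cfsg.Agent.Lib.G2Oct.Stab Cfsg.Agent.Lib.G2Oct.Count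
  Cfsg.Agent.Lib.G2Oct.Invol Cfsg.Agent.Lib.G2Oct.S2 Cfsg.Agent.Lib.G2Oct.S3
open scoped MatrixGroups

variable {F : Type*} [Field F]

lemma dot_mulVec (X : Matrix (Fin 3) (Fin 3) F) (a w : Fin 3 → F) : (X *ᵥ a) ⬝ᵥ w = a ⬝ᵥ (Xᵀ *ᵥ w) := by
  rw [Matrix.dotProduct_mulVec, Matrix.vecMul_transpose]

/-- A fixed vector of `X` pairs non-trivially with a fixed vector of the contragredient. -/
lemma dual_fix (X Y : Matrix (Fin 3) (Fin 3) F) (hXY : Xᵀ * Y = 1) (m : ℕ) (hY : Y ^ m = 1) (hm0 : (m : F) ≠ 0)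
    (a : Fin 3 → F) (ha : a ≠ 0) (hXa : X *ᵥ a = a) : ∃ b, Y *ᵥ b = b ∧ a ⬝ᵥ b ≠ 0 := by
  obtain ⟨i, hi⟩ : ∃ i, a i ≠ 0 := by
    by_contra h
    push Not at h
    exact ha (funext h)
  let u : Fin 3 → F := Pi.single i 1
  let b : Fin 3 → F := ∑ j ∈ Finset.range m, (Y ^ j) *ᵥ u
  refine ⟨b, ?_, ?_⟩
  · simp only [b]
    rw [Matrix.mulVec_sum]
    have h1 : ∀ j, Y *ᵥ ((Y ^ j) *ᵥ u) = (Y ^ (j + 1)) *ᵥ u := by
      intro j
      rw [Matrix.mulVec_mulVec, pow_succ']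
    simp only [h1]
    have h2 := Finset.sum_range_succ (fun j => (Y ^ j) *ᵥ u) m
    rw [Finset.sum_range_succ' (fun j => (Y ^ j) *ᵥ u) m] at h2
    simp only [pow_zero, Matrix.one_mulVec] at h2
    rw [hY, Matrix.one_mulVec] at h2
    exact add_right_cancel h2
  · have h2 : ∀ j : ℕ, a ⬝ᵥ ((Y ^ j) *ᵥ u) = a ⬝ᵥ u := by
      intro j
      induction j with
      | zero => simp
      | succ j ih =>
        rw [pow_succ', ← Matrix.mulVec_mulVec, ← ih]
        conv_lhs => rw [← hXa]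
        rw [dot_mulVec, Matrix.mulVec_mulVec, hXY, Matrix.one_mulVec]
    simp only [b]
    rw [dotProduct_sum]
    simp only [h2, Finset.sum_const, Finset.card_range, nsmul_eq_mul]
    have : a ⬝ᵥ u = a i := by simp [u]
    rw [this]
    exact mul_ne_zero hm0 hi

/-- The matrix sending `e₁` to `a` and `b` to the first coordinate. -/
lemma exists_B (a b : Fin 3 → F) (h : a ⬝ᵥ b = 1) :
    ∃ B : SL(3, F), B.1 *ᵥ ![1, 0, 0] = a ∧ B.1ᵀ *ᵥ b = ![1, 0, 0] := by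
  have h' : a 0 * b 0 + a 1 * b 1 + a 2 * b 2 = 1 := by
    simpa [dotProduct, Fin.sum_univ_three] using h
  by_cases h0 : b 0 = 0
  · by_cases h1 : b 1 = 0
    · have h2 : b 2 ≠ 0 := by
        intro h2
        rw [h0, h1, h2] at h'
        simp at h'
      refine ⟨⟨!![a 0, b 2, 0; a 1, 0, (b 2)⁻¹ * b 2; a 2, -b 0, -(b 2)⁻¹ * b 1], ?_⟩, ?_, ?_⟩
      · rw [Matrix.det_fin_three]
        simp
        field_simp
        linear_combination h'
      · ext i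
        fin_cases i <;> simp [Matrix.mulVec, dotProduct, Fin.sum_univ_three]
      · ext i
        fin_cases i <;> simp [Matrix.mulVec, dotProduct, Fin.sum_univ_three] <;> try field_simp
        all_goals first | linear_combination h' | ring
    · refine ⟨⟨!![a 0, b 1, 0; a 1, -b 0, -(b 1)⁻¹ * -b 2; a 2, 0, -(b 1)⁻¹ * b 1], ?_⟩, ?_, ?_⟩
      · rw [Matrix.det_fin_three]
        simp
        field_simp
        linear_combination h'
      · ext i
        fin_cases i <;> simp [Matrix.mulVec, dotProduct, Fin.sum_univ_three]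
      · ext i
        fin_cases i <;> simp [Matrix.mulVec, dotProduct, Fin.sum_univ_three] <;> try field_simp
        all_goals first | linear_combination h' | ring
  · refine ⟨⟨!![a 0, -b 1, -(b 0)⁻¹ * b 2; a 1, b 0, 0; a 2, 0, (b 0)⁻¹ * b 0], ?_⟩, ?_, ?_⟩
    · rw [Matrix.det_fin_three]
      simp
      field_simp
      linear_combination h'
    · ext i
      fin_cases i <;> simp [Matrix.mulVec, dotProduct, Fin.sum_univ_three]
    · ext i
      fin_cases i <;> simp [Matrix.mulVec, dotProduct, Fin.sum_univ_three] <;> try field_simp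
      all_goals first | linear_combination h' | ring

/-- The block form. -/
lemma block_facts (A : SL(3, F)) (B : SL(3, F)) (a b : Fin 3 → F) (ha : A.1 *ᵥ a = a) (hb : cof A.1 *ᵥ b = b)
    (hB1 : B.1 *ᵥ ![1, 0, 0] = a) (hB2 : B.1ᵀ *ᵥ b = ![1, 0, 0]) :
    (B⁻¹ * A * B).1 0 0 = 1 ∧ (B⁻¹ * A * B).1 1 0 = 0 ∧ (B⁻¹ * A * B).1 2 0 = 0 ∧
      (B⁻¹ * A * B).1 0 1 = 0 ∧ (B⁻¹ * A * B).1 0 2 = 0 := by
  set A' := B⁻¹ * A * B with hA'
  have hBB : (B⁻¹).1 * B.1 = 1 := by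
    rw [← Matrix.SpecialLinearGroup.coe_mul]; simp
  have hBB' : B.1 * (B⁻¹).1 = 1 := by
    rw [← Matrix.SpecialLinearGroup.coe_mul]; simp
  have hA'1 : A'.1 = (B⁻¹).1 * A.1 * B.1 := by
    rw [hA']; rfl
  have hc : A'.1 *ᵥ ![1, 0, 0] = ![1, 0, 0] := by
    rw [hA'1, ← Matrix.mulVec_mulVec, ← Matrix.mulVec_mulVec, hB1, ha, ← hB1, Matrix.mulVec_mulVec, hBB,
      Matrix.one_mulVec]
  have hAt : A.1ᵀ *ᵥ b = b := by
    have h7 : A.1ᵀ * cof A.1 = 1 := by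
      rw [cof, ← transpose_mul, adjugate_mul, A.2, one_smul, transpose_one]
    conv_lhs => rw [← hb]
    rw [Matrix.mulVec_mulVec, h7, Matrix.one_mulVec]
  have hBt : (B⁻¹).1ᵀ *ᵥ ![1, 0, 0] = b := by
    rw [← hB2, Matrix.mulVec_mulVec, ← Matrix.transpose_mul, hBB', Matrix.transpose_one, Matrix.one_mulVec]
  have hr : A'.1ᵀ *ᵥ ![1, 0, 0] = ![1, 0, 0] := by
    rw [hA'1, Matrix.transpose_mul, Matrix.transpose_mul, ← Matrix.mulVec_mulVec, ← Matrix.mulVec_mulVec, hBt, hAt, hB2]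
  have c0 := congrFun hc 0
  have c1 := congrFun hc 1
  have c2 := congrFun hc 2
  have r1 := congrFun hr 1
  have r2 := congrFun hr 2
  simp [Matrix.mulVec, dotProduct, Fin.sum_univ_three] at c0 c1 c2 r1 r2
  exact ⟨c0, c1, c2, r1, r2⟩

section block

variable (A : SL(3, F)) (h00 : A.1 0 0 = 1) (h10 : A.1 1 0 = 0) (h20 : A.1 2 0 = 0) (h01 : A.1 0 1 = 0) (h02 : A.1 0 2 = 0)

include h00 h10 h20 h01 h02

lemma block_det : A.1 1 1 * A.1 2 2 - A.1 1 2 * A.1 2 1 = 1 := by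
  have := A.2
  rw [Matrix.det_fin_three, h00, h10, h20, h01, h02] at this
  linear_combination this

lemma block_cof : (cof A.1) 0 0 = 1 ∧ (cof A.1) 0 1 = 0 ∧ (cof A.1) 0 2 = 0 ∧ (cof A.1) 1 0 = 0 ∧ (cof A.1) 2 0 = 0 ∧
    (cof A.1) 1 1 = A.1 2 2 ∧ (cof A.1) 1 2 = - A.1 2 1 ∧ (cof A.1) 2 1 = - A.1 1 2 ∧ (cof A.1) 2 2 = A.1 1 1 := by
  have hd := block_det A h00 h10 h20 h01 h02
  simp only [cof, Matrix.adjugate_fin_three, Matrix.transpose_apply]
  simp [h00, h10, h20, h01, h02]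
  exact hd

/-- A non-trivial element of order prime to the characteristic has no further fixed vector. -/
lemma block_ne (m : ℕ) (hm : A ^ m = 1) (hm0 : (m : F) ≠ 0) (hA : A ≠ 1) :
    (A.1 1 1 - 1) * (A.1 2 2 - 1) - A.1 1 2 * A.1 2 1 ≠ 0 := by
  intro h0
  have hd := block_det A h00 h10 h20 h01 h02
  have hs : A.1 1 1 + A.1 2 2 = 2 := by linear_combination hd - h0
  have hβγ : A.1 1 2 * A.1 2 1 = - (A.1 1 1 - 1) ^ 2 := by
    have hδ : A.1 2 2 = 2 - A.1 1 1 := by linear_combination hs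
    rw [hδ] at hd
    linear_combination -hd
  let T : Matrix (Fin 3) (Fin 3) F := A.1 - 1
  have hT : T * T = 0 := by
    ext i j
    fin_cases i <;> fin_cases j <;>
      simp [T, Matrix.mul_apply, Fin.sum_univ_three, Matrix.sub_apply, Matrix.one_apply, h00, h10, h20, h01, h02]
    all_goals first
      | linear_combination hβγ
      | linear_combination (A.1 1 2) * hs
      | linear_combination (A.1 2 1) * hs
      | linear_combination hβγ + (A.1 2 2 - A.1 1 1) * hs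
  have hpow : ∀ n : ℕ, (1 + T) ^ n = 1 + (n : F) • T := by
    intro n
    induction n with
    | zero => simp
    | succ n ih =>
      have e : ((n : F) • T) * T = 0 := by rw [Matrix.smul_mul, hT, smul_zero]
      rw [pow_succ, ih, mul_add, add_mul, add_mul, e]
      push_cast
      simp only [mul_one, one_mul, add_smul, one_smul, add_zero]
      abel
  have h1 : (1 + T) = A.1 := by simp [T]
  have h2 : A.1 ^ m = 1 := by
    rw [← Matrix.SpecialLinearGroup.coe_pow, hm]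
    rfl
  rw [← h1, hpow] at h2
  have h3 : (m : F) • T = 0 := by simpa using h2
  have h4 : T = 0 := (smul_eq_zero.1 h3).resolve_left hm0
  apply hA
  apply Subtype.ext
  rw [← h1, h4]
  simp

lemma block_fix (v : V F) (h2 : v 2 = 0) (h3 : v 3 = 0) (h5 : v 5 = 0) (h6 : v 6 = 0) :
    sv A.1 (cof A.1) v = v := by
  obtain ⟨c00, c01, c02, c10, c20, -, -, -, -⟩ := block_cof A h00 h10 h20 h01 h02
  ext i
  fin_cases i <;> simp [sv, h00, h10, h20, h01, h02, c00, c01, c02, c10, c20, h2, h3, h5, h6]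

lemma block_zero (hne : (A.1 1 1 - 1) * (A.1 2 2 - 1) - A.1 1 2 * A.1 2 1 ≠ 0) (w : V F)
    (hw : sv A.1 (cof A.1) w = w) : w 2 = 0 ∧ w 3 = 0 ∧ w 5 = 0 ∧ w 6 = 0 := by
  obtain ⟨c00, c01, c02, c10, c20, c11, c12, c21, c22⟩ := block_cof A h00 h10 h20 h01 h02
  have e2 := congrFun hw 2
  have e3 := congrFun hw 3
  have e5 := congrFun hw 5
  have e6 := congrFun hw 6
  simp [sv, h00, h10, h20, h01, h02, c00, c01, c02, c10, c20, c11, c12, c21, c22] at e2 e3 e5 e6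
  set α := A.1 1 1
  set β := A.1 1 2
  set γ := A.1 2 1
  set δ := A.1 2 2
  have k2 : ((α - 1) * (δ - 1) - β * γ) * w 2 = 0 := by linear_combination (δ - 1) * e2 - β * e3
  have k3 : ((α - 1) * (δ - 1) - β * γ) * w 3 = 0 := by linear_combination (α - 1) * e3 - γ * e2
  have k5 : ((α - 1) * (δ - 1) - β * γ) * w 5 = 0 := by linear_combination (α - 1) * e5 + γ * e6
  have k6 : ((α - 1) * (δ - 1) - β * γ) * w 6 = 0 := by linear_combination (δ - 1) * e6 + β * e5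
  exact ⟨(mul_eq_zero.1 k2).resolve_left hne, (mul_eq_zero.1 k3).resolve_left hne,
    (mul_eq_zero.1 k5).resolve_left hne, (mul_eq_zero.1 k6).resolve_left hne⟩

end block

section main

variable [Fintype F] {p : ℕ} [hp : Fact p.Prime] [CharP F p] {n : ℕ}

theorem core (hF : Fintype.card F = p ^ n) (A : SL(3, F)) (m : ℕ) (hm : A ^ m = 1) (hm0 : (m : F) ≠ 0) (hA : A ≠ 1)
    (g : Aut8 F) (hc : g * sl3Hom A = sl3Hom A * g) (a b : Fin 3 → F) (ha : A.1 *ᵥ a = a) (hb : cof A.1 *ᵥ b = b)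
    (hab : a ⬝ᵥ b = 1) :
    g ^ ((p ^ n) ^ 2 - 1) = 1 ∨ g ^ (p * (p ^ n - 1)) = 1 ∨ g ^ (p * (p ^ n + 1)) = 1 := by
  obtain ⟨B, hB1, hB2⟩ := exists_B a b hab
  obtain ⟨h00, h10, h20, h01, h02⟩ := block_facts A B a b ha hb hB1 hB2
  set A' := B⁻¹ * A * B with hA'
  have hA'm : A' ^ m = 1 := by
    have : A' = B⁻¹ * A * B⁻¹⁻¹ := by rw [hA', inv_inv]
    rw [this, conj_pow, hm]
    simp
  have hA'1 : A' ≠ 1 := by
    intro h
    apply hA
    have : A = B * A' * B⁻¹ := by rw [hA']; group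
    rw [this, h]
    simp
  have hne := block_ne A' h00 h10 h20 h01 h02 m hA'm hm0 hA'1
  set t : Aut8 F := sl3Hom B with ht
  set g₂ : Aut8 F := t⁻¹ * g * t with hg₂
  have hslA' : sl3Hom A' = t⁻¹ * sl3Hom A * t := by
    rw [hA', map_mul, map_mul, map_inv]
  have hc2 : g₂ * sl3Hom A' = sl3Hom A' * g₂ := by
    rw [hslA', hg₂]
    calc t⁻¹ * g * t * (t⁻¹ * sl3Hom A * t) = t⁻¹ * (g * sl3Hom A) * t := by group
      _ = t⁻¹ * (sl3Hom A * g) * t := by rw [hc]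
      _ = _ := by group
  have key : ∀ v : V F, v 2 = 0 → v 3 = 0 → v 5 = 0 → v 6 = 0 →
      (g₂ : V F ≃ₗ[F] V F) v 2 = 0 ∧ (g₂ : V F ≃ₗ[F] V F) v 3 = 0 ∧ (g₂ : V F ≃ₗ[F] V F) v 5 = 0 ∧
        (g₂ : V F ≃ₗ[F] V F) v 6 = 0 := by
    intro v h2 h3 h5 h6
    apply block_zero A' h00 h10 h20 h01 h02 hne
    have h7 := congrArg (fun s : Aut8 F => (s : V F ≃ₗ[F] V F) v) hc2
    simp only [Subgroup.coe_mul, LinearEquiv.mul_apply, sl3Hom_apply] at h7
    rw [block_fix A' h00 h10 h20 h01 h02 v h2 h3 h5 h6] at h7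
    exact h7.symm
  have h_a : ∀ x : M2 F, (((autDouble g₂ : AutO F) : Oct F ≃ₗ[F] Oct F) (x, 0)).2 = 0 := by
    intro x
    rw [autDouble_apply]
    obtain ⟨k2, k3, k5, k6⟩ := key (iota F (x, 0)) (by simp [iota]) (by simp [iota]) (by simp [iota]) (by simp [iota])
    have e : ((iota F).symm ((g₂ : V F ≃ₗ[F] V F) (iota F (x, 0)))).2 =
        !![(g₂ : V F ≃ₗ[F] V F) (iota F (x, 0)) 2, (g₂ : V F ≃ₗ[F] V F) (iota F (x, 0)) 6;
           (g₂ : V F ≃ₗ[F] V F) (iota F (x, 0)) 3, -(g₂ : V F ≃ₗ[F] V F) (iota F (x, 0)) 5] := rfl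
    rw [e, k2, k3, k5, k6]
    ext i j
    fin_cases i <;> fin_cases j <;> simp
  obtain ⟨P, hP, hGP⟩ := preserves_M2 _ (autDouble g₂).2 h_a
  have hfin : ∀ N : ℕ, phiL P.1 P.2 ^ N = 1 → g ^ N = 1 := by
    intro N hN
    have h1 : autDouble (g₂ ^ N) = 1 := by
      apply Subtype.ext
      rw [map_pow, Subgroup.coe_pow, hGP]
      exact hN
    have h2 : g₂ ^ N = 1 := by
      have := (autDouble (F := F)).injective (h1.trans (map_one _).symm)
      exact this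
    have h3 : g₂ = t⁻¹ * g * t⁻¹⁻¹ := by rw [hg₂, inv_inv]
    rw [h3, conj_pow] at h2
    have h4 : g ^ N = t * (t⁻¹ * g ^ N * t⁻¹⁻¹) * t⁻¹ := by group
    rw [h4, h2]
    simp
  rcases phi_bound hF P.1 P.2 hP with h | h | h
  · exact Or.inl (hfin _ h)
  · exact Or.inr (Or.inl (hfin _ h))
  · exact Or.inr (Or.inr (hfin _ h))

/-- The main lemma. -/
theorem lemmaM (hF : Fintype.card F = p ^ n) (g s : Aut8 F) (hc : g * s = s * g) (m : ℕ) (hm : s ^ m = 1)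
    (hm0 : (m : F) ≠ 0) (hs1 : s ≠ 1) (z : V F) (hz : z ∈ Idem F) (hsz : (s : V F ≃ₗ[F] V F) z = z) (w : V F)
    (hsw : (s : V F ≃ₗ[F] V F) w = w) (hw : ∀ α β : F, w ≠ α • z + β • one8) :
    g ^ ((p ^ n) ^ 2 - 1) = 1 ∨ g ^ (p * (p ^ n - 1)) = 1 ∨ g ^ (p * (p ^ n + 1)) = 1 := by
  obtain ⟨t, ht⟩ := idem_trans hz
  obtain ⟨A, hA⟩ := conj_sl t s (by rw [ht, hsz])
  have hAm : A ^ m = 1 := by
    apply sl3Hom_inj
    rw [map_pow, map_one]
    have h1 : sl3Hom A = t⁻¹ * s * t⁻¹⁻¹ := by rw [hA]; group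
    rw [h1, conj_pow, hm]
    simp
  have hA1 : A ≠ 1 := by
    rintro rfl
    apply hs1
    rw [hA, map_one]
    simp
  set g₁ : Aut8 F := t⁻¹ * g * t with hg₁
  have hc1 : g₁ * sl3Hom A = sl3Hom A * g₁ := by
    have h1 : sl3Hom A = t⁻¹ * s * t := by rw [hA]; group
    rw [h1, hg₁]
    calc t⁻¹ * g * t * (t⁻¹ * s * t) = t⁻¹ * (g * s) * t := by group
      _ = t⁻¹ * (s * g) * t := by rw [hc]
      _ = _ := by group
  have hfin : ∀ N : ℕ, g₁ ^ N = 1 → g ^ N = 1 := by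
    intro N hN
    have h3 : g₁ = t⁻¹ * g * t⁻¹⁻¹ := by rw [hg₁, inv_inv]
    rw [h3, conj_pow] at hN
    have h4 : g ^ N = t * (t⁻¹ * g ^ N * t⁻¹⁻¹) * t⁻¹ := by group
    rw [h4, hN]
    simp
  set w₁ : V F := ((t⁻¹ : Aut8 F) : V F ≃ₗ[F] V F) w with hw₁
  have hfix : sv A.1 (cof A.1) w₁ = w₁ := by
    have h1 : sl3Hom A = t⁻¹ * s * t := by rw [hA]; group
    rw [← sl3Hom_apply, h1]
    change ((t⁻¹ : Aut8 F) : V F ≃ₗ[F] V F) ((s : V F ≃ₗ[F] V F) ((t : V F ≃ₗ[F] V F) (((t⁻¹ : Aut8 F) : V F ≃ₗ[F] V F) w))) = _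
    have h2 : (t : V F ≃ₗ[F] V F) (((t⁻¹ : Aut8 F) : V F ≃ₗ[F] V F) w) = w := by
      change ((t * t⁻¹ : Aut8 F) : V F ≃ₗ[F] V F) w = w
      simp
    rw [h2, hsw]
  set a₀ : Fin 3 → F := ![w₁ 1, w₁ 2, w₁ 3] with ha₀
  set b₀ : Fin 3 → F := ![w₁ 4, w₁ 5, w₁ 6] with hb₀
  have hAa : A.1 *ᵥ a₀ = a₀ := by
    have e1 := congrFun hfix 1
    have e2 := congrFun hfix 2
    have e3 := congrFun hfix 3
    simp [sv] at e1 e2 e3
    ext i
    fin_cases i <;> simp [ha₀, Matrix.mulVec, dotProduct, Fin.sum_univ_three]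
    · exact e1
    · exact e2
    · exact e3
  have hAb : cof A.1 *ᵥ b₀ = b₀ := by
    have e1 := congrFun hfix 4
    have e2 := congrFun hfix 5
    have e3 := congrFun hfix 6
    simp [sv] at e1 e2 e3
    ext i
    fin_cases i <;> simp [hb₀, Matrix.mulVec, dotProduct, Fin.sum_univ_three]
    · exact e1
    · exact e2
    · exact e3
  have hcofm : (cof A.1) ^ m = 1 := by
    have : (Cent3.cofHom A) ^ m = 1 := by rw [← map_pow, hAm, map_one]
    have h2 : ((Cent3.cofHom A) ^ m).1 = 1 := by rw [this]; rfl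
    rw [Matrix.SpecialLinearGroup.coe_pow] at h2
    exact h2
  have hAm' : A.1 ^ m = 1 := by
    rw [← Matrix.SpecialLinearGroup.coe_pow, hAm]
    rfl
  have h7 : A.1ᵀ * cof A.1 = 1 := by
    rw [cof, ← transpose_mul, adjugate_mul, A.2, one_smul, transpose_one]
  have h8 : (cof A.1)ᵀ * A.1 = 1 := by
    rw [cof, transpose_transpose, adjugate_mul, A.2, one_smul]
  have hex : ∃ a b : Fin 3 → F, A.1 *ᵥ a = a ∧ cof A.1 *ᵥ b = b ∧ a ⬝ᵥ b = 1 := by
    have hscale : ∀ a b : Fin 3 → F, A.1 *ᵥ a = a → cof A.1 *ᵥ b = b → a ⬝ᵥ b ≠ 0 →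
        ∃ a b : Fin 3 → F, A.1 *ᵥ a = a ∧ cof A.1 *ᵥ b = b ∧ a ⬝ᵥ b = 1 := by
      intro a b ha hb hab
      refine ⟨a, (a ⬝ᵥ b)⁻¹ • b, ha, ?_, ?_⟩
      · rw [Matrix.mulVec_smul, hb]
      · rw [dotProduct_smul, smul_eq_mul, inv_mul_cancel₀ hab]
    by_cases ha0 : a₀ = 0
    · by_cases hb0 : b₀ = 0
      · exfalso
        have k1 : w₁ 1 = 0 := by simpa [ha₀] using congrFun ha0 0
        have k2 : w₁ 2 = 0 := by simpa [ha₀] using congrFun ha0 1
        have k3 : w₁ 3 = 0 := by simpa [ha₀] using congrFun ha0 2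
        have k4 : w₁ 4 = 0 := by simpa [hb₀] using congrFun hb0 0
        have k5 : w₁ 5 = 0 := by simpa [hb₀] using congrFun hb0 1
        have k6 : w₁ 6 = 0 := by simpa [hb₀] using congrFun hb0 2
        apply hw (w₁ 0 - w₁ 7) (w₁ 7)
        have h1 : w₁ = (w₁ 0 - w₁ 7) • E 0 + w₁ 7 • one8 := by
          ext i
          fin_cases i <;> simp [E_apply, one8, k1, k2, k3, k4, k5, k6]
        have h2 : w = (t : V F ≃ₗ[F] V F) w₁ := by
          change w = ((t * t⁻¹ : Aut8 F) : V F ≃ₗ[F] V F) w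
          simp
        calc w = (t : V F ≃ₗ[F] V F) w₁ := h2
          _ = (t : V F ≃ₗ[F] V F) ((w₁ 0 - w₁ 7) • E 0 + w₁ 7 • one8) := congrArg _ h1
          _ = _ := by rw [map_add, map_smul, map_smul, ht, aut_one]
      · obtain ⟨a, h1, h2⟩ := dual_fix (cof A.1) A.1 h8 m hAm' hm0 b₀ hb0 hAb
        exact hscale a b₀ h1 hAb (by rwa [dotProduct_comm])
    · obtain ⟨b, h1, h2⟩ := dual_fix A.1 (cof A.1) h7 m hcofm hm0 a₀ ha0 hAa
      exact hscale a₀ b hAa h1 h2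
  obtain ⟨a, b, ha, hb, hab⟩ := hex
  rcases core hF A m hAm hm0 hA1 g₁ hc1 a b ha hb hab with h | h | h
  · exact Or.inl (hfin _ h)
  · exact Or.inr (Or.inl (hfin _ h))
  · exact Or.inr (Or.inr (hfin _ h))

end main

end Cfsg.Agent.Lib.G2Oct.LemmaM
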