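/-
Every element of the automorphism group of Zorn's algebra has order dividing one of the maximal element orders.
-/
import Cfsg.Agent.Lib.G2Oct.LemmaM
import Cfsg.Agent.S1052

set_option autoImplicit false
set_option linter.all false

namespace Cfsg.Agent.Lib.G2Oct.Cls

open Cfsg.Lie Matrix Module
open Cfsg.Agent.Lib.G2Oct.Aut8 Cfsg.Agent.Lib.G2Oct.Stab Cfsg.Agent.Lib.G2Oct.Count
  Cfsg.Agent.Lib.G2Oct.Invol Cfsg.Agent.Lib.G2Oct.S2 Cfsg.Agent.Lib.G2Oct.BaseCh
  Cfsg.Agent.Lib.G2Oct.LemmaM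
open scoped MatrixGroups Polynomial

variable {F : Type*} [Field F]

/-- The endomorphism attached to an automorphism. -/
def gl (g : Aut8 F) : Module.End F (V F) := ((g : V F ≃ₗ[F] V F) : V F →ₗ[F] V F)

@[simp] lemma gl_apply (g : Aut8 F) (v : V F) : gl g v = (g : V F ≃ₗ[F] V F) v := rfl

lemma gl_mul (a b : Aut8 F) : gl (a * b) = gl a * gl b := rfl

lemma gl_one : gl (1 : Aut8 F) = 1 := rfl

lemma gl_pow (a : Aut8 F) (k : ℕ) : gl (a ^ k) = gl a ^ k := by
  induction k with
  | zero => simp [gl_one]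
  | succ k ih => rw [pow_succ, gl_mul, ih, pow_succ]

lemma gl_inj {a b : Aut8 F} (h : gl a = gl b) : a = b := by
  apply Subtype.ext
  apply LinearEquiv.toLinearMap_injective
  exact h

lemma nil_pow {W : Type*} [AddCommGroup W] [Module F W] [FiniteDimensional F W] (T : Module.End F W)
    (hT : IsNilpotent T) : T ^ finrank F W = 0 := by
  have h1 := LinearMap.aeval_self_charpoly T
  rw [_root_.IsNilpotent.charpoly_eq_X_pow_finrank hT] at h1
  simpa using h1

/-- The trace as a linear form. -/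
def trL : V F →ₗ[F] F where
  toFun := tr8
  map_add' x y := by simp [tr8]; ring
  map_smul' c x := by simp [tr8]; ring

lemma trL_apply (x : V F) : trL x = tr8 x := rfl

lemma tr8_add (x y : V F) : tr8 (x + y) = tr8 x + tr8 y := trL.map_add x y
lemma tr8_smul (c : F) (x : V F) : tr8 (c • x) = c * tr8 x := trL.map_smul c x
lemma tr8_sub (x y : V F) : tr8 (x - y) = tr8 x - tr8 y := trL.map_sub x y

lemma finrank_ker_tr : finrank F (LinearMap.ker (trL : V F →ₗ[F] F)) = 7 := by
  have h1 := LinearMap.finrank_range_add_finrank_ker (trL : V F →ₗ[F] F)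
  have h2 : LinearMap.range (trL : V F →ₗ[F] F) = ⊤ := by
    rw [LinearMap.range_eq_top]
    intro c
    refine ⟨c • E 0, ?_⟩
    simp [trL_apply, tr8, E_apply]
  rw [h2, finrank_top] at h1
  simp at h1
  omega

section pelt

variable {p : ℕ} [hp : Fact p.Prime] [CharP F p]

lemma T_pow (g : Aut8 F) (k : ℕ) : (gl g - 1) ^ p ^ k = gl (g ^ p ^ k) - 1 := by
  haveI : CharP (Module.End F (V F)) p :=
    charP_of_injective_algebraMap (algebraMap F (Module.End F (V F))).injective p
  rw [sub_pow_char_pow_of_commute (R := Module.End F (V F)) p k (Commute.one_right _), one_pow, gl_pow]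

lemma T_zero (g : Aut8 F) (k : ℕ) (h : (gl g - 1) ^ p ^ k = 0) : g ^ p ^ k = 1 := by
  rw [T_pow, sub_eq_zero] at h
  exact gl_inj (h.trans gl_one.symm)

lemma T_nil (g : Aut8 F) (k : ℕ) (h : g ^ p ^ k = 1) : IsNilpotent (gl g - 1) := by
  refine ⟨p ^ k, ?_⟩
  rw [T_pow, h, gl_one, sub_self]

/-- The bound on the nilpotency in characteristic two. -/
lemma T_8 (g : Aut8 F) (k : ℕ) (h : g ^ p ^ k = 1) : (gl g - 1) ^ 8 = 0 := by
  have := nil_pow _ (T_nil g k h)
  simpa using this

lemma tr_T (g : Aut8 F) (v : V F) : tr8 ((gl g - 1) v) = 0 := by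
  simp only [LinearMap.sub_apply, gl_apply, Module.End.one_apply, tr8_sub, (aut_tr_nm g v).1, sub_self]

/-- The bound on the nilpotency in odd characteristic. -/
lemma T_7 (h2 : (2 : F) ≠ 0) (g : Aut8 F) (k : ℕ) (h : g ^ p ^ k = 1) : (gl g - 1) ^ 7 = 0 := by
  set T := gl g - 1 with hT
  have hstable : ∀ x ∈ LinearMap.ker (trL : V F →ₗ[F] F), T x ∈ LinearMap.ker (trL : V F →ₗ[F] F) := by
    intro x _
    exact tr_T g x
  let T' : Module.End F (LinearMap.ker (trL : V F →ₗ[F] F)) := T.restrict hstable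
  have hnil : IsNilpotent T' := by
    obtain ⟨N, hN⟩ := T_nil g k h
    refine ⟨N, ?_⟩
    apply LinearMap.ext
    intro x
    apply Subtype.ext
    rw [Module.End.pow_restrict]
    have hN' : T ^ N = 0 := hN
    simp [hN']
  have h7 := nil_pow T' hnil
  rw [finrank_ker_tr] at h7
  have hone : T one8 = 0 := by
    simp [hT, aut_one]
  apply LinearMap.ext
  intro v
  have hv : v = (tr8 v / 2) • one8 + (v - (tr8 v / 2) • one8) := by abel
  have hmem : v - (tr8 v / 2) • one8 ∈ LinearMap.ker (trL : V F →ₗ[F] F) := by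
    change tr8 _ = 0
    rw [tr8_sub, tr8_smul, tr8_one]
    field_simp
    ring
  have h3 : (T ^ 7) (v - (tr8 v / 2) • one8) = 0 := by
    have := congrArg (fun f : Module.End F (LinearMap.ker (trL : V F →ₗ[F] F)) =>
      ((f ⟨_, hmem⟩ : LinearMap.ker (trL : V F →ₗ[F] F)) : V F)) h7
    simp only [T'] at this
    rw [Module.End.pow_restrict] at this
    simpa using this
  have h4 : (T ^ 7) one8 = 0 := by
    rw [pow_succ, Module.End.mul_apply, hone, map_zero]
  rw [hv, map_add, map_smul, h4, smul_zero, zero_add, h3]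
  simp

end pelt

section avg

/-- The bilinear form as a linear form in the second variable. -/
def bfL (x : V F) : V F →ₗ[F] F where
  toFun := bf8 x
  map_add' := bf8_add x
  map_smul' c y := by simpa using bf8_smul c x y

lemma bfL_apply (x y : V F) : bfL x y = bf8 x y := rfl

variable (s : Aut8 F) (m : ℕ)

/-- The averaging operator. -/
noncomputable def avg (v : V F) : V F := ∑ j ∈ Finset.range m, ((s ^ j : Aut8 F) : V F ≃ₗ[F] V F) v

variable {s m}

lemma avg_fix (hm : s ^ m = 1) (v : V F) : (s : V F ≃ₗ[F] V F) (avg s m v) = avg s m v := by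
  simp only [avg]
  rw [map_sum]
  have h1 : ∀ j : ℕ, (s : V F ≃ₗ[F] V F) (((s ^ j : Aut8 F) : V F ≃ₗ[F] V F) v) = ((s ^ (j + 1) : Aut8 F) : V F ≃ₗ[F] V F) v := by
    intro j
    rw [pow_succ']
    rfl
  simp only [h1]
  have h2 := Finset.sum_range_succ (fun j => ((s ^ j : Aut8 F) : V F ≃ₗ[F] V F) v) m
  rw [Finset.sum_range_succ' (fun j => ((s ^ j : Aut8 F) : V F ≃ₗ[F] V F) v) m] at h2
  rw [hm] at h2
  simp only [pow_zero] at h2
  exact add_right_cancel h2

lemma pow_fix {x : V F} (hx : (s : V F ≃ₗ[F] V F) x = x) (j : ℕ) : ((s ^ j : Aut8 F) : V F ≃ₗ[F] V F) x = x := by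
  induction j with
  | zero => rfl
  | succ j ih =>
    rw [pow_succ]
    change ((s ^ j : Aut8 F) : V F ≃ₗ[F] V F) ((s : V F ≃ₗ[F] V F) x) = x
    rw [hx, ih]

lemma bf_avg {x : V F} (hx : (s : V F ≃ₗ[F] V F) x = x) (v : V F) : bf8 x (avg s m v) = (m : F) * bf8 x v := by
  rw [← bfL_apply, avg, map_sum]
  have h1 : ∀ j : ℕ, bfL x (((s ^ j : Aut8 F) : V F ≃ₗ[F] V F) v) = bf8 x v := by
    intro j
    rw [bfL_apply]
    conv_lhs => rw [← pow_fix hx j]
    exact aut_bf _ _ _
  simp only [h1, Finset.sum_const, Finset.card_range, nsmul_eq_mul]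

/-- The form is nondegenerate on the fixed vectors of a semisimple element. -/
lemma fix_nondeg (hm : s ^ m = 1) (hm0 : (m : F) ≠ 0) {x : V F} (hx : (s : V F ≃ₗ[F] V F) x = x) (hx0 : x ≠ 0) :
    ∃ y, (s : V F ≃ₗ[F] V F) y = y ∧ bf8 x y ≠ 0 := by
  by_contra hc
  push Not at hc
  apply hx0
  apply bf8_nondeg
  intro v
  have := hc _ (avg_fix hm v)
  rw [bf_avg hx] at this
  exact (mul_eq_zero.1 this).resolve_left hm0

/-- Semisimple elements fix an element of trace one. -/
lemma fix_tr (hm : s ^ m = 1) (hm0 : (m : F) ≠ 0) : ∃ c, (s : V F ≃ₗ[F] V F) c = c ∧ tr8 c = 1 := by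
  refine ⟨(m : F)⁻¹ • avg s m (E 0), ?_, ?_⟩
  · rw [map_smul, avg_fix hm]
  · rw [tr8_smul, ← trL_apply, avg, map_sum]
    have h1 : ∀ j : ℕ, trL (((s ^ j : Aut8 F) : V F ≃ₗ[F] V F) (E 0)) = 1 := by
      intro j
      rw [trL_apply, (aut_tr_nm _ _).1]
      simp [tr8, E_apply]
    simp only [h1, Finset.sum_const, Finset.card_range, nsmul_eq_mul, mul_one]
    exact inv_mul_cancel₀ hm0

end avg

section gram

/-- The dual coordinates. -/
def J8 : V F →ₗ[F] V F where
  toFun y := ![y 7, -y 4, -y 5, -y 6, -y 1, -y 2, -y 3, y 0]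
  map_add' x y := by
    ext i
    fin_cases i <;> simp <;> ring
  map_smul' c x := by
    ext i
    fin_cases i <;> simp

/-- The Gram matrix. -/
def G8 : Matrix (Fin 8) (Fin 8) F := LinearMap.toMatrix' J8

lemma bf8_eq (x y : V F) : bf8 x y = x ⬝ᵥ (G8 *ᵥ y) := by
  rw [G8, LinearMap.toMatrix'_mulVec]
  simp [bf8, J8, dotProduct, Fin.sum_univ_eight]
  ring

lemma det_G8 : (G8 : Matrix (Fin 8) (Fin 8) F).det ≠ 0 := by
  intro h0
  obtain ⟨x, hx, hGx⟩ := Matrix.exists_mulVec_eq_zero_iff.2 h0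
  apply hx
  apply bf8_nondeg
  intro y
  rw [bf8_comm, bf8_eq, hGx]
  simp

/-- The reflection in the identity. -/
def rL : V F →ₗ[F] V F := LinearMap.id - (trL : V F →ₗ[F] F).smulRight one8

lemma rL_apply (v : V F) : rL v = v - tr8 v • one8 := rfl

lemma bf_rL (u v : V F) : bf8 (rL u) (rL v) = bf8 u v := by
  simp [rL_apply, bf8, tr8, one8]
  ring

lemma det_rL : LinearMap.det (rL : V F →ₗ[F] V F) = -1 := by
  have h1 : (rL : V F →ₗ[F] V F) = LinearMap.transvection (-(trL : V F →ₗ[F] F)) one8 := by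
    apply LinearMap.ext
    intro v
    rw [rL_apply, LinearMap.transvection.apply]
    simp [trL_apply, sub_eq_add_neg]
  rw [h1, LinearMap.transvection.det]
  simp [trL_apply, tr8_one]
  ring

/-- An element of determinant one fixes a vector of trace zero. -/
theorem exists_fixed (h2 : (2 : F) ≠ 0) (s : Aut8 F) (hdet : LinearMap.det (gl s) = 1) :
    ∃ x : V F, x ≠ 0 ∧ (s : V F ≃ₗ[F] V F) x = x ∧ tr8 x = 0 := by
  set h : V F →ₗ[F] V F := gl s ∘ₗ rL with hh
  set M := LinearMap.toMatrix' h with hM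
  have hMv : ∀ v, M *ᵥ v = h v := fun v => LinearMap.toMatrix'_mulVec h v
  have hiso : ∀ u v, bf8 (h u) (h v) = bf8 u v := by
    intro u v
    simp only [hh, LinearMap.comp_apply, gl_apply]
    rw [aut_bf, bf_rL]
  have hG : Mᵀ * G8 * M = G8 := by
    ext i j
    have h1 := hiso (Pi.single i 1) (Pi.single j 1)
    rw [bf8_eq, bf8_eq, ← hMv, ← hMv] at h1
    have h3 : (Pi.single i 1 : Fin 8 → F) ⬝ᵥ ((Mᵀ * G8 * M) *ᵥ Pi.single j 1) =
        (M *ᵥ Pi.single i 1) ⬝ᵥ (G8 *ᵥ (M *ᵥ Pi.single j 1)) := by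
      rw [Matrix.mul_assoc, ← Matrix.mulVec_mulVec, ← Matrix.mulVec_mulVec, Matrix.dotProduct_mulVec _ Mᵀ,
        Matrix.vecMul_transpose]
    rw [← h3] at h1
    simpa using h1
  have hdetM : M.det = -1 := by
    rw [hM, LinearMap.det_toMatrix', hh, LinearMap.det_comp, hdet, det_rL, one_mul]
  have hX : Mᵀ * G8 * (M - 1) = (1 - Mᵀ) * G8 := by
    rw [mul_sub, hG, sub_mul, mul_one, one_mul]
  have hD := congrArg Matrix.det hX
  rw [Matrix.det_mul, Matrix.det_mul, Matrix.det_mul, Matrix.det_transpose, hdetM] at hD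
  have e1 : (1 - Mᵀ).det = (M - 1).det := by
    have : (1 - Mᵀ) = (-(M - 1))ᵀ := by simp
    rw [this, Matrix.det_transpose, Matrix.det_neg]
    simp
    ring
  rw [e1] at hD
  have hG0 := det_G8 (F := F)
  have hD0 : (M - 1).det = 0 := by
    have h3 : (2 : F) * (M - 1).det * (G8 : Matrix (Fin 8) (Fin 8) F).det = 0 := by
      linear_combination -hD
    have h4 := (mul_eq_zero.1 h3).resolve_right hG0
    exact (mul_eq_zero.1 h4).resolve_left h2
  obtain ⟨v, hv, hMv0⟩ := Matrix.exists_mulVec_eq_zero_iff.2 hD0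
  have h5 : h v = v := by
    rw [← hMv]
    rw [Matrix.sub_mulVec, Matrix.one_mulVec, sub_eq_zero] at hMv0
    exact hMv0
  have h6 : (s : V F ≃ₗ[F] V F) v = v + tr8 v • one8 := by
    have : h v = (s : V F ≃ₗ[F] V F) v - tr8 v • one8 := by
      simp only [hh, LinearMap.comp_apply, gl_apply, rL_apply, map_sub, map_smul, aut_one]
    rw [this] at h5
    exact sub_eq_iff_eq_add.1 h5
  have h7 : tr8 v = 0 := by
    have h8 := (aut_tr_nm s v).1
    rw [h6, tr8_add, tr8_smul, tr8_one] at h8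
    have h9 : tr8 v * 2 = 0 := by linear_combination h8
    exact (mul_eq_zero.1 h9).resolve_right h2
  refine ⟨v, hv, ?_, h7⟩
  rw [h6, h7, zero_smul, add_zero]

end gram

section descent

variable {K : Type*} [Field K] [Algebra F K] [FiniteDimensional F K]

/-- Fixed vectors after base change. -/
lemma fix_descend (s : Aut8 F) (c : V F)
    (hC : ∀ w : V F, (s : V F ≃ₗ[F] V F) w = w → ∃ α β : F, w = α • one8 + β • c) (v : V K)
    (hv : ((bc (algebraMap F K) s : Aut8 K) : V K ≃ₗ[K] V K) v = v) :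
    ∃ α β : K, v = α • one8 + β • mv (algebraMap F K) c := by
  set ι := algebraMap F K with hι
  let b := Module.finBasis F K
  let vj : Fin (finrank F K) → V F := fun j i => b.repr (v i) j
  have hv_expand : v = ∑ j, b j • mv ι (vj j) := by
    ext i
    simp only [Finset.sum_apply, Pi.smul_apply, mv_apply, smul_eq_mul, vj]
    conv_lhs => rw [← b.sum_repr (v i)]
    refine Finset.sum_congr rfl fun j _ => ?_
    rw [Algebra.smul_def, mul_comm]
  have hs : ∀ j, (s : V F ≃ₗ[F] V F) (vj j) = vj j := by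
    have h1 : ((bc ι s : Aut8 K) : V K ≃ₗ[K] V K) v = ∑ j, b j • mv ι ((s : V F ≃ₗ[F] V F) (vj j)) := by
      conv_lhs => rw [hv_expand]
      rw [map_sum]
      refine Finset.sum_congr rfl fun j _ => ?_
      rw [map_smul, bc_mv]
    rw [hv] at h1
    intro j
    ext i
    have h2 := congrFun (hv_expand.symm.trans h1) i
    simp only [Finset.sum_apply, Pi.smul_apply, mv_apply, smul_eq_mul] at h2
    have h3 : ∀ (f : Fin (finrank F K) → V F), (∑ j, b j * ι (f j i)) = ∑ j, (f j i) • b j := by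
      intro f
      refine Finset.sum_congr rfl fun j _ => ?_
      rw [Algebra.smul_def, mul_comm]
    rw [h3 vj, h3 (fun j => (s : V F ≃ₗ[F] V F) (vj j))] at h2
    have h4 := DFunLike.congr_fun (congrArg b.repr h2) j
    rw [b.repr_sum_self, b.repr_sum_self] at h4
    exact h4.symm
  choose α β hαβ using fun j => hC (vj j) (hs j)
  refine ⟨∑ j, b j * ι (α j), ∑ j, b j * ι (β j), ?_⟩
  conv_lhs => rw [hv_expand]
  rw [Finset.sum_smul, Finset.sum_smul, ← Finset.sum_add_distrib]
  refine Finset.sum_congr rfl fun j _ => ?_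
  rw [hαβ j, mv_add, mv_smul, mv_smul, mv_one8, smul_add, smul_smul, smul_smul]

end descent

section swap

variable [Fintype F] {K : Type*} [Field K] [Fintype K] [Algebra F K]

omit [Fintype F] [Fintype K] [Algebra F K] in
lemma cof_mul_transpose (B : SL(3, K)) : (cof B.1) * B.1ᵀ = 1 := by
  rw [cof, ← Matrix.transpose_mul, Matrix.mul_adjugate, B.2, one_smul, Matrix.transpose_one]

omit [Fintype F] [Fintype K] [Algebra F K] in
lemma det_skew (B : Matrix (Fin 3) (Fin 3) K) : (B - Bᵀ).det = 0 := by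
  rw [Matrix.det_fin_three]
  simp
  ring

/-- In characteristic two, an element of odd order with a two-dimensional fixed algebra cannot be a power of
an element moving this algebra. -/
theorem no_swap_K (h2 : (2 : K) = 0) (g s : Aut8 F) (k : ℕ) (hs : s = (g * g) ^ k) (c : V F) (htr : tr8 c = 1)
    (hgc : (g : V F ≃ₗ[F] V F) c = c + one8)
    (hC : ∀ w : V F, (s : V F ≃ₗ[F] V F) w = w → ∃ α β : F, w = α • one8 + β • c) (ρ : K)
    (hρ : ρ ^ 2 - ρ + algebraMap F K (nm8 c) = 0) : False := by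
  haveI : FiniteDimensional F K := Module.Finite.of_finite
  set ι := algebraMap F K with hι
  set e : V K := mv ι c - ρ • one8 with he
  have htre : tr8 e = 1 := by
    rw [he, tr8_sub, tr8_smul, tr8_mv, htr, tr8_one, h2, mul_zero, sub_zero, map_one]
  have hnme : nm8 e = 0 := by
    have h3 : nm8 e = nm8 (mv ι c) - ρ * tr8 (mv ι c) + ρ ^ 2 := by
      generalize mv ι c = x at he
      rw [he]
      simp [nm8, tr8, one8]
      ring
    rw [h3, nm8_mv, tr8_mv, htr, map_one]
    linear_combination hρ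
  have hidem : e ∈ Idem K := idem_of_char htre hnme
  obtain ⟨t, ht⟩ := idem_trans hidem
  set y : Aut8 K := bc ι g with hy
  have hymc : (y : V K ≃ₗ[K] V K) (mv ι c) = mv ι c + one8 := by
    rw [hy, bc_mv, hgc, mv_add, mv_one8]
  have hye : (y : V K ≃ₗ[K] V K) e = e + one8 := by
    rw [he, map_sub, map_smul, aut_one, hymc]
    abel
  have h2e : ∀ x : V K, x + x = 0 := by
    intro x
    ext i
    simp only [Pi.add_apply, Pi.zero_apply]
    linear_combination (x i) * h2
  have ht7 : (t : V K ≃ₗ[K] V K) (E 7) = e + one8 := by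
    have h3 := aut_one t
    rw [one8_eq, map_add, ht, ← one8_eq] at h3
    have h4 : e + one8 = e + (e + (t : V K ≃ₗ[K] V K) (E 7)) := by rw [h3]
    rw [h4, ← add_assoc, h2e, zero_add]
  set h : Aut8 K := t⁻¹ * y * t with hh
  have htinv : ∀ x : V K, ((t⁻¹ : Aut8 K) : V K ≃ₗ[K] V K) ((t : V K ≃ₗ[K] V K) x) = x := by
    intro x
    change ((t⁻¹ * t : Aut8 K) : V K ≃ₗ[K] V K) x = x
    simp
  have hh0 : (h : V K ≃ₗ[K] V K) (E 0) = E 7 := by
    change ((t⁻¹ : Aut8 K) : V K ≃ₗ[K] V K) ((y : V K ≃ₗ[K] V K) ((t : V K ≃ₗ[K] V K) (E 0))) = E 7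
    rw [ht, hye, ← ht7, htinv]
  have hsw : ((Cent3.swE * h : Aut8 K) : V K ≃ₗ[K] V K) (E 0) = E 0 := by
    change Cent3.swV ((h : V K ≃ₗ[K] V K) (E 0)) = E 0
    rw [hh0]
    ext i
    fin_cases i <;> simp [Cent3.swV, E_apply]
  obtain ⟨B, hB⟩ := stab_range _ hsw
  have hhB : h = Cent3.swE * sl3Hom B := by
    rw [← hB, ← mul_assoc, Cent3.swE_sq, one_mul]
  set A : SL(3, K) := Cent3.cofHom B * B with hA
  have hsq : h * h = sl3Hom A := by
    rw [hhB, hA, map_mul, ← Cent3.sw_conj]
    group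
  have hdet : (A.1 - 1).det = 0 := by
    have h3 : A.1 - 1 = cof B.1 * (B.1 - B.1ᵀ) := by
      have h4 : A.1 = cof B.1 * B.1 := rfl
      rw [h4, mul_sub, cof_mul_transpose]
    rw [h3, Matrix.det_mul, det_skew, mul_zero]
  obtain ⟨a, ha0, ha⟩ := Matrix.exists_mulVec_eq_zero_iff.2 hdet
  have hAa : A.1 *ᵥ a = a := by
    rw [Matrix.sub_mulVec, Matrix.one_mulVec, sub_eq_zero] at ha
    exact ha
  set w : V K := ![0, a 0, a 1, a 2, 0, 0, 0, 0] with hw
  have hfix : ((sl3Hom A : Aut8 K) : V K ≃ₗ[K] V K) w = w := by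
    rw [sl3Hom_apply]
    have e0 := congrFun hAa 0
    have e1 := congrFun hAa 1
    have e2 := congrFun hAa 2
    simp [Matrix.mulVec, dotProduct, Fin.sum_univ_three] at e0 e1 e2
    ext i
    fin_cases i <;> simp [sv, hw, e0, e1, e2]
  have hbcs : bc ι s = t * (sl3Hom A) ^ k * t⁻¹ := by
    have h3 : y * y = t * (h * h) * t⁻¹ := by rw [hh]; group
    rw [hs, map_pow, map_mul, ← hy, h3, conj_pow, hsq]
  have hfixs : ((bc ι s : Aut8 K) : V K ≃ₗ[K] V K) ((t : V K ≃ₗ[K] V K) w) = (t : V K ≃ₗ[K] V K) w := by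
    rw [hbcs]
    change (t : V K ≃ₗ[K] V K) (((sl3Hom A ^ k : Aut8 K) : V K ≃ₗ[K] V K)
      (((t⁻¹ : Aut8 K) : V K ≃ₗ[K] V K) ((t : V K ≃ₗ[K] V K) w))) = _
    rw [htinv, pow_fix hfix]
  obtain ⟨α, β, hαβ⟩ := fix_descend s c hC _ hfixs
  have hmc : mv ι c = (t : V K ≃ₗ[K] V K) (E 0) + ρ • one8 := by
    rw [ht, he]
    abel
  have hww : w = α • one8 + β • (E 0 + ρ • one8) := by
    rw [hmc] at hαβ
    have h3 := congrArg (fun x => ((t⁻¹ : Aut8 K) : V K ≃ₗ[K] V K) x) hαβ
    simp only [htinv, map_add, map_smul, aut_one] at h3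
    exact h3
  apply ha0
  have k0 := congrFun hww 1
  have k1 := congrFun hww 2
  have k2 := congrFun hww 3
  simp only [Pi.add_apply, Pi.smul_apply, smul_eq_mul, E_apply] at k0 k1 k2
  simp [hw, one8] at k0 k1 k2
  ext i
  fin_cases i
  · exact k0
  · exact k1
  · exact k2

end swap

section main

lemma bf8_smul_left (c : F) (x y : V F) : bf8 (c • x) y = c * bf8 x y := by
  rw [bf8_comm, bf8_smul, bf8_comm]

lemma bf8_add_left (x y z : V F) : bf8 (x + y) z = bf8 x z + bf8 y z := by
  rw [bf8_comm, bf8_add, bf8_comm z x, bf8_comm z y]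

lemma bf8_one_right (x : V F) : bf8 x one8 = tr8 x := by
  rw [bf8_comm, bf8_one]

variable [Fintype F] {p : ℕ} [hp : Fact p.Prime] [CharP F p] {n : ℕ}

/-- The decomposition of the order. -/
lemma order_decomp (g : Aut8 F) : ∃ k m : ℕ, (g ^ p ^ k) ^ m = 1 ∧ (m : F) ≠ 0 := by
  have h0 : orderOf g ≠ 0 := (orderOf_pos g).ne'
  obtain ⟨k, m, h1, h2⟩ := Nat.exists_eq_pow_mul_and_not_dvd h0 p hp.out.ne_one
  refine ⟨k, m, ?_, ?_⟩
  · rw [← pow_mul, ← h2, pow_orderOf_eq_one]
  · rw [Ne, CharP.cast_eq_zero_iff F p]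
    exact h1

/-- A nontrivial `p`-group fixes a nonzero vector. -/
lemma exists_gfix (g : Aut8 F) (k : ℕ) {x : V F} (hx0 : x ≠ 0) (hx : ((g ^ p ^ k : Aut8 F) : V F ≃ₗ[F] V F) x = x) :
    ∃ x' : V F, x' ≠ 0 ∧ (g : V F ≃ₗ[F] V F) x' = x' ∧ (tr8 x = 0 → tr8 x' = 0) := by
  classical
  set T := gl g - 1 with hT
  have hex : ∃ j, (T ^ j) x = 0 := by
    refine ⟨p ^ k, ?_⟩
    rw [hT, T_pow, LinearMap.sub_apply]
    simp only [gl_apply, Module.End.one_apply]
    rw [hx, sub_self]
  set j := Nat.find hex with hj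
  have hj0 : j ≠ 0 := by
    intro h0
    have := Nat.find_spec hex
    rw [← hj, h0] at this
    exact hx0 (by simpa using this)
  obtain ⟨j', hj'⟩ := Nat.exists_eq_succ_of_ne_zero hj0
  have hne : (T ^ j') x ≠ 0 := Nat.find_min hex (by omega)
  have hzero : T ((T ^ j') x) = 0 := by
    have := Nat.find_spec hex
    rw [← hj, hj', Nat.succ_eq_add_one, pow_succ'] at this
    exact this
  refine ⟨(T ^ j') x, hne, ?_, ?_⟩
  · simpa [hT, sub_eq_zero] using hzero
  · intro h0
    have key : ∀ i, tr8 ((T ^ i) x) = 0 := by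
      intro i
      cases i with
      | zero => simpa using h0
      | succ i =>
        rw [pow_succ']
        exact tr_T g _
    exact key j'

/-- The theorem in odd characteristic. -/
theorem bound_odd (hF : Fintype.card F = p ^ n) (hp2 : p ≠ 2) (hdet : ∀ g : Aut8 F, LinearMap.det (gl g) = 1)
    (g : Aut8 F) :
    g ^ ((p ^ n) ^ 2 + p ^ n + 1) = 1 ∨ g ^ ((p ^ n) ^ 2 - p ^ n + 1) = 1 ∨ g ^ ((p ^ n) ^ 2 - 1) = 1 ∨
      g ^ (p * (p ^ n - 1)) = 1 ∨ g ^ (p * (p ^ n + 1)) = 1 ∨ ((p = 3 ∨ p = 5) ∧ g ^ (p ^ 2) = 1) := by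
  have h2 : (2 : F) ≠ 0 := by
    intro h
    have h1 : ((2 : ℕ) : F) = 0 := by exact_mod_cast h
    rw [CharP.cast_eq_zero_iff F p] at h1
    exact hp2 ((Nat.prime_dvd_prime_iff_eq hp.out Nat.prime_two).1 h1)
  obtain ⟨k, m, hm, hm0⟩ := order_decomp (p := p) g
  set s := g ^ p ^ k with hs
  by_cases hs1 : s = 1
  · have h7 := T_7 (p := p) h2 g k hs1
    have hlarge : ∀ j, 7 ≤ p ^ j → g ^ p ^ j = 1 := by
      intro j hj
      apply T_zero
      obtain ⟨i, hi⟩ := Nat.exists_eq_add_of_le hj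
      rw [hi, pow_add, h7, zero_mul]
    by_cases h3 : p = 3
    · exact Or.inr (Or.inr (Or.inr (Or.inr (Or.inr ⟨Or.inl h3, hlarge 2 (by rw [h3]; norm_num)⟩))))
    by_cases h5 : p = 5
    · exact Or.inr (Or.inr (Or.inr (Or.inr (Or.inr ⟨Or.inr h5, hlarge 2 (by rw [h5]; norm_num)⟩))))
    have h7p : 7 ≤ p := by
      have h4 : p ≠ 4 := by
        rintro rfl
        exact absurd hp.out (by norm_num)
      have h6 : p ≠ 6 := by
        rintro rfl
        exact absurd hp.out (by norm_num)
      have h1 := hp.out.two_le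
      omega
    have hgp : g ^ p = 1 := by
      have := hlarge 1 (by simpa using h7p)
      simpa using this
    refine Or.inr (Or.inr (Or.inr (Or.inr (Or.inl ?_))))
    rw [pow_mul, hgp, one_pow]
  · obtain ⟨x, hx0, hsx, htx⟩ := exists_fixed h2 s (hdet s)
    obtain ⟨x', hx'0, hgx', htx'⟩ := exists_gfix (p := p) g k hx0 hsx
    have htx'' := htx' htx
    have hsx' : (s : V F ≃ₗ[F] V F) x' = x' := pow_fix hgx' _
    have hcomm : g * s = s * g := by
      rw [hs, ← pow_succ', pow_succ]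
    have hLM := fun (z : V F) (hz : z ∈ Idem F) (hsz : (s : V F ≃ₗ[F] V F) z = z)
      (hw : ∀ α β : F, x' ≠ α • z + β • one8) => lemmaM hF g s hcomm m hm hm0 hs1 z hz hsz x' hsx' hw
    by_cases hν : nm8 x' = 0
    · obtain ⟨y, hsy, hxy⟩ := fix_nondeg hm hm0 hsx' hx'0
      set τ := tr8 y / 2 with hτ
      set y₀ : V F := y - τ • one8 with hy₀
      have hsy₀ : (s : V F ≃ₗ[F] V F) y₀ = y₀ := by
        rw [hy₀, map_sub, map_smul, hsy, aut_one]
      have hty₀ : tr8 y₀ = 0 := by
        rw [hy₀, tr8_sub, tr8_smul, tr8_one, hτ]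
        field_simp
        ring
      have hbf₁ : bf8 x' one8 = 0 := by rw [bf8_one_right, htx'']
      have hbf₂ : bf8 x' x' = 0 := by rw [bf8_self, hν, mul_zero]
      set κ := bf8 x' y₀ with hκ
      have hκ0 : κ ≠ 0 := by
        have : κ = bf8 x' y := by
          have e : y = y₀ + τ • one8 := by rw [hy₀]; abel
          rw [e, bf8_add, bf8_smul, hbf₁, mul_zero, add_zero]
        rw [this]
        exact hxy
      set β := -(1 / 4 + nm8 y₀) / κ with hβ
      set u : V F := β • x' + y₀ with hu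
      set z : V F := (1 / 2 : F) • one8 + u with hz
      have htu : tr8 u = 0 := by
        rw [hu, tr8_add, tr8_smul, htx'', hty₀]
        ring
      have hnu : nm8 u = nm8 y₀ + β * κ := by
        rw [hu, nm8_add, nm8_smul, hν, bf8_smul_left]
        ring
      have htz : tr8 z = 1 := by
        rw [hz, tr8_add, tr8_smul, tr8_one, htu]
        field_simp
        ring
      have hnz : nm8 z = 0 := by
        have h4 : (4 : F) ≠ 0 := by
          have : (4 : F) = 2 * 2 := by norm_num
          rw [this]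
          exact mul_ne_zero h2 h2
        rw [hz, nm8_add, nm8_smul, nm8_one, hnu, bf8_smul_left, bf8_one, htu, hβ]
        field_simp
        ring
      have hsz : (s : V F ≃ₗ[F] V F) z = z := by
        rw [hz, map_add, map_smul, aut_one, hu, map_add, map_smul, hsx', hsy₀]
      have hbz : bf8 x' z = κ := by
        rw [hz, bf8_add, bf8_smul, hbf₁, hu, bf8_add, bf8_smul, hbf₂]
        ring
      rcases hLM z (idem_of_char htz hnz) hsz (by
          intro α β' heq
          have h3 : bf8 x' (α • z + β' • one8) = 0 := by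
            rw [← heq]
            exact hbf₂
          rw [bf8_add, bf8_smul, bf8_smul, hbz, hbf₁, mul_zero, add_zero] at h3
          have hα : α = 0 := (mul_eq_zero.1 h3).resolve_right hκ0
          rw [hα, zero_smul, zero_add] at heq
          have h4 : tr8 x' = β' * 2 := by
            rw [heq, tr8_smul, tr8_one]
          rw [htx''] at h4
          have hβ' : β' = 0 := (mul_eq_zero.1 h4.symm).resolve_right h2
          rw [hβ', zero_smul] at heq
          exact hx'0 heq) with h | h | h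
      · exact Or.inr (Or.inr (Or.inl h))
      · exact Or.inr (Or.inr (Or.inr (Or.inl h)))
      · exact Or.inr (Or.inr (Or.inr (Or.inr (Or.inl h))))
    · have hd : (tr8 x') ^ 2 - 4 * nm8 x' ≠ 0 := by
        rw [htx'']
        have h4 : (4 : F) ≠ 0 := by
          have : (4 : F) = 2 * 2 := by norm_num
          rw [this]
          exact mul_ne_zero h2 h2
        simp [h4, hν]
      rcases s2_bound hF g x' hgx' hd with h | h | h | h | h | ⟨h5, _⟩
      · exact Or.inl h
      · exact Or.inr (Or.inl h)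
      · exact Or.inr (Or.inr (Or.inl h))
      · exact Or.inr (Or.inr (Or.inr (Or.inl h)))
      · exact Or.inr (Or.inr (Or.inr (Or.inr (Or.inl h))))
      · exact absurd h5 hp2

/-- The determinant is trivial on the automorphism group. -/
theorem det_aut (hq : ∃ a : F, a ≠ 0 ∧ a ≠ 1) (g : Aut8 F) : LinearMap.det (gl g) = 1 := by
  let χ : Aut8 F →* Fˣ := (LinearEquiv.det (R := F) (M := V F)).comp (Aut8 F).subtype
  let f : chevG2.group F →* Fˣ := χ.comp (rhoE (F := F)).toMonoidHom
  have hcomm : commutator (chevG2.group F) = ⊤ :=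
    Cfsg.Agent.S1052.result chevG2 (by simp) (fun _ => hq)
  have hf : f = 1 := by
    ext x
    have hx : x ∈ commutator (chevG2.group F) := by rw [hcomm]; trivial
    have h1 : commutator (chevG2.group F) ≤ f.ker := by
      rw [commutator_def, Subgroup.commutator_le]
      intro a _ b _
      rw [MonoidHom.mem_ker, map_commutatorElement, commutatorElement_eq_one_iff_commute.2 (Commute.all _ _)]
    have h2 := h1 hx
    rw [MonoidHom.mem_ker] at h2
    rw [h2]
    rfl
  obtain ⟨x, rfl⟩ := (rhoE (F := F)).surjective g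
  have h1 := congrArg (fun φ : chevG2.group F →* Fˣ => ((φ x : Fˣ) : F)) hf
  simpa [f, χ, gl] using h1

/-- The exclusion of swaps. -/
theorem no_swap (h2F : (2 : F) = 0) (g s : Aut8 F) (k : ℕ) (hs : s = (g * g) ^ k) (c : V F) (htr : tr8 c = 1)
    (hgc : (g : V F ≃ₗ[F] V F) c = c + one8)
    (hC : ∀ w : V F, (s : V F ≃ₗ[F] V F) w = w → ∃ α β : F, w = α • one8 + β • c) : False := by
  classical
  set m := nm8 c with hm
  by_cases h : ∃ r : F, r ^ 2 - r + m = 0
  · obtain ⟨r, hr⟩ := h
    exact no_swap_K (K := F) h2F g s k hs c htr hgc hC r (by simpa using hr)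
  · push Not at h
    let f : F[X] := Polynomial.X ^ 2 - Polynomial.X + Polynomial.C m
    have hfm : f.Monic := by
      simp only [f]
      monicity!
    have hfd : f.natDegree = 2 := by
      simp only [f]
      compute_degree!
    have hfr : f.roots = 0 := by
      rw [Multiset.eq_zero_iff_forall_notMem]
      intro a ha
      have := (Polynomial.mem_roots hfm.ne_zero).1 ha
      simp only [f, Polynomial.IsRoot.def, Polynomial.eval_add, Polynomial.eval_sub, Polynomial.eval_pow,
        Polynomial.eval_X, Polynomial.eval_C] at this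
      exact h a this
    have hirr : Irreducible f := by
      rw [hfm.irreducible_iff_roots_eq_zero_of_degree_le_three (by omega) (by omega)]
      exact hfr
    haveI : Fact (Irreducible f) := ⟨hirr⟩
    let K := AdjoinRoot f
    haveI : Module.Finite F K := (AdjoinRoot.powerBasis hfm.ne_zero).finite
    haveI : Finite K := Module.finite_of_finite F
    letI : Fintype K := Fintype.ofFinite K
    let r : K := AdjoinRoot.root f
    have hr0 : r ^ 2 - r + algebraMap F K m = 0 := by
      have h4 : Polynomial.aeval r f = 0 := (AdjoinRoot.aeval_eq f).trans (by simp [AdjoinRoot.mk_self])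
      simpa [f] using h4
    have h2K : (2 : K) = 0 := by
      have := congrArg (algebraMap F K) h2F
      rw [map_ofNat, map_zero] at this
      exact this
    exact no_swap_K h2K g s k hs c htr hgc hC r hr0

/-- The theorem in characteristic two. -/
theorem bound_even (hF : Fintype.card F = 2 ^ n) (hp2 : p = 2) (g : Aut8 F) :
    g ^ ((2 ^ n) ^ 2 + 2 ^ n + 1) = 1 ∨ g ^ ((2 ^ n) ^ 2 - 2 ^ n + 1) = 1 ∨ g ^ ((2 ^ n) ^ 2 - 1) = 1 ∨
      g ^ (2 * (2 ^ n - 1)) = 1 ∨ g ^ (2 * (2 ^ n + 1)) = 1 ∨ g ^ 12 = 1 ∨ g ^ 8 = 1 := by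
  subst hp2
  have h2F : (2 : F) = 0 := by
    have := CharP.cast_eq_zero F 2
    exact_mod_cast this
  obtain ⟨k, m, hm, hm0⟩ := order_decomp (p := 2) g
  set s := g ^ 2 ^ k with hs
  by_cases hs1 : s = 1
  · refine Or.inr (Or.inr (Or.inr (Or.inr (Or.inr (Or.inr ?_)))))
    have := T_zero (p := 2) g 3 (by
      have h8 := T_8 (p := 2) g k hs1
      simpa using h8)
    simpa using this
  have hcomm : g * s = s * g := by
    rw [hs, ← pow_succ', pow_succ]
  have h40 : (4 : F) = 0 := by
    have : (4 : F) = 2 * 2 := by norm_num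
    rw [this, h2F, mul_zero]
  obtain ⟨c, hsc, htc⟩ := fix_tr hm hm0
  have hLM := fun (z : V F) (hz : z ∈ Idem F) (hsz : (s : V F ≃ₗ[F] V F) z = z) (w : V F)
      (hsw : (s : V F ≃ₗ[F] V F) w = w)
      (hw : ∀ α β : F, w ≠ α • z + β • one8) => lemmaM hF g s hcomm m hm hm0 hs1 z hz hsz w hsw hw
  have htr1 : tr8 (one8 : V F) = 0 := by rw [tr8_one, h2F]
  have hbf11 : bf8 (one8 : V F) one8 = 0 := by rw [bf8_one, htr1]
  have hbfcc : bf8 c c = 0 := by rw [bf8_self, h2F, zero_mul]
  have hbf1c : bf8 c one8 = 1 := by rw [bf8_one_right, htc]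
  have hadd : ∀ a : F, a + a = 0 := by
    intro a
    linear_combination a * h2F
  by_cases hC : ∀ w : V F, (s : V F ≃ₗ[F] V F) w = w → ∃ α β : F, w = α • one8 + β • c
  · -- the fixed algebra is two-dimensional
    have hsgc : (s : V F ≃ₗ[F] V F) ((g : V F ≃ₗ[F] V F) c) = (g : V F ≃ₗ[F] V F) c := by
      have := congrArg (fun t : Aut8 F => (t : V F ≃ₗ[F] V F) c) hcomm
      simp only [Subgroup.coe_mul, LinearEquiv.mul_apply, hsc] at this
      exact this.symm
    obtain ⟨α, β, hαβ⟩ := hC _ hsgc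
    have hβ : β = 1 := by
      have h1 := (aut_tr_nm g c).1
      rw [hαβ, tr8_add, tr8_smul, tr8_smul, htr1, htc] at h1
      linear_combination h1
    rw [hβ, one_smul] at hαβ
    have hα : α * (α + 1) = 0 := by
      have h1 := (aut_tr_nm g c).2
      rw [hαβ, nm8_add, nm8_smul, nm8_one, bf8_smul_left, bf8_one, htc] at h1
      linear_combination h1
    rcases mul_eq_zero.1 hα with h0 | h0
    · -- `g` fixes `c`
      rw [h0, zero_smul, zero_add] at hαβ
      have hd : (tr8 c) ^ 2 - 4 * nm8 c ≠ 0 := by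
        rw [htc, h40]
        simp
      rcases s2_bound hF g c hαβ hd with h | h | h | h | h | ⟨_, h⟩
      · exact Or.inl h
      · exact Or.inr (Or.inl h)
      · exact Or.inr (Or.inr (Or.inl h))
      · exact Or.inr (Or.inr (Or.inr (Or.inl h)))
      · exact Or.inr (Or.inr (Or.inr (Or.inr (Or.inl h))))
      · exact Or.inr (Or.inr (Or.inr (Or.inr (Or.inr (Or.inl h)))))
    · -- `g` moves `c`
      exfalso
      have hα1 : α = 1 := by linear_combination h0 - hadd 1 + (-1 : F) * h2F + (1 : F) * h2F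
      rw [hα1, one_smul] at hαβ
      have hgc : (g : V F ≃ₗ[F] V F) c = c + one8 := by rw [hαβ]; abel
      cases k with
      | zero =>
        have hk : s = g := by rw [hs]; simp
        rw [hk, hgc] at hsc
        have : (one8 : V F) = 0 := by simpa using hsc
        exact one8_ne this
      | succ k =>
        refine no_swap h2F g s (2 ^ k) ?_ c htc hgc hC
        rw [hs, pow_succ', pow_mul, pow_two]
  · -- the fixed algebra is larger
    push Not at hC
    obtain ⟨w, hsw, hw⟩ := hC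
    let P : V F → V F := fun x => x + bf8 x c • one8 + bf8 x one8 • c
    have hP1 : ∀ x, bf8 (P x) one8 = 0 := by
      intro x
      simp only [P, bf8_add_left, bf8_smul_left, hbf11, hbf1c]
      linear_combination hadd (bf8 x one8)
    have hPc : ∀ x, bf8 (P x) c = 0 := by
      intro x
      simp only [P, bf8_add_left, bf8_smul_left, hbfcc, bf8_one]
      rw [htc]
      linear_combination hadd (bf8 x c)
    have hPs : ∀ x, (s : V F ≃ₗ[F] V F) x = x → (s : V F ≃ₗ[F] V F) (P x) = P x := by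
      intro x hx
      simp only [P, map_add, map_smul, hx, hsc, aut_one]
    have hPb : ∀ x y, bf8 x one8 = 0 → bf8 x c = 0 → bf8 x (P y) = bf8 x y := by
      intro x y h1 h2
      simp only [P, bf8_add, bf8_smul, h1, h2]
      ring
    have hex : ∃ v : V F, (s : V F ≃ₗ[F] V F) v = v ∧ bf8 v one8 = 0 ∧ bf8 v c = 0 ∧ nm8 v ≠ 0 := by
      have hv0 : P w ≠ 0 := by
        intro h0
        apply hw (-(bf8 w c)) (-(bf8 w one8))
        have h1 : w + bf8 w c • one8 + bf8 w one8 • c = 0 := h0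
        rw [neg_smul, neg_smul]
        rw [← sub_eq_zero]
        rw [← h1]
        abel
      by_cases h1 : nm8 (P w) = 0
      · obtain ⟨y, hsy, hy⟩ := fix_nondeg hm hm0 (hPs w hsw) hv0
        by_cases h3 : nm8 (P y) = 0
        · refine ⟨P w + P y, ?_, ?_, ?_, ?_⟩
          · rw [map_add, hPs w hsw, hPs y hsy]
          · rw [bf8_add_left, hP1, hP1, add_zero]
          · rw [bf8_add_left, hPc, hPc, add_zero]
          · rw [nm8_add, h1, h3, hPb _ _ (hP1 w) (hPc w), zero_add, zero_add]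
            exact hy
        · exact ⟨P y, hPs y hsy, hP1 y, hPc y, h3⟩
      · exact ⟨P w, hPs w hsw, hP1 w, hPc w, h1⟩
    obtain ⟨v, hsv, hv1, hvc, hnv⟩ := hex
    obtain ⟨γ, hγ⟩ : ∃ γ : F, nm8 c / nm8 v = γ * γ :=
      FiniteField.isSquare_of_char_two (by exact ringChar.eq F 2 ▸ rfl) _
    set z : V F := c + γ • v with hz
    have htv : tr8 v = 0 := by rw [← bf8_one_right, hv1]
    have htz : tr8 z = 1 := by
      rw [hz, tr8_add, tr8_smul, htv, htc]
      ring
    have hnz : nm8 z = 0 := by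
      rw [hz, nm8_add, nm8_smul, bf8_smul, bf8_comm c v, hvc]
      have : γ ^ 2 * nm8 v = nm8 c := by
        rw [pow_two, ← hγ]
        field_simp
      rw [this, mul_zero, add_zero]
      exact hadd _
    have hsz : (s : V F ≃ₗ[F] V F) z = z := by
      rw [hz, map_add, map_smul, hsc, hsv]
    rcases hLM z (idem_of_char htz hnz) hsz v hsv (by
        intro α β heq
        have h1 := congrArg tr8 heq
        rw [tr8_add, tr8_smul, tr8_smul, htv, htz, htr1, mul_zero, add_zero, mul_one] at h1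
        rw [← h1, zero_smul, zero_add] at heq
        have h3 := hvc
        rw [heq, bf8_smul_left, bf8_one, htc, mul_one] at h3
        rw [h3, zero_smul] at heq
        apply hnv
        rw [heq]
        simp [nm8]) with h | h | h
    · exact Or.inr (Or.inr (Or.inl h))
    · exact Or.inr (Or.inr (Or.inr (Or.inl h)))
    · exact Or.inr (Or.inr (Or.inr (Or.inr (Or.inl h))))

end main

end Cfsg.Agent.Lib.G2Oct.Cls
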