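/-
Elements of the prescribed orders in the group of the `phiL A B`.
-/
import Cfsg.Agent.Lib.G2Oct.Cls

set_option autoImplicit false
set_option linter.all false

namespace Cfsg.Agent.Lib.G2Oct.Exist

open Cfsg.Lie Matrix Module
open Cfsg.Agent.Lib.G2Oct.Oct Cfsg.Agent.Lib.G2Oct.Phi
open Cfsg.Agent.Lib.G2Oct.Aut8 Cfsg.Agent.Lib.G2Oct.Stab Cfsg.Agent.Lib.G2Oct.Count
  Cfsg.Agent.Lib.G2Oct.Invol Cfsg.Agent.Lib.G2Oct.S2 Cfsg.Agent.Lib.G2Oct.S3 Cfsg.Agent.Lib.G2Oct.BaseCh
open scoped MatrixGroups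

variable {F : Type*} [Field F]

/-- The element of the automorphism group of the double. -/
def phiA (A B : GL (Fin 2) F) (h : (A : M2 F).det = (B : M2 F).det) : AutO F := ⟨phiL A B, phiL_mem A B h⟩

/-- The element of the automorphism group of Zorn's algebra. -/
noncomputable def phi8 (A B : GL (Fin 2) F) (h : (A : M2 F).det = (B : M2 F).det) : Aut8 F :=
  autDouble.symm (phiA A B h)

lemma orderOf_phi8 (A B : GL (Fin 2) F) (h : (A : M2 F).det = (B : M2 F).det) :
    orderOf (phi8 A B h) = orderOf (phiL A B) := by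
  rw [phi8, MulEquiv.orderOf_eq, phiA, Subgroup.orderOf_mk]

lemma order_eq {G : Type*} [Group G] (x : G) (N : ℕ) (h1 : x ^ N = 1) (h2 : ∀ k, x ^ k = 1 → N ∣ k) : orderOf x = N :=
  Nat.dvd_antisymm (orderOf_dvd_of_pow_eq_one h1) (h2 _ (pow_orderOf_eq_one x))

/-- An element of the Chevalley group of the order of a given automorphism. -/
lemma exists_chev [Fintype F] (g : Aut8 F) : ∃ x : chevG2.group F, orderOf x = orderOf g :=
  ⟨rhoE.symm g, MulEquiv.orderOf_eq _ _⟩

/-- The unipotent matrix. -/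
noncomputable def U2 : GL (Fin 2) F :=
  Matrix.GeneralLinearGroup.mkOfDetNeZero !![1, 1; 0, 1] (by simp [Matrix.det_fin_two])

lemma U2_pow (k : ℕ) : ((U2 ^ k : GL (Fin 2) F) : M2 F) = !![1, (k : F); 0, 1] := by
  induction k with
  | zero =>
    ext i j
    fin_cases i <;> fin_cases j <;> simp
  | succ k ih =>
    rw [pow_succ, Units.val_mul, ih]
    have : ((U2 : GL (Fin 2) F) : M2 F) = !![1, 1; 0, 1] := rfl
    rw [this]
    ext i j
    fin_cases i <;> fin_cases j <;> simp [Matrix.mul_apply, Fin.sum_univ_two]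
    ring

lemma U2_det : ((U2 : GL (Fin 2) F) : M2 F).det = 1 := by
  have : ((U2 : GL (Fin 2) F) : M2 F) = !![1, 1; 0, 1] := rfl
  rw [this]
  simp [Matrix.det_fin_two]

section orders

variable {p : ℕ} [hp : Fact p.Prime] [CharP F p]

/-- The element `phi(U, B)`. -/
theorem order_pN (B : GL (Fin 2) F) (hB : (B : M2 F).det = 1) (N : ℕ) (hN : orderOf B = N) (hc : Nat.Coprime p N) :
    orderOf (phiL (U2 : GL (Fin 2) F) B) = p * N := by
  apply order_eq
  · rw [phiL_pow]
    apply phiL_scalar _ _ 1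
    · rw [U2_pow]
      have : ((p * N : ℕ) : F) = 0 := by
        rw [CharP.cast_eq_zero_iff F p]
        exact dvd_mul_right _ _
      rw [this]
      ext i j
      fin_cases i <;> fin_cases j <;> simp
    · have : B ^ (p * N) = 1 := by
        rw [mul_comm, pow_mul, ← hN, pow_orderOf_eq_one, one_pow]
      rw [this]
      simp
  · intro k hk
    rw [phiL_pow] at hk
    obtain ⟨c, h1, h2⟩ := phiL_eq_one hk
    rw [U2_pow] at h1
    have e00 := congrFun (congrFun h1 0) 0
    have e01 := congrFun (congrFun h1 0) 1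
    simp at e00 e01
    have hpk : p ∣ k := (CharP.cast_eq_zero_iff F p k).1 e01
    have hBk : B ^ k = 1 := by
      apply Units.ext
      rw [h2, ← e00]
      simp
    have hNk : N ∣ k := by
      rw [← hN]
      exact orderOf_dvd_of_pow_eq_one hBk
    exact hc.mul_dvd_of_dvd_of_dvd hpk hNk

variable [Fintype F] {n : ℕ}

/-- The diagonal matrix. -/
noncomputable def dg2 (a b : F) (ha : a ≠ 0) (hb : b ≠ 0) : GL (Fin 2) F :=
  Matrix.GeneralLinearGroup.mkOfDetNeZero (diagonal ![a, b]) (by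
    simp [Matrix.det_fin_two, ha, hb])

omit [Fintype F] [CharP F p] in
lemma dg2_pow (a b : F) (ha : a ≠ 0) (hb : b ≠ 0) (k : ℕ) :
    ((dg2 a b ha hb ^ k : GL (Fin 2) F) : M2 F) = diagonal ![a ^ k, b ^ k] := by
  rw [Units.val_pow_eq_pow_val]
  change (diagonal ![a, b]) ^ k = _
  rw [Matrix.diagonal_pow]
  congr 1
  ext i
  fin_cases i <;> simp

omit [Fintype F] [CharP F p] in
lemma dg2_det (a b : F) (ha : a ≠ 0) (hb : b ≠ 0) : ((dg2 a b ha hb : GL (Fin 2) F) : M2 F).det = a * b := by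
  change (diagonal ![a, b]).det = _
  simp [Matrix.det_fin_two]

/-- Order `p (q - 1)`. -/
theorem exists_minus (hF : Fintype.card F = p ^ n) (hn : 1 ≤ n) : ∃ g : Aut8 F, orderOf g = p * (p ^ n - 1) := by
  obtain ⟨β, hβ⟩ := IsCyclic.exists_generator (α := Fˣ)
  have hord : orderOf β = p ^ n - 1 := by
    rw [orderOf_eq_card_of_forall_mem_zpowers hβ, Nat.card_units, Nat.card_eq_fintype_card, hF]
  set b : F := (β : F) with hb
  have hb0 : b ≠ 0 := β.ne_zero
  have hbi : b⁻¹ ≠ 0 := inv_ne_zero hb0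
  set B := dg2 b b⁻¹ hb0 hbi with hB
  have hBdet : (B : M2 F).det = 1 := by
    rw [hB, dg2_det, mul_inv_cancel₀ hb0]
  have hBord : orderOf B = p ^ n - 1 := by
    apply order_eq
    · apply Units.ext
      rw [hB, dg2_pow]
      have h1 : b ^ (p ^ n - 1) = 1 := by
        rw [← hF]
        exact FiniteField.pow_card_sub_one_eq_one b hb0
      rw [inv_pow, h1, inv_one]
      ext i j
      fin_cases i <;> fin_cases j <;> simp
    · intro k hk
      have h1 := congrArg (fun M : GL (Fin 2) F => (M : M2 F) 0 0) hk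
      simp only [hB] at h1
      rw [dg2_pow] at h1
      simp at h1
      rw [← hord, orderOf_dvd_iff_pow_eq_one]
      apply Units.ext
      simpa using h1
  have hc : Nat.Coprime p (p ^ n - 1) := by
    have h1 : 1 ≤ p ^ n := Nat.one_le_pow _ _ hp.out.pos
    have h2 : p ∣ p ^ n := dvd_pow_self p (by omega)
    rw [Nat.coprime_comm]
    apply Nat.Coprime.coprime_dvd_right h2
    have h3 : (p ^ n - 1).Coprime (p ^ n - 1 + 1) := by simp
    rwa [Nat.sub_add_cancel h1] at h3
  refine ⟨phi8 (U2 : GL (Fin 2) F) B (by rw [U2_det, hBdet]), ?_⟩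
  rw [orderOf_phi8, order_pN B hBdet _ hBord hc]

section quad

variable {L : Type*} [Field L] [Algebra F L] [Finite L] (hL : finrank F L = 2)

/-- Left multiplication on the quadratic extension. -/
noncomputable def lm2 : L →ₐ[F] M2 F := Algebra.leftMulMatrix (Module.finBasisOfFinrankEq F L hL)

lemma lm2_inj : Function.Injective (lm2 hL) := Algebra.leftMulMatrix_injective _

lemma det_lm2 (x : L) : (lm2 hL x).det = Algebra.norm F x :=
  (Algebra.norm_eq_matrix_det (Module.finBasisOfFinrankEq F L hL) x).symm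

/-- Units of the quadratic extension. -/
noncomputable def lmU : Lˣ →* GL (Fin 2) F := Units.map (lm2 hL : L →* M2 F)

lemma lmU_val (x : Lˣ) : ((lmU hL x : GL (Fin 2) F) : M2 F) = lm2 hL (x : L) := rfl

lemma lmU_inj : Function.Injective (lmU hL) := by
  intro a b h
  apply Units.ext
  apply lm2_inj hL
  exact congrArg Units.val h

include hL in
lemma norm_eq2 [Fintype F] (x : L) : algebraMap F L (Algebra.norm F x) = x ^ (Fintype.card F + 1) := by
  rw [FiniteField.algebraMap_norm_eq_pow_sum, hL, Nat.card_eq_fintype_card]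
  simp [Finset.sum_range_succ]
  ring_nf

variable {p : ℕ} [hp : Fact p.Prime] [CharP F p] [Fintype F] {n : ℕ}

include hL in
/-- Order `p (q + 1)`. -/
theorem exists_plus_of_L (hF : Fintype.card F = p ^ n) (hn : 1 ≤ n) : ∃ g : Aut8 F, orderOf g = p * (p ^ n + 1) := by
  classical
  have : Fintype L := Fintype.ofFinite L
  obtain ⟨z, hz⟩ := IsCyclic.exists_generator (α := Lˣ)
  have hcard : Fintype.card L = (p ^ n) ^ 2 := by
    rw [Module.card_eq_pow_finrank (K := F) (V := L), hL, hF]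
  have hq2 : 2 ≤ p ^ n := by
    calc 2 ≤ p := hp.out.two_le
      _ = p ^ 1 := (pow_one p).symm
      _ ≤ p ^ n := Nat.pow_le_pow_right hp.out.pos hn
  have hfac : (p ^ n) ^ 2 - 1 = (p ^ n - 1) * (p ^ n + 1) := by
    obtain ⟨t, ht⟩ : ∃ t, p ^ n = t + 1 := ⟨p ^ n - 1, by omega⟩
    rw [ht]
    simp only [Nat.add_sub_cancel]
    have : (t + 1) ^ 2 = t * (t + 1 + 1) + 1 := by ring
    omega
  have hord : orderOf z = (p ^ n - 1) * (p ^ n + 1) := by
    rw [orderOf_eq_card_of_forall_mem_zpowers hz, Nat.card_units, Nat.card_eq_fintype_card, hcard, hfac]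
  set w := z ^ (p ^ n - 1) with hw
  have hordw : orderOf w = p ^ n + 1 := by
    rw [hw, orderOf_pow_of_dvd (by omega) (Dvd.intro _ hord.symm), hord]
    exact Nat.mul_div_cancel_left _ (by omega)
  set B := lmU hL w with hB
  have hBord : orderOf B = p ^ n + 1 := by
    rw [hB, orderOf_injective _ (lmU_inj hL), hordw]
  have hBdet : (B : M2 F).det = 1 := by
    rw [hB, lmU_val, det_lm2]
    apply (algebraMap F L).injective
    rw [norm_eq2 hL, hF, map_one]
    have := pow_orderOf_eq_one w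
    rw [hordw] at this
    have h2 := congrArg Units.val this
    simpa using h2
  have hc : Nat.Coprime p (p ^ n + 1) := by
    have h2 : p ∣ p ^ n := dvd_pow_self p (by omega)
    rw [Nat.coprime_comm]
    apply Nat.Coprime.coprime_dvd_right h2
    simp
  refine ⟨phi8 (U2 : GL (Fin 2) F) B (by rw [U2_det, hBdet]), ?_⟩
  rw [orderOf_phi8, order_pN B hBdet _ hBord hc]

include hL in
/-- Order `q² - 1`. -/
theorem exists_sq_of_L (hF : Fintype.card F = p ^ n) (hn : 1 ≤ n) : ∃ g : Aut8 F, orderOf g = (p ^ n) ^ 2 - 1 := by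
  classical
  have : Fintype L := Fintype.ofFinite L
  obtain ⟨z, hz⟩ := IsCyclic.exists_generator (α := Lˣ)
  have hcard : Fintype.card L = (p ^ n) ^ 2 := by
    rw [Module.card_eq_pow_finrank (K := F) (V := L), hL, hF]
  have hord : orderOf z = (p ^ n) ^ 2 - 1 := by
    rw [orderOf_eq_card_of_forall_mem_zpowers hz, Nat.card_units, Nat.card_eq_fintype_card, hcard]
  have hq2 : 2 ≤ p ^ n := by
    calc 2 ≤ p := hp.out.two_le
      _ = p ^ 1 := (pow_one p).symm
      _ ≤ p ^ n := Nat.pow_le_pow_right hp.out.pos hn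
  have hfac : (p ^ n) ^ 2 - 1 = (p ^ n - 1) * (p ^ n + 1) := by
    obtain ⟨t, ht⟩ : ∃ t, p ^ n = t + 1 := ⟨p ^ n - 1, by omega⟩
    rw [ht]
    simp only [Nat.add_sub_cancel]
    have : (t + 1) ^ 2 = t * (t + 1 + 1) + 1 := by ring
    omega
  set M := lmU hL z with hM
  have hMord : orderOf M = (p ^ n) ^ 2 - 1 := by
    rw [hM, orderOf_injective _ (lmU_inj hL), hord]
  set δ := (M : M2 F).det with hδ
  have hδ0 : δ ≠ 0 := det_unit_ne M
  set B := dg2 δ 1 hδ0 one_ne_zero with hB
  have hdet : (M : M2 F).det = (B : M2 F).det := by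
    rw [hB, dg2_det, mul_one]
  refine ⟨phi8 M B hdet, ?_⟩
  rw [orderOf_phi8]
  apply order_eq
  · rw [phiL_pow]
    apply phiL_scalar _ _ 1
    · rw [← hMord, pow_orderOf_eq_one]
      simp
    · rw [hB, dg2_pow]
      have h1 : δ ^ ((p ^ n) ^ 2 - 1) = 1 := by
        rw [hfac, pow_mul, ← hF, FiniteField.pow_card_sub_one_eq_one δ hδ0, one_pow]
      rw [h1, one_pow]
      ext i j
      fin_cases i <;> fin_cases j <;> simp
  · intro k hk
    rw [phiL_pow] at hk
    obtain ⟨c, h1, h2⟩ := phiL_eq_one hk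
    rw [hB, dg2_pow] at h2
    have e := congrFun (congrFun h2 1) 1
    simp at e
    rw [← hMord, orderOf_dvd_iff_pow_eq_one]
    apply Units.ext
    rw [h1, ← e]
    simp

end quad

end orders

end Cfsg.Agent.Lib.G2Oct.Exist
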