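/-
The elements of order `8`, `12` in characteristic two and `p²` in characteristic `3, 5`.
-/
import Cfsg.Agent.Lib.G2Oct.Exist

set_option autoImplicit false
set_option linter.all false

namespace Cfsg.Agent.Lib.G2Oct.ExistSmall

open Cfsg.Lie Matrix Module
open Cfsg.Agent.Lib.G2Oct.Aut8 Cfsg.Agent.Lib.G2Oct.Stab Cfsg.Agent.Lib.G2Oct.Count
  Cfsg.Agent.Lib.G2Oct.BaseCh Cfsg.Agent.Lib.G2Oct.Roots Cfsg.Agent.Lib.G2Oct.Cls
  Cfsg.Agent.Lib.G2Oct.Exist

variable {F K : Type*} [Field F] [Field K]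

set_option maxHeartbeats 4000000 in
lemma yv_mv (ι : F →+* K) (r : Fin 12) (t : F) (v : V F) : yv r (ι t) (mv ι v) = mv ι (yv r t v) := by
  fin_cases r <;> ext i <;> fin_cases i <;> simp [yv]

lemma bc_yE (ι : F →+* K) (r : Fin 12) (t : F) : bc ι (yE r t) = yE r (ι t) := by
  apply bc_eq
  intro v
  rw [yE_apply, yE_apply, yv_mv]

/-- The matrix of a root element. -/
def Nr (r : Fin 12) (t : F) : Matrix (Fin 8) (Fin 8) F := Matrix.of fun i j => yv r t (Pi.single j 1) i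

/-- The matrix of an automorphism. -/
noncomputable def mat : Aut8 F →* Matrix (Fin 8) (Fin 8) F where
  toFun g := LinearMap.toMatrix' (gl g)
  map_one' := by
    rw [gl_one]
    exact LinearMap.toMatrix'_one
  map_mul' a b := by
    rw [gl_mul]
    exact LinearMap.toMatrix'_mul _ _

lemma mat_inj : Function.Injective (mat : Aut8 F →* Matrix (Fin 8) (Fin 8) F) := by
  intro a b h
  exact gl_inj (LinearMap.toMatrix'.injective h)

lemma mat_yE (r : Fin 12) (t : F) : mat (yE r t) = Nr r t := by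
  ext i j
  change LinearMap.toMatrix' (gl (yE r t)) i j = _
  rw [LinearMap.toMatrix'_apply]
  simp only [gl_apply, yE_apply, Nr, Matrix.of_apply]

instance : Fact (Nat.Prime 5) := ⟨by norm_num⟩
instance : Fact (Nat.Prime 3) := ⟨by norm_num⟩

theorem t2 : (Nr 0 (1 : ZMod 2) * Nr 8 1) ^ 8 = 1 := by decide +kernel
theorem t2' : (Nr 0 (1 : ZMod 2) * Nr 8 1) ^ 4 ≠ 1 := by decide +kernel
theorem t3 : (Nr 0 (1 : ZMod 3) * Nr 8 1) ^ 9 = 1 := by decide +kernel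
theorem t3' : (Nr 0 (1 : ZMod 3) * Nr 8 1) ^ 3 ≠ 1 := by decide +kernel
theorem t5 : (Nr 0 (1 : ZMod 5) * Nr 8 1) ^ 25 = 1 := by decide +kernel
theorem t5' : (Nr 0 (1 : ZMod 5) * Nr 8 1) ^ 5 ≠ 1 := by decide +kernel
theorem t12 : (Nr 0 (1 : ZMod 2) * Nr 2 1 * Nr 9 1) ^ 12 = 1 := by decide +kernel
theorem t12' : (Nr 0 (1 : ZMod 2) * Nr 2 1 * Nr 9 1) ^ 6 ≠ 1 := by decide +kernel
theorem t12'' : (Nr 0 (1 : ZMod 2) * Nr 2 1 * Nr 9 1) ^ 4 ≠ 1 := by decide +kernel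

lemma pow_eq_one_iff' {R : Type*} [Field R] (g : Aut8 R) (M : Matrix (Fin 8) (Fin 8) R) (hM : mat g = M) (k : ℕ) :
    g ^ k = 1 ↔ M ^ k = 1 := by
  rw [← hM, ← map_pow]
  constructor
  · intro h
    rw [h, map_one]
  · intro h
    apply mat_inj
    rw [h, map_one]

/-- Transfer from the prime field. -/
lemma exists_order (p : ℕ) [Fact p.Prime] [CharP F p] (g₀ : Aut8 (ZMod p)) : ∃ g : Aut8 F, orderOf g = orderOf g₀ :=
  ⟨bc (ZMod.castHom (dvd_refl p) F) g₀, orderOf_injective _ (bc_inj _) g₀⟩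

lemma mat_two {R : Type*} [Field R] (a b : Fin 12) : mat (yE a (1 : R) * yE b 1) = Nr a 1 * Nr b 1 := by
  rw [map_mul, mat_yE, mat_yE]

lemma mat_three {R : Type*} [Field R] (a b c : Fin 12) :
    mat (yE a (1 : R) * yE b 1 * yE c 1) = Nr a 1 * Nr b 1 * Nr c 1 := by
  rw [map_mul, map_mul, mat_yE, mat_yE, mat_yE]

theorem exists_8 [CharP F 2] : ∃ g : Aut8 F, orderOf g = 8 := by
  haveI : Fact (Nat.Prime 2) := ⟨Nat.prime_two⟩
  refine (exists_order 2 (yE 0 1 * yE 8 1)).imp fun g hg => hg.trans ?_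
  have := orderOf_eq_prime_pow (p := 2) (n := 2) (x := (yE 0 1 * yE 8 (1 : ZMod 2)))
    (by rw [pow_eq_one_iff' _ _ (mat_two 0 8)]; exact t2')
    (by rw [pow_eq_one_iff' _ _ (mat_two 0 8)]; exact t2)
  simpa using this

theorem exists_9 [CharP F 3] : ∃ g : Aut8 F, orderOf g = 3 ^ 2 := by
  refine (exists_order 3 (yE 0 1 * yE 8 1)).imp fun g hg => hg.trans ?_
  exact orderOf_eq_prime_pow (p := 3) (n := 1) (x := (yE 0 1 * yE 8 (1 : ZMod 3)))
    (by rw [pow_eq_one_iff' _ _ (mat_two 0 8)]; simpa using t3')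
    (by rw [pow_eq_one_iff' _ _ (mat_two 0 8)]; exact t3)

theorem exists_25 [CharP F 5] : ∃ g : Aut8 F, orderOf g = 5 ^ 2 := by
  refine (exists_order 5 (yE 0 1 * yE 8 1)).imp fun g hg => hg.trans ?_
  exact orderOf_eq_prime_pow (p := 5) (n := 1) (x := (yE 0 1 * yE 8 (1 : ZMod 5)))
    (by rw [pow_eq_one_iff' _ _ (mat_two 0 8)]; simpa using t5')
    (by rw [pow_eq_one_iff' _ _ (mat_two 0 8)]; exact t5)

theorem exists_12 [CharP F 2] : ∃ g : Aut8 F, orderOf g = 12 := by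
  haveI : Fact (Nat.Prime 2) := ⟨Nat.prime_two⟩
  refine (exists_order 2 (yE 0 1 * yE 2 1 * yE 9 1)).imp fun g hg => hg.trans ?_
  set x := (yE 0 1 * yE 2 1 * yE 9 (1 : ZMod 2)) with hx
  have h1 : x ^ 12 = 1 := by
    rw [pow_eq_one_iff' _ _ (mat_three 0 2 9)]; exact t12
  have h2 : ¬ x ^ 6 = 1 := by
    rw [pow_eq_one_iff' _ _ (mat_three 0 2 9)]; exact t12'
  have h3 : ¬ x ^ 4 = 1 := by
    rw [pow_eq_one_iff' _ _ (mat_three 0 2 9)]; exact t12''
  have h4 := orderOf_dvd_of_pow_eq_one h1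
  have h5 : ¬ orderOf x ∣ 6 := fun h => h2 (orderOf_dvd_iff_pow_eq_one.1 h)
  have h6 : ¬ orderOf x ∣ 4 := fun h => h3 (orderOf_dvd_iff_pow_eq_one.1 h)
  have h7 : orderOf x ≤ 12 := Nat.le_of_dvd (by norm_num) h4
  generalize orderOf x = d at h4 h5 h6 h7 ⊢
  interval_cases d <;> first | rfl | omega

end Cfsg.Agent.Lib.G2Oct.ExistSmall
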