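/-
Descent from the quadratic extension: elements of the unitary group `SU₃(q) ≤ SL₃(q²)` give elements of the
automorphism group over the field with `q` elements.
-/
import Cfsg.Agent.Lib.G2Oct.ExistSmall
import Cfsg.Agent.Lib.Witt.SU3Tori

set_option autoImplicit false
set_option linter.all false

namespace Cfsg.Agent.Lib.G2Oct.Exist2

open Cfsg.Lie Matrix Module
open Cfsg.Agent.Lib.G2Oct.Oct Cfsg.Agent.Lib.G2Oct.Phi Cfsg.Agent.Lib.G2Oct.Main
open Cfsg.Agent.Lib.G2Oct.Aut8 Cfsg.Agent.Lib.G2Oct.Stab Cfsg.Agent.Lib.G2Oct.Count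
  Cfsg.Agent.Lib.G2Oct.Invol Cfsg.Agent.Lib.G2Oct.S2 Cfsg.Agent.Lib.G2Oct.S3 Cfsg.Agent.Lib.G2Oct.BaseCh
  Cfsg.Agent.Lib.G2Oct.Exist Cfsg.Agent.Lib.G2Oct.Cent3
open scoped MatrixGroups

section maps

variable {K : Type*} [Field K] (φ : K →+* K)

lemma cof_map (M : Matrix (Fin 3) (Fin 3) K) : cof (M.map φ) = (cof M).map φ := by
  have h := RingHom.map_adjugate φ M
  simp only [cof]
  have h2 : adjugate (M.map φ) = (adjugate M).map φ := by
    simpa [RingHom.mapMatrix_apply] using h.symm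
  rw [h2]
  rfl

lemma sv_mv (A P : Matrix (Fin 3) (Fin 3) K) (v : V K) :
    sv (A.map φ) (P.map φ) (mv φ v) = mv φ (sv A P v) := by
  ext i
  fin_cases i <;> simp [sv]

/-- The image of an element of `SL₃` under a field homomorphism. -/
def slMap : SL(3, K) →* SL(3, K) := Matrix.SpecialLinearGroup.map φ

lemma slMap_val (A : SL(3, K)) : (slMap φ A).1 = A.1.map φ := rfl

lemma bc_sl (A : SL(3, K)) : bc φ (sl3Hom A) = sl3Hom (slMap φ A) := by
  apply bc_eq
  intro v
  rw [sl3Hom_apply, sl3Hom_apply, slMap_val, cof_map, sv_mv]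

/-- The image of an invertible matrix. -/
def glMap : GL (Fin 2) K →* GL (Fin 2) K := Matrix.GeneralLinearGroup.map φ

lemma glMap_val (A : GL (Fin 2) K) : ((glMap φ A : GL (Fin 2) K) : M2 K) = (A : M2 K).map φ := rfl

lemma glMap_inv_val (A : GL (Fin 2) K) : (((glMap φ A)⁻¹ : GL (Fin 2) K) : M2 K) = ((A⁻¹ : GL (Fin 2) K) : M2 K).map φ := by
  rw [← map_inv, glMap_val]

lemma glMap_det (A : GL (Fin 2) K) : ((glMap φ A : GL (Fin 2) K) : M2 K).det = φ ((A : M2 K).det) := by
  rw [glMap_val]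
  have := RingHom.map_det φ (A : M2 K)
  simpa [RingHom.mapMatrix_apply] using this.symm

lemma mv_iota (p : Oct K) : mv φ (iota K p) = iota K (p.1.map φ, p.2.map φ) := by
  ext i
  fin_cases i <;> simp [iota]

lemma phi8_apply (A B : GL (Fin 2) K) (h : (A : M2 K).det = (B : M2 K).det) (v : V K) :
    ((phi8 A B h : Aut8 K) : V K ≃ₗ[K] V K) v = iota K (phiL A B ((iota K).symm v)) := by
  have h1 := autDouble_apply (phi8 A B h) ((iota K).symm v)
  have h2 : ((autDouble (phi8 A B h) : AutO K) : Oct K ≃ₗ[K] Oct K) = phiL A B := by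
    simp [phi8, phiA]
  rw [h2] at h1
  simp only [LinearEquiv.apply_symm_apply] at h1
  rw [h1]
  simp

lemma bc_phi8 (A B : GL (Fin 2) K) (h : (A : M2 K).det = (B : M2 K).det)
    (h' : ((glMap φ A : GL (Fin 2) K) : M2 K).det = ((glMap φ B : GL (Fin 2) K) : M2 K).det) :
    bc φ (phi8 A B h) = phi8 (glMap φ A) (glMap φ B) h' := by
  apply bc_eq
  intro v
  rw [phi8_apply, phi8_apply, mv_iota]
  congr 1
  obtain ⟨p, rfl⟩ := (iota K).surjective v
  rw [mv_iota]
  simp only [LinearEquiv.symm_apply_apply, phiL_apply, glMap_val, glMap_inv_val]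
  simp [Matrix.map_mul]

/-- The matrix `J`. -/
def J2 : GL (Fin 2) K :=
  ⟨!![0, 1; -1, 0], !![0, -1; 1, 0], by
    ext i j
    fin_cases i <;> fin_cases j <;> simp [Matrix.mul_apply, Fin.sum_univ_two], by
    ext i j
    fin_cases i <;> fin_cases j <;> simp [Matrix.mul_apply, Fin.sum_univ_two]⟩

lemma J2_val : ((J2 : GL (Fin 2) K) : M2 K) = !![0, 1; -1, 0] := rfl
lemma J2_inv_val : (((J2 : GL (Fin 2) K)⁻¹ : GL (Fin 2) K) : M2 K) = !![0, -1; 1, 0] := rfl

lemma swE_eq : (swE : Aut8 K) = phi8 J2 J2 rfl := by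
  apply Subtype.ext
  apply LinearEquiv.ext
  intro v
  rw [phi8_apply]
  change swV v = _
  obtain ⟨p, rfl⟩ := (iota K).surjective v
  simp only [LinearEquiv.symm_apply_apply, phiL_apply, J2_val, J2_inv_val]
  ext i
  fin_cases i <;> simp [swV, iota, Matrix.mul_apply, Fin.sum_univ_two, Matrix.vecMul, dotProduct]

lemma phi8_mul (A B C D : GL (Fin 2) K) (h : (A : M2 K).det = (B : M2 K).det) (h2 : (C : M2 K).det = (D : M2 K).det)
    (h3 : ((A * C : GL (Fin 2) K) : M2 K).det = ((B * D : GL (Fin 2) K) : M2 K).det) :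
    phi8 A B h * phi8 C D h2 = phi8 (A * C) (B * D) h3 := by
  simp only [phi8]
  rw [← map_mul]
  congr 1
  apply Subtype.ext
  exact phiL_mul _ _ _ _

end maps

section descent

variable {F K : Type*} [Field F] [Fintype F] [Field K] [Fintype K] [Algebra F K] {p n : ℕ}
  [hp : Fact p.Prime] [CharP F p]

lemma phi8_sc (c : Kˣ) (X : GL (Fin 2) K) (h) : phi8 (sc c * X) (sc c * X) h = phi8 X X rfl := by
  simp only [phi8]
  congr 1
  apply Subtype.ext
  have h1 : phiA (sc c * X) (sc c * X) h = (phiA (sc c) (sc c) rfl) * phiA X X rfl := by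
    apply Subtype.ext
    exact (phiL_mul _ _ _ _).symm
  rw [h1]
  have h2 : phiA (sc c) (sc c) rfl = 1 := by
    apply Subtype.ext
    exact phi_sc c
  rw [h2, one_mul]

/-- The descent. -/
theorem descent_order (hF : Fintype.card F = p ^ n) (hn : 1 ≤ n) (hK : finrank F K = 2) (A : SL(3, K))
    (hA : ∀ i j, (A.1 i j) ^ p ^ n = cof A.1 i j) : ∃ g : Aut8 F, orderOf g = orderOf A := by
  classical
  let ι : F →+* K := algebraMap F K
  haveI : CharP K p := charP_of_injective_algebraMap ι.injective p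
  haveI : ExpChar K p := ExpChar.prime hp.out
  haveI : FiniteDimensional F K := Module.Finite.of_finite
  set q := p ^ n with hq
  have hcardK : Fintype.card K = q ^ 2 := by
    rw [Module.card_eq_pow_finrank (K := F) (V := K), hK, hF]
  have hq2 : 2 ≤ q := by
    calc 2 ≤ p := hp.out.two_le
      _ = p ^ 1 := (pow_one p).symm
      _ ≤ p ^ n := Nat.pow_le_pow_right hp.out.pos hn
  let φ : K →+* K := iterateFrobenius K p n
  have hφ : ∀ a, φ a = a ^ q := fun a => iterateFrobenius_def p n a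
  have hφφ : ∀ a, φ (φ a) = a := by
    intro a
    rw [hφ, hφ, ← pow_mul, ← pow_two, ← hcardK, FiniteField.pow_card]
  have hφι : ∀ a : F, φ (ι a) = ι a := by
    intro a
    rw [hφ, ← map_pow, ← hF, FiniteField.pow_card]
  have hA' : slMap φ A = cofHom A := by
    apply Subtype.ext
    ext i j
    rw [slMap_val, Matrix.map_apply, hφ, hA]
    rfl
  have hA'' : cofHom (slMap φ A) = A := by
    rw [hA']
    apply Subtype.ext
    exact cof_cof A.1 A.2
  -- the element `ω`
  obtain ⟨ω, hω⟩ : ∃ ω : K, φ ω ≠ ω := by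
    by_contra hc
    push Not at hc
    have hsurj : Function.Surjective ι := by
      intro x
      have h1 : x ^ Fintype.card F = x := by
        have h0 := hc x
        rw [hφ] at h0
        rw [hF]
        exact h0
      exact fix_mem h1
    have h2 := Fintype.card_le_of_surjective ι hsurj
    rw [hcardK, hF] at h2
    nlinarith
  -- the element `l`
  obtain ⟨l, hl⟩ : ∃ l : K, φ l * l = -1 := by
    obtain ⟨l, hl⟩ := FiniteField.norm_surjective F K (-1 : F)
    refine ⟨l, ?_⟩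
    have h1 := norm_eq2 hK l
    rw [hl, hF, pow_succ, ← hφ] at h1
    rw [← h1]
    simp
  have hl0 : l ≠ 0 := by
    rintro rfl
    rw [mul_zero] at hl
    exact one_ne_zero (neg_eq_zero.1 hl.symm)
  have hφl0 : φ l ≠ 0 := (map_ne_zero φ).2 hl0
  -- the matrix `P`
  have hdetP : (!![1, ω; l⁻¹, l⁻¹ * φ ω] : M2 K).det ≠ 0 := by
    rw [Matrix.det_fin_two_of]
    have : 1 * (l⁻¹ * φ ω) - ω * l⁻¹ = l⁻¹ * (φ ω - ω) := by ring
    rw [this]
    exact mul_ne_zero (inv_ne_zero hl0) (sub_ne_zero.2 hω)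
  set P : GL (Fin 2) K := Matrix.GeneralLinearGroup.mkOfDetNeZero _ hdetP with hP
  have hPval : (P : M2 K) = !![1, ω; l⁻¹, l⁻¹ * φ ω] := rfl
  have hlinv : φ l⁻¹ = - l := by
    rw [map_inv₀]
    apply inv_eq_of_mul_eq_one_right
    linear_combination -hl
  have hmapP : glMap φ P = sc (Units.mk0 l hl0) * (J2 * P) := by
    apply Units.ext
    rw [glMap_val, Units.val_mul, Units.val_mul, sc_val, J2_val, hPval]
    ext i j
    fin_cases i <;> fin_cases j <;>
      simp [Matrix.mul_apply, Fin.sum_univ_two, Matrix.vecMul, dotProduct, hφφ, hlinv, hl0, mul_comm]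
  set s : Aut8 K := phi8 P P rfl with hs
  have hbc : bc φ s = swE * s := by
    rw [hs, bc_phi8 φ P P rfl rfl, swE_eq, phi8_mul J2 J2 P P rfl rfl rfl]
    have h1 : ∀ X Y : GL (Fin 2) K, X = Y → ∀ (h : (X : M2 K).det = (X : M2 K).det) (h' : (Y : M2 K).det = (Y : M2 K).det),
      phi8 X X h = phi8 Y Y h' := by
      rintro X Y rfl h h'
      rfl
    rw [h1 _ _ hmapP rfl (by rfl), phi8_sc]
  set y : Aut8 K := s⁻¹ * sl3Hom A * s with hy
  have hby : bc φ y = y := by
    rw [hy, map_mul, map_mul, map_inv, hbc, bc_sl, _root_.mul_inv_rev]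
    have hsw : (swE : Aut8 K)⁻¹ = swE := inv_eq_of_mul_eq_one_right swE_sq
    rw [hsw]
    have h1 : s⁻¹ * swE * sl3Hom (slMap φ A) * (swE * s) = s⁻¹ * (swE * sl3Hom (slMap φ A) * swE) * s := by
      group
    rw [h1, sw_conj, hA'']
  have hfix : ∀ z : Aut8 K, bc φ z = z → ∀ i j, ∃ a : F, ι a = (z : V K ≃ₗ[K] V K) (E j) i := by
    intro z hz i j
    have h1 := bc_mv φ z (E j)
    rw [hz, mv_E] at h1
    have h2 := congrFun h1 i
    rw [mv_apply, hφ] at h2
    apply fix_mem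
    rw [hF]
    exact h2.symm
  obtain ⟨g, hg⟩ := descend ι y (hfix y hby) (hfix y⁻¹ (by rw [map_inv, hby]))
  refine ⟨g, ?_⟩
  rw [← orderOf_injective _ (bc_inj ι) g, hg, ← orderOf_injective _ sl3Hom_inj A]
  have h3 := MulEquiv.orderOf_eq (MulAut.conj s⁻¹) (sl3Hom A)
  rw [MulAut.conj_apply, inv_inv] at h3
  exact h3

end descent

section su

open Cfsg.Agent.Lib.Witt.SU3Tori Cfsg.Agent.Lib.Witt.HermModel Cfsg.Agent.Lib.HermCount.Space

variable {K : Type*} [Field K] [Fintype K] {p n : ℕ} [hp : Fact p.Prime] [CharP K p]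
  {L : Type*} [Field L] [Fintype L] [Algebra K L]

/-- The element of `SU₃(q)` of order `q² - q + 1`. -/
theorem exists_su_of_L (hK : Fintype.card K = (p ^ n) ^ 2) (hn : 1 ≤ n) (h3 : finrank K L = 3) :
    ∃ A : SL(3, K), orderOf A = (p ^ n) ^ 2 - p ^ n + 1 ∧ ∀ i j, (A.1 i j) ^ p ^ n = cof A.1 i j := by
  classical
  set q := p ^ n with hqdef
  have hq : 2 ≤ q := by
    calc 2 ≤ p := hp.out.two_le
      _ = p ^ 1 := (pow_one p).symm
      _ ≤ p ^ n := Nat.pow_le_pow_right hp.out.pos hn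
  have hL := card_L hK h3
  set N' := q ^ 2 - q + 1 with hN'
  have hN'pos : 0 < N' := by omega
  have hs := cyc_mul_succ q (by omega)
  have hn' := cyc_mul_norm q (by omega)
  rw [← hN'] at hs hn'
  obtain ⟨B, hB⟩ : ∃ B, q ^ 3 = B + 1 := ⟨q ^ 3 - 1, (Nat.sub_add_cancel (Nat.one_le_pow _ _ (by omega))).symm⟩
  have h6 : q ^ 6 - 1 = N' * ((q + 1) * B) := by
    have e1 : q ^ 6 = (q ^ 3) ^ 2 := by ring
    have e2 : N' * ((q + 1) * B) = (N' * (q + 1)) * B := by ring
    rw [e1, e2, hs, hB]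
    have e3 : (B + 1) ^ 2 = (B + 1 + 1) * B + 1 := by ring
    rw [e3]
    simp
  have hdvd6 : N' ∣ q ^ 6 - 1 := ⟨_, h6⟩
  have hq6 : 0 < q ^ 6 - 1 := by
    rw [h6]
    have : 0 < B := by
      have : 8 ≤ q ^ 3 := by
        calc 8 = 2 ^ 3 := by norm_num
          _ ≤ q ^ 3 := Nat.pow_le_pow_left hq 3
      omega
    positivity
  obtain ⟨γ, hγgen⟩ := IsCyclic.exists_generator (α := Lˣ)
  have hγ : orderOf γ = q ^ 6 - 1 := by
    rw [orderOf_eq_card_of_forall_mem_zpowers hγgen, Nat.card_eq_fintype_card, Fintype.card_units, hL]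
  have hnz : (q ^ 6 - 1) / N' ≠ 0 := by
    intro h0
    have := Nat.div_mul_cancel hdvd6
    rw [h0, zero_mul] at this
    omega
  have hlam : orderOf (γ ^ ((q ^ 6 - 1) / N')) = N' := by
    rw [orderOf_pow_of_dvd hnz (by rw [hγ]; exact Nat.div_dvd_of_dvd hdvd6), hγ,
      Nat.div_div_self hdvd6 hq6.ne']
  set lam : Lˣ := γ ^ ((q ^ 6 - 1) / N') with hlamd
  set l : L := (lam : L) with hl
  have hl0 : l ≠ 0 := lam.ne_zero
  have hlk : ∀ k : ℕ, l ^ k = 1 ↔ N' ∣ k := by
    intro k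
    rw [← hlam, orderOf_dvd_iff_pow_eq_one, hl, ← Units.val_pow_eq_pow_val, Units.val_eq_one]
  have hll : l * l ^ (q ^ 3) = 1 := by
    rw [← pow_succ', hlk, ← hs]
    exact dvd_mul_right _ _
  let T : L →ₗ[K] L := LinearMap.mulLeft K l
  have hTx : ∀ x, T x = l * x := fun _ => rfl
  have hnorm : LinearMap.det T = 1 := by
    have h1 : LinearMap.det T = Algebra.norm K l := (Algebra.norm_apply K l).symm
    rw [h1]
    apply (algebraMap K L).injective
    rw [FiniteField.algebraMap_norm_eq_pow, Nat.card_eq_fintype_card, Nat.card_eq_fintype_card, hL, hK, map_one]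
    have e : (q ^ 6 - 1) / (q ^ 2 - 1) = q ^ 4 + q ^ 2 + 1 := by
      have hpos : 0 < q ^ 2 - 1 := by
        have : 4 ≤ q ^ 2 := by nlinarith
        omega
      apply Nat.div_eq_of_eq_mul_left hpos
      obtain ⟨C, hC⟩ : ∃ C, q ^ 2 = C + 1 := ⟨q ^ 2 - 1, (Nat.sub_add_cancel (Nat.one_le_pow _ _ (by omega))).symm⟩
      have e1 : q ^ 6 = (q ^ 2) ^ 3 := by ring
      have e2 : q ^ 4 = (q ^ 2) ^ 2 := by ring
      rw [e1, e2, hC]
      simp only [Nat.add_sub_cancel]
      have e3 : (C + 1) ^ 3 = ((C + 1) ^ 2 + (C + 1) + 1) * C + 1 := by ring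
      rw [e3]
      simp
    rw [e, ← hn']
    exact (hlk _).2 (dvd_mul_right _ _)
  have hiso : ∀ x y, cubicForm q K (T x) (T y) = cubicForm q K x y := by
    intro x y
    simp only [cubicForm, hTx, mul_pow]
    have : l * x * (l ^ q ^ 3 * y ^ q ^ 3) = (l * l ^ (q ^ 3)) * (x * y ^ q ^ 3) := by ring
    rw [this, hll, one_mul]
  obtain ⟨ψ, hψ⟩ := exists_model (cubic_space hK h3) hK 3 h3
  let f : (Fin 3 → K) →ₗ[K] (Fin 3 → K) := (ψ.symm : L →ₗ[K] (Fin 3 → K)) ∘ₗ T ∘ₗ (ψ : (Fin 3 → K) →ₗ[K] L)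
  have hf : ∀ x, ψ (f x) = T (ψ x) := fun x => by simp [f]
  have hfi : ∀ x y, Cfsg.hermForm 3 K q (f x) (f y) = Cfsg.hermForm 3 K q x y := by
    intro x y
    rw [← hψ, ← hψ, hf, hf, hiso]
  set M := LinearMap.toMatrix' f with hM
  have hMv : ∀ x, M *ᵥ x = f x := fun x => LinearMap.toMatrix'_mulVec f x
  have hdet : M.det = 1 := by
    rw [hM, LinearMap.det_toMatrix']
    have h2 : f = (ψ.symm : L →ₗ[K] (Fin 3 → K)) ∘ₗ T ∘ₗ (ψ.symm.symm : (Fin 3 → K) →ₗ[K] L) := rfl
    rw [h2, LinearMap.det_conj, hnorm]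
  have hpow : ∀ (k : ℕ) (x : Fin 3 → K), ψ ((M ^ k) *ᵥ x) = l ^ k * ψ x := by
    intro k
    induction k with
    | zero => intro x; simp
    | succ k ih =>
      intro x
      rw [pow_succ', ← Matrix.mulVec_mulVec, hMv, hf, hTx, ih, pow_succ']
      ring
  have hMk : ∀ k : ℕ, M ^ k = 1 ↔ N' ∣ k := by
    intro k
    rw [← hlk]
    constructor
    · intro h
      have h1 := hpow k (ψ.symm 1)
      rw [h, Matrix.one_mulVec, ψ.apply_symm_apply, mul_one] at h1
      exact h1.symm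
    · intro h
      apply Matrix.mulVec_injective
      funext x
      apply ψ.injective
      rw [hpow, h, one_mul, Matrix.one_mulVec]
  let A0 : SL(3, K) := ⟨M, hdet⟩
  have hA0 : A0.1 = M := rfl
  refine ⟨A0, ?_, ?_⟩
  · apply order_eq
    · have h1 : (A0 ^ N').1 = (1 : SL(3, K)).1 := by
        rw [Matrix.SpecialLinearGroup.coe_pow, hA0]
        exact (hMk _).2 dvd_rfl
      exact Subtype.ext h1
    · intro k hk
      rw [← hMk]
      have h1 : (A0 ^ k).1 = (1 : SL(3, K)).1 := by rw [hk]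
      rw [Matrix.SpecialLinearGroup.coe_pow, hA0] at h1
      exact h1
  · -- unitarity
    have hU : Mᵀ * M.map (fun a => a ^ q) = 1 := by
      ext i j
      have h1 := hfi (Pi.single i 1) (Pi.single j 1)
      rw [← hMv, ← hMv] at h1
      simp only [Cfsg.hermForm, Matrix.mulVec_single_one, Matrix.col_apply, Matrix.mul_apply, Matrix.transpose_apply,
        Matrix.map_apply] at h1 ⊢
      rw [h1, Matrix.one_apply]
      rw [Fin.sum_univ_three]
      have hq0 : q ≠ 0 := by omega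
      fin_cases i <;> fin_cases j <;> simp [hq0]
    have hC : cof M * Mᵀ = 1 := by
      rw [cof, ← Matrix.transpose_mul, Matrix.mul_adjugate, hdet, one_smul, Matrix.transpose_one]
    have hfin : M.map (fun a => a ^ q) = cof M := by
      calc M.map (fun a => a ^ q) = (cof M * Mᵀ) * M.map (fun a => a ^ q) := by rw [hC, Matrix.one_mul]
        _ = cof M * (Mᵀ * M.map (fun a => a ^ q)) := by rw [Matrix.mul_assoc]
        _ = cof M := by rw [hU, Matrix.mul_one]
    intro i j
    have := congrFun (congrFun hfin i) j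
    simpa using this

end su

section final

variable {F : Type*} [Field F] [Fintype F] {p n : ℕ} [hp : Fact p.Prime] [CharP F p]

/-- Order `q² - q + 1`. -/
theorem exists_qm (hF : Fintype.card F = p ^ n) (hn : 1 ≤ n) : ∃ g : Aut8 F, orderOf g = (p ^ n) ^ 2 - p ^ n + 1 := by
  classical
  haveI : NeZero 2 := ⟨by norm_num⟩
  haveI : NeZero 3 := ⟨by norm_num⟩
  let K := FiniteField.Extension F p 2
  have hK2 : finrank F K = 2 := FiniteField.finrank_extension F p 2
  letI : Fintype K := Fintype.ofFinite K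
  haveI : CharP K p := charP_of_injective_algebraMap (algebraMap F K).injective p
  have hK : Fintype.card K = (p ^ n) ^ 2 := by
    rw [Module.card_eq_pow_finrank (K := F) (V := K), hK2, hF]
  let L := FiniteField.Extension K p 3
  have hL3 : finrank K L = 3 := FiniteField.finrank_extension K p 3
  letI : Fintype L := Fintype.ofFinite L
  obtain ⟨A, hA1, hA2⟩ := exists_su_of_L (L := L) hK hn hL3
  obtain ⟨g, hg⟩ := descent_order hF hn hK2 A hA2
  exact ⟨g, hg.trans hA1⟩

/-- Order `p (q + 1)`. -/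
theorem exists_plus (hF : Fintype.card F = p ^ n) (hn : 1 ≤ n) : ∃ g : Aut8 F, orderOf g = p * (p ^ n + 1) := by
  haveI : NeZero 2 := ⟨by norm_num⟩
  exact exists_plus_of_L (L := FiniteField.Extension F p 2) (FiniteField.finrank_extension F p 2) hF hn

/-- Order `q² - 1`. -/
theorem exists_sq (hF : Fintype.card F = p ^ n) (hn : 1 ≤ n) : ∃ g : Aut8 F, orderOf g = (p ^ n) ^ 2 - 1 := by
  haveI : NeZero 2 := ⟨by norm_num⟩
  exact exists_sq_of_L (L := FiniteField.Extension F p 2) (FiniteField.finrank_extension F p 2) hF hn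

end final

end Cfsg.Agent.Lib.G2Oct.Exist2
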