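/-
The centraliser of an involution of the octonion group in odd characteristic.
-/
import Cfsg.Agent.Lib.G2Oct.Invol
import Cfsg.Agent.Lib.G2Oct.Main
import Cfsg.Agent.Lib.Classical.SL2Sylow

set_option autoImplicit false
set_option linter.all false

namespace Cfsg.Agent.Lib.G2Oct.Inv4279

open Cfsg.Lie Matrix Module
open Cfsg.Agent.Lib.G2Oct.Oct Cfsg.Agent.Lib.G2Oct.Phi Cfsg.Agent.Lib.G2Oct.Cent Cfsg.Agent.Lib.G2Oct.Main
open Cfsg.Agent.Lib.G2Oct.Aut8 Cfsg.Agent.Lib.G2Oct.Stab Cfsg.Agent.Lib.G2Oct.Count Cfsg.Agent.Lib.G2Oct.Invol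
open scoped MatrixGroups

variable {F : Type*} [Field F]

/-- The map from pairs of equal determinant to the automorphism group. -/
def phiE : E F →* AutO F :=
  (phi.comp (E F).subtype).codRestrict (AutO F) (fun p => phiL_mem p.1.1 p.1.2 p.2)

lemma phiE_coe (p : E F) : ((phiE p : AutO F) : Oct F ≃ₗ[F] Oct F) = phi p.1 := rfl

/-- The involution `τ` as an automorphism. -/
def tauO : AutO F := phiE ⟨tau, tau_mem_E⟩

lemma tau_central (p : GL (Fin 2) F × GL (Fin 2) F) : tau * p = p * tau := by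
  simp [tau, Prod.ext_iff]

lemma range_phiE (h2 : (2 : F) ≠ 0) :
    (phiE (F := F)).range = Subgroup.centralizer {tauO} := by
  ext x
  rw [Subgroup.mem_centralizer_singleton_iff]
  constructor
  · rintro ⟨p, rfl⟩
    apply Subtype.ext
    change phi p.1 * phi tau = phi tau * phi p.1
    rw [← map_mul, ← map_mul, tau_central]
  · intro hx
    have h1 : (x : Oct F ≃ₗ[F] Oct F) * phi (tau : GL (Fin 2) F × GL (Fin 2) F) = phi tau * (x : Oct F ≃ₗ[F] Oct F) :=
      congrArg Subtype.val hx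
    obtain ⟨p, hp, hxp⟩ := cent_tau h2 (x : Oct F ≃ₗ[F] Oct F) x.2 h1
    exact ⟨⟨p, hp⟩, Subtype.ext hxp.symm⟩

/-- The scalars. -/
def scE : Fˣ →* E F :=
  ((MonoidHom.prod sc sc).codRestrict (E F) (fun c => by
    change ((sc c : GL (Fin 2) F) : M2 F).det = ((sc c : GL (Fin 2) F) : M2 F).det
    rfl))

lemma sc_inj : Function.Injective (sc : Fˣ →* GL (Fin 2) F) := by
  intro a b h
  apply Units.ext
  have := congrFun (congrFun (congrArg (fun g : GL (Fin 2) F => (g : M2 F)) h) 0) 0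
  simpa using this

lemma ker_phiE : (phiE (F := F)).ker = (scE (F := F)).range := by
  ext p
  rw [MonoidHom.mem_ker]
  constructor
  · intro h
    have h1 : phiL p.1.1 p.1.2 = 1 := congrArg Subtype.val h
    obtain ⟨c, h2, h3⟩ := phiL_eq_one' h1
    exact ⟨c, Subtype.ext (Prod.ext h2.symm h3.symm)⟩
  · rintro ⟨c, rfl⟩
    apply Subtype.ext
    exact phi_sc c

section card

variable [Fintype F]

lemma card_ker : Nat.card (phiE (F := F)).ker = Fintype.card F - 1 := by
  rw [ker_phiE]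
  have h1 : Function.Injective (scE (F := F)) := by
    intro a b h
    have := congrArg (fun p : E F => p.1.1) h
    exact sc_inj this
  rw [← Nat.card_congr (MonoidHom.ofInjective h1).toEquiv, Nat.card_units, Nat.card_eq_fintype_card]

/-- The pairs with equal determinant, counted. -/
lemma card_E : Nat.card (E F) = Nat.card (GL (Fin 2) F) * Nat.card (SL(2, F)) := by
  rw [← Nat.card_prod]
  apply Nat.card_congr
  exact
    { toFun := fun p => (p.1.1, ⟨((p.1.1⁻¹ * p.1.2 : GL (Fin 2) F) : M2 F), by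
        have h1 : ((p.1.1 : M2 F)).det * (((p.1.1⁻¹ : GL (Fin 2) F) : M2 F)).det = 1 := by
          rw [← det_mul]; simp
        rw [Units.val_mul, det_mul, ← show ((p.1.1 : M2 F)).det = ((p.1.2 : M2 F)).det from p.2, mul_comm]
        exact h1⟩)
      invFun := fun a => ⟨(a.1, a.1 * (a.2 : SL(2, F)).toGL), by
        change ((a.1 : M2 F)).det = ((a.1 * (a.2 : SL(2, F)).toGL : GL (Fin 2) F) : M2 F).det
        rw [Units.val_mul, det_mul]
        have : (((a.2 : SL(2, F)).toGL : GL (Fin 2) F) : M2 F).det = 1 := a.2.2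
        rw [this, mul_one]⟩
      left_inv := fun p => by
        apply Subtype.ext
        apply Prod.ext
        · rfl
        · apply Units.ext
          change ((p.1.1 : M2 F)) * ((p.1.1⁻¹ * p.1.2 : GL (Fin 2) F) : M2 F) = _
          rw [← Units.val_mul]
          simp
      right_inv := fun a => by
        apply Prod.ext
        · rfl
        · apply Subtype.ext
          change ((a.1⁻¹ * (a.1 * (a.2 : SL(2, F)).toGL) : GL (Fin 2) F) : M2 F) = _
          rw [inv_mul_cancel_left]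
          rfl }

/-- The order of the centraliser. -/
theorem card_cent (h2 : (2 : F) ≠ 0) :
    Nat.card (Subgroup.centralizer {(tauO : AutO F)}) =
      Fintype.card F ^ 2 * (Fintype.card F ^ 2 - 1) ^ 2 := by
  rw [← range_phiE h2]
  have h1 := Subgroup.card_mul_index (phiE (F := F)).ker
  rw [Subgroup.index_ker, card_ker, card_E, Matrix.card_GL_field,
    Cfsg.Agent.Lib.Classical.SL2Sylow.card_SL2] at h1
  simp only [Fin.prod_univ_two, Fin.val_zero, Fin.val_one, pow_zero, pow_one] at h1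
  set q := Fintype.card F with hq
  have hq2 : 2 ≤ q := Fintype.one_lt_card
  obtain ⟨t, ht⟩ : ∃ t, q = t + 1 := ⟨q - 1, by omega⟩
  have ht0 : 0 < t := by omega
  rw [ht] at h1 ⊢
  simp only [Nat.add_sub_cancel] at h1
  have e1 : (t + 1) ^ 2 - 1 = t * (t + 2) := by
    have : (t + 1) ^ 2 = t * (t + 2) + 1 := by ring
    omega
  have e2 : (t + 1) ^ 2 - (t + 1) = t * (t + 1) := by
    have : (t + 1) ^ 2 = t * (t + 1) + (t + 1) := by ring
    omega
  rw [e1, e2] at h1
  rw [e1]
  apply Nat.eq_of_mul_eq_mul_left ht0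
  rw [h1]
  ring

end card

open Matrix.SpecialLinearGroup in
/-- The first factor. -/
def g1 : SL(2, F) →* E F :=
  (MonoidHom.prod toGL 1).codRestrict (E F) (fun A => by
    change ((toGL A : GL (Fin 2) F) : M2 F).det = ((1 : GL (Fin 2) F) : M2 F).det
    rw [Units.val_one, det_one]
    exact A.2)

open Matrix.SpecialLinearGroup in
/-- The second factor. -/
def g2 : SL(2, F) →* E F :=
  (MonoidHom.prod 1 toGL).codRestrict (E F) (fun A => by
    change ((1 : GL (Fin 2) F) : M2 F).det = ((toGL A : GL (Fin 2) F) : M2 F).det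
    rw [Units.val_one, det_one]
    exact A.2.symm)

open Matrix.SpecialLinearGroup in
/-- Both factors. -/
def g12 : SL(2, F) × SL(2, F) →* E F :=
  (MonoidHom.prod (toGL.comp (MonoidHom.fst _ _)) (toGL.comp (MonoidHom.snd _ _))).codRestrict (E F) (fun A => by
    change ((toGL A.1 : GL (Fin 2) F) : M2 F).det = ((toGL A.2 : GL (Fin 2) F) : M2 F).det
    exact A.1.2.trans A.2.2.symm)

/-- The central element of `SL₂`. -/
def minus : SL(2, F) := ⟨-1, by simp [det_fin_two]⟩

open Matrix.SpecialLinearGroup in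
lemma toGL_minus : toGL (minus : SL(2, F)) = -1 := Units.ext rfl

lemma minus_ne (h2 : (2 : F) ≠ 0) : (minus : SL(2, F)) ≠ 1 := by
  intro h
  have := congrFun (congrFun (congrArg Subtype.val h) 0) 0
  simp [minus] at this
  apply h2
  have h3 : (2 : F) = 1 - (-1) := by ring
  rw [h3, this]
  ring

lemma sc_neg_one : sc (-1 : Fˣ) = (-1 : GL (Fin 2) F) := by
  apply Units.ext
  simp

/-- The two subgroups `SL₂`. -/
def L1 : Subgroup (AutO F) := ((phiE (F := F)).comp g1).range
/-- The two subgroups `SL₂`. -/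
def L2 : Subgroup (AutO F) := ((phiE (F := F)).comp g2).range
/-- Their product. -/
def L12 : Subgroup (AutO F) := ((phiE (F := F)).comp g12).range

open Matrix.SpecialLinearGroup in
/-- Kernel of `φ` on `SL₂ × SL₂`. -/
lemma ker_aux (A B : SL(2, F)) (h : phiL (toGL A) (toGL B) = 1) :
    (A = 1 ∧ B = 1) ∨ (A = minus ∧ B = minus) := by
  obtain ⟨c, h1, h2⟩ := phiL_eq_one' h
  have hdet : (c : F) ^ 2 = 1 := by
    have := congrArg (fun g : GL (Fin 2) F => (g : M2 F).det) h1
    simp only [coe_GL_coe_matrix, A.2, sc_val] at this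
    simp [det_fin_two] at this
    exact this.symm
  have hc : c = 1 ∨ c = -1 := by
    have h3 : ((c : F) - 1) * ((c : F) + 1) = 0 := by linear_combination hdet
    rcases mul_eq_zero.1 h3 with h4 | h4
    · left
      apply Units.ext
      simpa using sub_eq_zero.1 h4
    · right
      apply Units.ext
      simpa using add_eq_zero_iff_eq_neg.1 h4
  rcases hc with rfl | rfl
  · left
    rw [map_one] at h1 h2
    exact ⟨toGL_injective (by rw [h1, map_one]), toGL_injective (by rw [h2, map_one])⟩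
  · right
    rw [sc_neg_one] at h1 h2
    exact ⟨toGL_injective (by rw [h1, toGL_minus]), toGL_injective (by rw [h2, toGL_minus])⟩

open Matrix.SpecialLinearGroup in
lemma g1_inj (h2 : (2 : F) ≠ 0) : Function.Injective ((phiE (F := F)).comp g1) := by
  rw [injective_iff_map_eq_one]
  intro A hA
  have h3 : phiL (toGL A) 1 = 1 := congrArg Subtype.val hA
  have h4 : phiL (toGL A) (toGL (1 : SL(2, F))) = 1 := by rw [map_one]; exact h3
  rcases ker_aux A 1 h4 with ⟨h5, _⟩ | ⟨_, h5⟩
  · exact h5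
  · exact (minus_ne h2 h5.symm).elim

open Matrix.SpecialLinearGroup in
lemma g2_inj (h2 : (2 : F) ≠ 0) : Function.Injective ((phiE (F := F)).comp g2) := by
  rw [injective_iff_map_eq_one]
  intro A hA
  have h3 : phiL 1 (toGL A) = 1 := congrArg Subtype.val hA
  have h4 : phiL (toGL (1 : SL(2, F))) (toGL A) = 1 := by rw [map_one]; exact h3
  rcases ker_aux 1 A h4 with ⟨_, h5⟩ | ⟨h5, _⟩
  · exact h5
  · exact (minus_ne h2 h5.symm).elim

lemma L1_L2_comm (x y : AutO F) (hx : x ∈ (L1 : Subgroup (AutO F))) (hy : y ∈ (L2 : Subgroup (AutO F))) : x * y = y * x := by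
  obtain ⟨A, rfl⟩ := hx
  obtain ⟨B, rfl⟩ := hy
  simp only [MonoidHom.comp_apply]
  rw [← map_mul, ← map_mul]
  congr 1
  apply Subtype.ext
  simp [g1, g2, Prod.ext_iff]

lemma tauO_eq2 : (tauO : AutO F) = (phiE (F := F)).comp g2 minus := by
  apply Subtype.ext
  change phi tau = phi (1, Matrix.SpecialLinearGroup.toGL minus)
  rw [toGL_minus]
  rfl

lemma tauO_eq1 : (tauO : AutO F) = (phiE (F := F)).comp g1 minus := by
  apply Subtype.ext
  change phi tau = phi (Matrix.SpecialLinearGroup.toGL minus, 1)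
  rw [toGL_minus]
  have h1 : ((-1 : GL (Fin 2) F), (1 : GL (Fin 2) F)) = (sc (-1 : Fˣ), sc (-1 : Fˣ)) * tau := by
    rw [sc_neg_one]
    simp [tau]
  rw [h1, map_mul, phi_sc, one_mul]

open Matrix.SpecialLinearGroup in
lemma L1_inf_L2 : (L1 : Subgroup (AutO F)) ⊓ L2 = Subgroup.zpowers tauO := by
  apply le_antisymm
  · rintro x ⟨⟨A, rfl⟩, ⟨B, hB⟩⟩
    have h3 : phiL (toGL A) (toGL B⁻¹) = 1 := by
      have h4 := congrArg Subtype.val hB
      have h5 : (phi (1, toGL B) : Oct F ≃ₗ[F] Oct F) = phi (toGL A, 1) := h4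
      have h6 : (phi (toGL A, toGL B⁻¹) : Oct F ≃ₗ[F] Oct F) = phi (toGL A, 1) * (phi (1, toGL B))⁻¹ := by
        rw [← map_inv, ← map_mul]
        congr 1
        simp
      have h7 : (phi (toGL A, toGL B⁻¹) : Oct F ≃ₗ[F] Oct F) = 1 := by
        rw [h6, h5, mul_inv_cancel]
      exact h7
    rcases ker_aux A _ h3 with ⟨h5, _⟩ | ⟨h5, _⟩
    · rw [h5, map_one]
      exact Subgroup.one_mem _
    · rw [h5, ← tauO_eq1]
      exact Subgroup.mem_zpowers _
  · rw [Subgroup.zpowers_le]
    exact ⟨⟨_, tauO_eq1.symm⟩, ⟨_, tauO_eq2.symm⟩⟩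

lemma L12_eq : (L1 : Subgroup (AutO F)) ⊔ L2 = L12 := by
  apply le_antisymm
  · apply sup_le
    · rintro _ ⟨A, rfl⟩
      refine ⟨(A, 1), ?_⟩
      simp only [MonoidHom.comp_apply]
      congr 1
      apply Subtype.ext
      simp [g1, g12, Prod.ext_iff]
    · rintro _ ⟨A, rfl⟩
      refine ⟨(1, A), ?_⟩
      simp only [MonoidHom.comp_apply]
      congr 1
      apply Subtype.ext
      simp [g2, g12, Prod.ext_iff]
  · rintro _ ⟨p, rfl⟩
    have h1 : (phiE (F := F)).comp g12 p = ((phiE (F := F)).comp g1 p.1) * ((phiE (F := F)).comp g2 p.2) := by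
      simp only [MonoidHom.comp_apply]
      rw [← map_mul]
      congr 1
      apply Subtype.ext
      simp [g1, g2, g12, Prod.ext_iff]
    rw [h1]
    exact Subgroup.mul_mem_sup ⟨_, rfl⟩ ⟨_, rfl⟩

lemma L12_le (h2 : (2 : F) ≠ 0) : (L12 : Subgroup (AutO F)) ≤ Subgroup.centralizer {tauO} := by
  rw [← range_phiE h2]
  rintro _ ⟨p, rfl⟩
  exact ⟨_, rfl⟩

section card2

variable [Fintype F]

instance : Finite (AutO F) := Finite.of_equiv (Aut8 F) (autDouble (F := F)).toEquiv

open Matrix.SpecialLinearGroup in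
lemma card_L12 (h2 : (2 : F) ≠ 0) :
    Nat.card (L12 : Subgroup (AutO F)) * 2 = Nat.card (SL(2, F)) * Nat.card (SL(2, F)) := by
  have h1 := Subgroup.card_mul_index ((phiE (F := F)).comp g12).ker
  rw [Subgroup.index_ker, Nat.card_prod] at h1
  rw [← h1, mul_comm]
  congr 1
  change _ = Nat.card ((phiE (F := F)).comp g12).ker
  rw [eq_comm, Nat.card_eq_two_iff]
  have hm : ((minus, minus) : SL(2, F) × SL(2, F)) ∈ ((phiE (F := F)).comp g12).ker := by
    rw [MonoidHom.mem_ker]
    apply Subtype.ext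
    change phi (toGL minus, toGL minus) = 1
    rw [toGL_minus, ← sc_neg_one]
    exact phi_sc _
  refine ⟨1, ⟨_, hm⟩, ?_, ?_⟩
  · intro h
    have := congrArg (fun x : ((phiE (F := F)).comp g12).ker => x.1.1) h
    exact minus_ne h2 this.symm
  · ext ⟨⟨A, B⟩, hAB⟩
    simp only [Set.mem_insert_iff, Set.mem_singleton_iff, Set.mem_univ, iff_true]
    have h3 : phiL (toGL A) (toGL B) = 1 := congrArg Subtype.val hAB
    rcases ker_aux A B h3 with ⟨rfl, rfl⟩ | ⟨rfl, rfl⟩
    · left; rfl
    · right; rfl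

theorem relIndex_L12 (h2 : (2 : F) ≠ 0) :
    (L12 : Subgroup (AutO F)).relIndex (Subgroup.centralizer {tauO}) = 2 := by
  have hle := L12_le h2
  have h1 := Subgroup.card_mul_index ((L12 : Subgroup (AutO F)).subgroupOf (Subgroup.centralizer {tauO}))
  have h3 : Nat.card ((L12 : Subgroup (AutO F)).subgroupOf (Subgroup.centralizer {tauO})) = Nat.card (L12 : Subgroup (AutO F)) :=
    Nat.card_congr (Subgroup.subgroupOfEquivOfLe hle).toEquiv
  rw [h3, card_cent h2] at h1
  have h4 := card_L12 h2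
  rw [Cfsg.Agent.Lib.Classical.SL2Sylow.card_SL2] at h4
  set q := Fintype.card F with hq
  have hq2 : 2 ≤ q := Fintype.one_lt_card
  obtain ⟨t, ht⟩ : ∃ t, q = t + 1 := ⟨q - 1, by omega⟩
  rw [ht] at h1 h4
  have e1 : (t + 1) ^ 2 - 1 = t * (t + 2) := by
    have : (t + 1) ^ 2 = t * (t + 2) + 1 := by ring
    omega
  rw [e1] at h1
  simp only [Nat.add_sub_cancel] at h4
  have ht0 : 0 < t := by omega
  have h5 : Nat.card (L12 : Subgroup (AutO F)) * (L12 : Subgroup (AutO F)).relIndex (Subgroup.centralizer {tauO}) = Nat.card (L12 : Subgroup (AutO F)) * 2 := by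
    change _ * ((L12 : Subgroup (AutO F)).subgroupOf (Subgroup.centralizer {tauO})).index = _
    rw [h1, h4]
    ring
  exact Nat.eq_of_mul_eq_mul_left Nat.card_pos h5

end card2

lemma cof_D0 : cof (D0 : SL(3, F)).1 = (D0 : SL(3, F)).1 := by
  change cof (diagonal ![1, -1, -1]) = diagonal ![1, -1, -1]
  rw [cof, adjugate_fin_three]
  ext i j
  fin_cases i <;> fin_cases j <;> simp [diagonal]

/-- `D0` corresponds to `τ`. -/
lemma autDouble_D0 : autDouble (sl3Hom D0) = (tauO : AutO F) := by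
  apply Subtype.ext
  apply LinearEquiv.ext
  intro p
  rw [autDouble_apply, sl3Hom_apply]
  change (iota F).symm (sv D0.1 (cof D0.1) (iota F p)) = phi tau p
  rw [phi_tau_apply]
  apply (iota F).injective
  simp only [LinearEquiv.apply_symm_apply]
  rw [cof_D0]
  ext i
  fin_cases i <;> simp [iota, sv, D0]

section final

variable [Fintype F]

/-- An involution of the Chevalley group corresponds to `τ` under an isomorphism with the double. -/
theorem exists_iso (hF : Odd (Fintype.card F)) (h2 : (2 : F) ≠ 0) (t : ↥(chevG2.group F)) (ht : orderOf t = 2) :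
    ∃ e : ↥(chevG2.group F) ≃* AutO F, e t = tauO := by
  have h3 : rhoE t * rhoE t = 1 := by
    rw [← map_mul, ← sq, ← ht, pow_orderOf_eq_one, map_one]
  have h4 : rhoE t ≠ 1 := by
    intro h
    have : t = 1 := by
      apply rhoE.injective
      rw [h, map_one]
    rw [this, orderOf_one] at ht
    omega
  obtain ⟨g, hg⟩ := invol_conj_std hF h2 _ h3 h4
  let c : AutO F := autDouble g
  refine ⟨(rhoE.trans autDouble).trans (MulAut.conj c⁻¹), ?_⟩
  change c⁻¹ * autDouble (rhoE t) * c⁻¹⁻¹ = tauO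
  rw [← hg, map_mul, map_mul, map_inv, autDouble_D0]
  change c⁻¹ * (c * tauO * c⁻¹) * c⁻¹⁻¹ = tauO
  group

theorem main (hF : Odd (Fintype.card F)) (t : ↥(chevG2.group F)) (ht : orderOf t = 2) :
    Nat.card (Subgroup.centralizer ({t} : Set ↥(chevG2.group F))) = Fintype.card F ^ 2 * (Fintype.card F ^ 2 - 1) ^ 2 ∧
    ∃ L₁ L₂ : Subgroup ↥(chevG2.group F), Nonempty (L₁ ≃* Matrix.SpecialLinearGroup (Fin 2) F) ∧
      Nonempty (L₂ ≃* Matrix.SpecialLinearGroup (Fin 2) F) ∧ (∀ x ∈ L₁, ∀ y ∈ L₂, x * y = y * x) ∧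
      L₁ ⊓ L₂ = Subgroup.zpowers t ∧ L₁ ⊔ L₂ ≤ Subgroup.centralizer ({t} : Set ↥(chevG2.group F)) ∧
      (L₁ ⊔ L₂).relIndex (Subgroup.centralizer ({t} : Set ↥(chevG2.group F))) = 2 := by
  have h2 : (2 : F) ≠ 0 := by
    apply Ring.two_ne_zero
    intro h
    have := FiniteField.even_card_of_char_two h
    rw [Nat.odd_iff] at hF
    omega
  obtain ⟨e, he⟩ := exists_iso hF h2 t ht
  have hinj : Function.Injective (e.symm : AutO F →* ↥(chevG2.group F)) := e.symm.injective
  have ht' : (e.symm : AutO F →* ↥(chevG2.group F)) tauO = t := by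
    change e.symm tauO = t
    rw [← he, MulEquiv.symm_apply_apply]
  have hC : Subgroup.centralizer ({t} : Set ↥(chevG2.group F)) =
      (Subgroup.centralizer {(tauO : AutO F)}).map (e.symm : AutO F →* ↥(chevG2.group F)) := by
    ext x
    rw [Subgroup.mem_centralizer_singleton_iff]
    constructor
    · intro hx
      refine ⟨e x, ?_, e.symm_apply_apply x⟩
      rw [SetLike.mem_coe, Subgroup.mem_centralizer_singleton_iff, ← he, ← map_mul, ← map_mul, hx]
    · rintro ⟨y, hy, rfl⟩
      rw [SetLike.mem_coe, Subgroup.mem_centralizer_singleton_iff] at hy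
      rw [← ht', ← map_mul, ← map_mul, hy]
  refine ⟨?_, (L1 : Subgroup (AutO F)).map (e.symm : AutO F →* ↥(chevG2.group F)),
    (L2 : Subgroup (AutO F)).map (e.symm : AutO F →* ↥(chevG2.group F)), ?_, ?_, ?_, ?_, ?_, ?_⟩
  · rw [hC, ← card_cent h2]
    exact (Nat.card_congr (e.symm.subgroupMap _).toEquiv).symm
  · exact ⟨(e.symm.subgroupMap _).symm.trans (MonoidHom.ofInjective (g1_inj h2)).symm⟩
  · exact ⟨(e.symm.subgroupMap _).symm.trans (MonoidHom.ofInjective (g2_inj h2)).symm⟩
  · rintro _ ⟨a, ha, rfl⟩ _ ⟨b, hb, rfl⟩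
    rw [← map_mul, ← map_mul, L1_L2_comm a b ha hb]
  · rw [← Subgroup.map_inf _ _ _ hinj, L1_inf_L2, MonoidHom.map_zpowers, ht']
  · rw [← Subgroup.map_sup, L12_eq, hC]
    exact Subgroup.map_mono (L12_le h2)
  · rw [← Subgroup.map_sup, L12_eq, hC, Subgroup.relIndex_map_map_of_injective _ _ hinj]
    exact relIndex_L12 h2

end final

end Cfsg.Agent.Lib.G2Oct.Inv4279
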