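/-
The Singer-type element of `SL₃(F)` coming from the cubic extension: left multiplication by an element of
order `q² + q + 1`.
-/
import Cfsg.Agent.Lib.G2Oct.Cent3

set_option autoImplicit false
set_option linter.all false

namespace Cfsg.Agent.Lib.G2Oct.Singer3

open Cfsg.Lie Matrix Polynomial
open Cfsg.Agent.Lib.G2Oct.Aut8 Cfsg.Agent.Lib.G2Oct.Stab Cfsg.Agent.Lib.G2Oct.Cent3
open scoped MatrixGroups

variable {F L : Type*} [Field F] [Fintype F] [Field L] [Algebra F L] [Finite L]
  (hL : Module.finrank F L = 3)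

/-- A basis of the cubic extension. -/
noncomputable def bs : Module.Basis (Fin 3) F L := Module.finBasisOfFinrankEq F L hL

/-- Left multiplication. -/
noncomputable def lm : L →ₐ[F] Matrix (Fin 3) (Fin 3) F := Algebra.leftMulMatrix (bs hL)

lemma lm_inj : Function.Injective (lm hL) := Algebra.leftMulMatrix_injective _

lemma det_lm (x : L) : (lm hL x).det = Algebra.norm F x := (Algebra.norm_eq_matrix_det (bs hL) x).symm

include hL in
lemma norm_eq (x : L) : algebraMap F L (Algebra.norm F x) = x ^ (Fintype.card F ^ 2 + Fintype.card F + 1) := by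
  rw [FiniteField.algebraMap_norm_eq_pow_sum, hL, Nat.card_eq_fintype_card]
  simp [Finset.sum_range_succ]
  ring_nf

lemma root_charpoly (x : L) : aeval x (lm hL x).charpoly = 0 := by
  apply lm_inj hL
  rw [map_zero, ← aeval_algHom_apply, Matrix.aeval_self_charpoly]

lemma aeval_frob (p : F[X]) (x : L) : aeval (x ^ Fintype.card F) p = (aeval x p) ^ Fintype.card F := by
  rw [← map_pow, ← FiniteField.expand_card, expand_aeval]

section elt

variable {s : L} {q : ℕ} (hq : Fintype.card F = q) (hq3 : 3 ≤ q) (hs : orderOf s = q ^ 2 + q + 1)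

include hL hq hs

lemma s_ne_zero : s ≠ 0 := by
  rintro rfl
  have h0 : orderOf (0 : L) = 0 := by
    rw [orderOf_eq_zero_iff']
    intro n hn
    simp [hn.ne']
  rw [h0] at hs
  omega

lemma norm_s : Algebra.norm F s = 1 := by
  apply (algebraMap F L).injective
  rw [norm_eq hL, map_one, hq, ← hs, pow_orderOf_eq_one]

lemma det_sub_one (hs1 : s ≠ 1) : (lm hL s - 1).det ≠ 0 := by
  rw [← map_one (lm hL), ← map_sub, det_lm, ne_eq, Algebra.norm_eq_zero_iff]
  exact sub_ne_zero.2 hs1

/-- The element of `SL₃`. -/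
noncomputable def As (s : L) (h : Algebra.norm F s = 1) : SL(3, F) := ⟨lm hL s, by rw [det_lm, h]⟩

lemma adj_lm : adjugate (lm hL s) = lm hL s⁻¹ := by
  have h1 : lm hL s⁻¹ * lm hL s = 1 := by
    rw [← map_mul, inv_mul_cancel₀ (s_ne_zero hL hq hs), map_one]
  have h2 : lm hL s * adjugate (lm hL s) = 1 := by
    rw [mul_adjugate, det_lm, norm_s hL hq hs, one_smul]
  calc adjugate (lm hL s) = (lm hL s⁻¹ * lm hL s) * adjugate (lm hL s) := by rw [h1, one_mul]
    _ = lm hL s⁻¹ := by rw [Matrix.mul_assoc, h2, Matrix.mul_one]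

include hq3

/-- The element `s` is not conjugate to the inverse transpose. -/
theorem not_conj (h : Algebra.norm F s = 1) : ¬ ∃ C : SL(3, F), C * cofHom (As hL s h) * C⁻¹ = As hL s h := by
  rintro ⟨C, hC⟩
  have hn := s_ne_zero hL hq hs
  set χ := (lm hL s).charpoly with hχ
  have h1 : χ = (lm hL s⁻¹).charpoly := by
    have h2 := congrArg (fun A : SL(3, F) => ((A : Matrix (Fin 3) (Fin 3) F)).charpoly) hC
    simp only [Matrix.SpecialLinearGroup.coe_mul] at h2
    have h3 : (As hL s h : Matrix (Fin 3) (Fin 3) F) = lm hL s := rfl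
    have h4 : ((cofHom (As hL s h) : SL(3, F)) : Matrix (Fin 3) (Fin 3) F) = (lm hL s⁻¹)ᵀ := by
      change cof (lm hL s) = _
      rw [cof, adj_lm hL hq hs]
    rw [h3, h4] at h2
    have h5 : ((C : Matrix (Fin 3) (Fin 3) F) * (lm hL s⁻¹)ᵀ * ((C⁻¹ : SL(3, F)) : Matrix (Fin 3) (Fin 3) F)).charpoly = (lm hL s⁻¹)ᵀ.charpoly := by
      rw [Matrix.charpoly_mul_comm, ← Matrix.mul_assoc]
      have : (((C⁻¹ : SL(3, F)) : Matrix (Fin 3) (Fin 3) F) * (C : Matrix (Fin 3) (Fin 3) F)) = 1 := by
        rw [← Matrix.SpecialLinearGroup.coe_mul, inv_mul_cancel, Matrix.SpecialLinearGroup.coe_one]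
      rw [this, Matrix.one_mul]
    rw [h5, Matrix.charpoly_transpose] at h2
    exact h2.symm
  have r0 : aeval s χ = 0 := root_charpoly hL s
  have r1 : aeval s⁻¹ χ = 0 := by rw [h1]; exact root_charpoly hL s⁻¹
  have r2 : aeval (s ^ q) χ = 0 := by
    rw [← hq, aeval_frob, r0, zero_pow Fintype.card_ne_zero]
  have r3 : aeval (s ^ q ^ 2) χ = 0 := by
    have : s ^ q ^ 2 = (s ^ q) ^ Fintype.card F := by rw [hq, ← pow_mul, sq]
    rw [this, aeval_frob, r2, zero_pow Fintype.card_ne_zero]
  have hpow : ∀ k : ℕ, 0 < k → k < q ^ 2 + q + 1 → s ^ k ≠ 1 := by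
    intro k h0 h1 h2
    have := orderOf_dvd_of_pow_eq_one h2
    rw [hs] at this
    have := Nat.le_of_dvd h0 this
    omega
  have hq2 : q * q = q ^ 2 := by ring
  have d1 : s ≠ s ^ q := by
    intro h2
    apply hpow (q - 1) (by omega) (by omega)
    have : s ^ q = s ^ (q - 1) * s := by rw [← pow_succ]; congr 1; omega
    rw [this] at h2
    exact (mul_left_eq_self₀.1 h2.symm).resolve_right hn
  have d2 : s ≠ s ^ q ^ 2 := by
    intro h2
    apply hpow (q ^ 2 - 1) (by nlinarith [Nat.sub_add_cancel (show 1 ≤ q ^ 2 by nlinarith)]) (by have : 1 ≤ q ^ 2 := by nlinarith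
                                                                                                 omega)
    have : s ^ q ^ 2 = s ^ (q ^ 2 - 1) * s := by
      rw [← pow_succ]; congr 1
      have : 1 ≤ q ^ 2 := by nlinarith
      omega
    rw [this] at h2
    exact (mul_left_eq_self₀.1 h2.symm).resolve_right hn
  have d3 : s ^ q ≠ s ^ q ^ 2 := by
    intro h2
    have h3 : q ≤ q ^ 2 := by nlinarith
    apply hpow (q ^ 2 - q) (by nlinarith [Nat.sub_add_cancel h3]) (by omega)
    have : s ^ q ^ 2 = s ^ (q ^ 2 - q) * s ^ q := by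
      rw [← pow_add]; congr 1
      omega
    rw [this] at h2
    exact (mul_left_eq_self₀.1 h2.symm).resolve_right (pow_ne_zero _ hn)
  have hinv : ∀ k : ℕ, 0 < k + 1 → k + 1 < q ^ 2 + q + 1 → s⁻¹ ≠ s ^ k := by
    intro k h0 h1 h2
    apply hpow (k + 1) h0 h1
    rw [pow_succ, ← h2, inv_mul_cancel₀ hn]
  have d4 : s⁻¹ ≠ s := by
    have := hinv 1 (by omega) (by have : 1 ≤ q ^ 2 := by nlinarith
                                  omega)
    simpa using this
  have d5 : s⁻¹ ≠ s ^ q := hinv q (by omega) (by have : 1 ≤ q ^ 2 := by nlinarith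
                                                 omega)
  have d6 : s⁻¹ ≠ s ^ q ^ 2 := hinv (q ^ 2) (by omega) (by omega)
  -- four distinct roots of a polynomial of degree three
  classical
  let P : L[X] := χ.map (algebraMap F L)
  have hP : P ≠ 0 := by
    apply Polynomial.map_ne_zero
    exact (Matrix.charpoly_monic _).ne_zero
  have hdeg : P.natDegree = 3 := by
    rw [Polynomial.natDegree_map, hχ, Matrix.charpoly_natDegree_eq_dim]
    rfl
  have hroot : ∀ x : L, aeval x χ = 0 → x ∈ P.roots := by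
    intro x hx
    rw [Polynomial.mem_roots hP, Polynomial.IsRoot.def, Polynomial.eval_map_algebraMap]
    exact hx
  have hsub : ({s, s ^ q, s ^ q ^ 2, s⁻¹} : Finset L) ⊆ P.roots.toFinset := by
    intro x hx
    simp only [Finset.mem_insert, Finset.mem_singleton] at hx
    rw [Multiset.mem_toFinset]
    rcases hx with rfl | rfl | rfl | rfl
    · exact hroot _ r0
    · exact hroot _ r2
    · exact hroot _ r3
    · exact hroot _ r1
  have hcard : ({s, s ^ q, s ^ q ^ 2, s⁻¹} : Finset L).card = 4 := by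
    rw [Finset.card_insert_of_notMem, Finset.card_insert_of_notMem, Finset.card_insert_of_notMem, Finset.card_singleton]
    · simp [d6.symm]
    · simp [d3, d5.symm]
    · simp [d1, d2, d4.symm]
  have h6 := Finset.card_le_card hsub
  have h7 := Multiset.toFinset_card_le P.roots
  have h8 := Polynomial.card_roots' P
  rw [hcard] at h6
  rw [hdeg] at h8
  omega

/-- The element `s` generates the extension. -/
theorem adjoin_top : Algebra.adjoin F {s} = ⊤ := by
  have hp : Nat.Prime (Module.finrank F L) := by rw [hL]; norm_num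
  rcases (Subalgebra.isSimpleOrder_of_finrank_prime F L hp).eq_bot_or_eq_top (Algebra.adjoin F {s}) with h | h
  · exfalso
    have h1 : s ∈ (⊥ : Subalgebra F L) := by
      rw [← h]
      exact Algebra.subset_adjoin (Set.mem_singleton s)
    obtain ⟨c, hc⟩ := Algebra.mem_bot.1 h1
    have hn := s_ne_zero hL hq hs
    have hc0 : c ≠ 0 := by
      rintro rfl
      apply hn
      rw [← hc, map_zero]
    have h2 : s ^ (q - 1) = 1 := by
      rw [← hc, ← map_pow, ← hq, FiniteField.pow_card_sub_one_eq_one c hc0, map_one]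
    have h3 := orderOf_dvd_of_pow_eq_one h2
    rw [hs] at h3
    have h4 := Nat.le_of_dvd (by omega) h3
    omega
  · exact h

/-- The commutant of `lm s`. -/
theorem comm_lm (B : Matrix (Fin 3) (Fin 3) F) (hB : B * lm hL s = lm hL s * B) : ∃ z : L, B = lm hL z := by
  have hall : ∀ y : L, lm hL y * B = B * lm hL y := by
    intro y
    have hy : y ∈ Algebra.adjoin F {s} := by
      rw [adjoin_top hL hq hq3 hs]
      trivial
    induction hy using Algebra.adjoin_induction with
    | mem x hx =>
      rw [Set.mem_singleton_iff] at hx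
      rw [hx, hB]
    | algebraMap c =>
      rw [AlgHom.commutes]
      exact Algebra.commutes c B
    | add a b _ _ ha hb =>
      rw [map_add, add_mul, mul_add, ha, hb]
    | mul a b _ _ ha hb =>
      rw [map_mul, Matrix.mul_assoc, hb, ← Matrix.mul_assoc, ha, Matrix.mul_assoc]
  let b := bs hL
  let c : L → Fin 3 → F := fun y => b.repr y
  have hc : ∀ x y : L, lm hL x *ᵥ c y = c (x * y) := fun x y => Algebra.leftMulMatrix_mulVec_repr b x y
  let z : L := b.equivFun.symm (B *ᵥ c 1)
  have hz : c z = B *ᵥ c 1 := b.equivFun.apply_symm_apply (B *ᵥ c 1)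
  refine ⟨z, ?_⟩
  have h1 : ∀ y : L, B *ᵥ c y = lm hL z *ᵥ c y := by
    intro y
    calc B *ᵥ c y = B *ᵥ (lm hL y *ᵥ c 1) := by rw [hc, mul_one]
      _ = (B * lm hL y) *ᵥ c 1 := by rw [Matrix.mulVec_mulVec]
      _ = (lm hL y * B) *ᵥ c 1 := by rw [hall]
      _ = lm hL y *ᵥ (B *ᵥ c 1) := by rw [Matrix.mulVec_mulVec]
      _ = lm hL y *ᵥ c z := by rw [hz]
      _ = c (y * z) := hc y z
      _ = c (z * y) := by rw [mul_comm]
      _ = lm hL z *ᵥ c y := (hc z y).symm
  have h3 : ∀ v : Fin 3 → F, B *ᵥ v = lm hL z *ᵥ v := by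
    intro v
    have := h1 (b.equivFun.symm v)
    have h4 : c (b.equivFun.symm v) = v := b.equivFun.apply_symm_apply v
    rwa [h4] at this
  ext i j
  have := congrFun (h3 (Pi.single j 1)) i
  simpa using this

end elt

open Cfsg.Agent.Lib.G2Oct.Count

include hL in
/-- The self-centralising cyclic subgroup. -/
theorem main_of_L (q : ℕ) (hq : Fintype.card F = q) (hq3 : 3 ≤ q) :
    ∃ H : Subgroup ↥(chevG2.group F), IsCyclic ↥H ∧ Nat.card ↥H = q ^ 2 + q + 1 ∧
      Subgroup.centralizer (H : Set ↥(chevG2.group F)) = H := by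
  classical
  have : Fintype L := Fintype.ofFinite L
  obtain ⟨x₀, hgen⟩ := IsCyclic.exists_generator (α := Lˣ)
  have hcardL : Fintype.card L = q ^ 3 := by
    rw [Module.card_eq_pow_finrank (K := F) (V := L), hL, hq]
  have hcardU : Nat.card Lˣ = q ^ 3 - 1 := by
    rw [Nat.card_units, Nat.card_eq_fintype_card, hcardL]
  obtain ⟨t, rfl⟩ : ∃ t, q = t + 1 := ⟨q - 1, by omega⟩
  have hfac : (t + 1) ^ 3 - 1 = t * ((t + 1) ^ 2 + (t + 1) + 1) := by
    have : (t + 1) ^ 3 = t * ((t + 1) ^ 2 + (t + 1) + 1) + 1 := by ring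
    omega
  set n := (t + 1) ^ 2 + (t + 1) + 1 with hn
  have ht : 0 < t := by omega
  have hn0 : 0 < n := by omega
  have hord0 : orderOf x₀ = t * n := by
    rw [orderOf_eq_card_of_forall_mem_zpowers hgen, hcardU, hfac]
  set u : Lˣ := x₀ ^ t with hu
  have hordu : orderOf u = n := by
    rw [hu, orderOf_pow' _ ht.ne', hord0, Nat.gcd_eq_right (Nat.dvd_mul_right t n)]
    exact Nat.mul_div_cancel_left n ht
  set s : L := (u : L) with hsdef
  have hs : orderOf s = (t + 1) ^ 2 + (t + 1) + 1 := by
    rw [hsdef, orderOf_units, hordu]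
  have hnorm := norm_s hL hq hs
  set A : SL(3, F) := As hL s hnorm with hA
  have hs1 : s ≠ 1 := by
    intro h
    rw [h, orderOf_one] at hs
    omega
  have hdet : (A.1 - 1).det ≠ 0 := det_sub_one hL hq hs hs1
  have hnc := not_conj hL hq hq3 hs hnorm
  set σ : Aut8 F := sl3Hom A with hσ
  set τ : chevG2.group F := rhoE.symm σ with hτ
  have hordA : orderOf A = orderOf s := by
    rw [orderOf_eq_orderOf_iff]
    intro k
    constructor
    · intro h
      have h1 := congrArg (fun B : SL(3, F) => (B : Matrix (Fin 3) (Fin 3) F)) h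
      simp only [Matrix.SpecialLinearGroup.coe_pow, Matrix.SpecialLinearGroup.coe_one] at h1
      apply lm_inj hL
      rw [map_pow, map_one]
      exact h1
    · intro h
      apply Subtype.ext
      change (A ^ k : SL(3, F)).1 = 1
      rw [Matrix.SpecialLinearGroup.coe_pow]
      change (lm hL s) ^ k = 1
      rw [← map_pow, h, map_one]
  have hordτ : orderOf τ = n := by
    rw [hτ, MulEquiv.orderOf_eq, hσ, orderOf_injective _ sl3Hom_inj, hordA, hs]
  refine ⟨Subgroup.zpowers τ, inferInstance, ?_, ?_⟩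
  · rw [Nat.card_zpowers, hordτ]
  · apply le_antisymm
    · intro g hg
      have hc : g * τ = τ * g := ((Subgroup.mem_centralizer_iff.1 hg) τ (Subgroup.mem_zpowers τ)).symm
      have hc2 : rhoE g * σ = σ * rhoE g := by
        have := congrArg rhoE hc
        simpa [hτ] using this
      obtain ⟨B, hB1, hB2⟩ := cent_sl3 A hdet hnc (rhoE g) hc2
      have hB3 : B.1 * lm hL s = lm hL s * B.1 := by
        have := congrArg (fun C : SL(3, F) => (C : Matrix (Fin 3) (Fin 3) F)) hB2
        simp only [Matrix.SpecialLinearGroup.coe_mul] at this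
        exact this
      obtain ⟨z, hz⟩ := comm_lm hL hq hq3 hs B.1 hB3
      have hnz : Algebra.norm F z = 1 := by
        rw [← det_lm hL, ← hz]
        exact B.2
      have hz0 : z ≠ 0 := by
        rintro rfl
        rw [Algebra.norm_zero] at hnz
        exact zero_ne_one hnz
      have hzn : z ^ n = 1 := by
        have := norm_eq hL z
        rw [hnz, map_one, hq] at this
        exact this.symm
      set w : Lˣ := Units.mk0 z hz0 with hw
      have hwn : w ^ n = 1 := by
        apply Units.ext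
        simpa [hw] using hzn
      obtain ⟨k, hk⟩ := Subgroup.mem_zpowers_iff.1 (hgen w)
      have hdvd : ((t * n : ℕ) : ℤ) ∣ k * n := by
        rw [← hord0, orderOf_dvd_iff_zpow_eq_one]
        rw [_root_.zpow_mul, hk, zpow_natCast, hwn]
      have hdvd2 : (t : ℤ) ∣ k := by
        have h1 : ((t : ℤ) * n) ∣ k * n := by
          exact_mod_cast hdvd
        exact (mul_dvd_mul_iff_right (by exact_mod_cast hn0.ne')).1 h1
      obtain ⟨j, rfl⟩ := hdvd2
      have hwu : w = u ^ j := by
        rw [← hk, _root_.zpow_mul, hu, zpow_natCast]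
      obtain ⟨m, hm⟩ : w ∈ Submonoid.powers u :=
        (mem_powers_iff_mem_zpowers).2 (Subgroup.mem_zpowers_iff.2 ⟨j, hwu.symm⟩)
      have hzs : z = s ^ m := by
        have := congrArg (fun v : Lˣ => (v : L)) hm
        simpa [hw, hsdef] using this.symm
      -- now `B = A ^ m`
      have hBA : B = A ^ m := by
        apply Subtype.ext
        change B.1 = (A ^ m : SL(3, F)).1
        rw [Matrix.SpecialLinearGroup.coe_pow]
        change B.1 = (lm hL s) ^ m
        rw [hz, hzs, map_pow]
      refine Subgroup.mem_zpowers_iff.2 ⟨(m : ℤ), ?_⟩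
      apply rhoE.injective
      rw [zpow_natCast, map_pow, hτ, MulEquiv.apply_symm_apply, hB1, hBA, map_pow]
    · intro g hg
      rw [Subgroup.mem_centralizer_iff]
      intro h hh
      obtain ⟨a, rfl⟩ := Subgroup.mem_zpowers_iff.1 hg
      obtain ⟨b, rfl⟩ := Subgroup.mem_zpowers_iff.1 hh
      exact ((Commute.refl τ).zpow_zpow b a).eq

end Cfsg.Agent.Lib.G2Oct.Singer3
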